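import Mathlib
import Cfsg.Agent.Helper9.BRDefs
import Cfsg.Agent.Helper82.A7Defs
import Cfsg.Agent.Helper14.A7MONO

/-!
# CALL S0984, piece FIXV (helper14)
-/

set_option autoImplicit false
set_option linter.style.haveILetI false
open Cfsg
open scoped ComplexConjugate

universe u

namespace Cfsg.Agent.Helper14

/-- PIECE FIXV -/
theorem a7_fixvec {G : Type u} [Group G] [Finite G] (χ : Cfsg.IrrCharacter G)
    (hχ : (χ : G → ℂ) 1 ≠ 1) (N T U : Subgroup G) (hUN : U ≤ N) (hUT : U ≤ T)
    (hsum : (Nat.card T : ℂ) * ∑ᶠ g ∈ (U : Set G), (χ : G → ℂ) g =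
      (Nat.card U : ℂ) * ∑ᶠ g ∈ (T : Set G), (χ : G → ℂ) g)
    (hN : ∑ᶠ g ∈ (N : Set G), (χ : G → ℂ) g ≠ 0) :
    ∃ S : Subgroup G, N ≤ S ∧ T ≤ S ∧ S ≠ ⊤ := by
  classical
  obtain ⟨n, ρ, hirr, hρ⟩ := χ.2
  rw [← hρ] at hχ hsum hN
  rw [a7_sum_eq_finrank ρ U, a7_sum_eq_finrank ρ T] at hsum
  rw [a7_sum_eq_finrank ρ N] at hN
  have hT0 : (Nat.card T : ℂ) ≠ 0 := by exact_mod_cast Nat.card_pos.ne'
  have hU0 : (Nat.card U : ℂ) ≠ 0 := by exact_mod_cast Nat.card_pos.ne'
  have hfr : Module.finrank ℂ (Representation.invariants (ρ.comp U.subtype)) =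
      Module.finrank ℂ (Representation.invariants (ρ.comp T.subtype)) := by
    have h1 : (Nat.card T : ℂ) * (Nat.card U : ℂ) *
        (Module.finrank ℂ (Representation.invariants (ρ.comp U.subtype)) : ℂ) =
        (Nat.card T : ℂ) * (Nat.card U : ℂ) *
        (Module.finrank ℂ (Representation.invariants (ρ.comp T.subtype)) : ℂ) := by
      linear_combination hsum
    exact_mod_cast mul_left_cancel₀ (mul_ne_zero hT0 hU0) h1
  have hTU := a7_inv_mono ρ hUT
  have hNU := a7_inv_mono ρ hUN
  have heq : Representation.invariants (ρ.comp T.subtype) =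
      Representation.invariants (ρ.comp U.subtype) :=
    Submodule.eq_of_le_of_finrank_eq hTU hfr.symm
  have hNne : Representation.invariants (ρ.comp N.subtype) ≠ ⊥ := by
    intro h
    apply hN
    rw [h]
    simp
  obtain ⟨v, hvN, hv0⟩ := Submodule.exists_mem_ne_zero_of_ne_bot hNne
  have hvT : v ∈ Representation.invariants (ρ.comp T.subtype) := by
    rw [heq]; exact hNU hvN
  let S : Subgroup G :=
    { carrier := {g | ρ g v = v}
      mul_mem' := by
        intro a b ha hb
        simp only [Set.mem_setOf_eq] at *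
        rw [map_mul, Module.End.mul_apply, hb, ha]
      one_mem' := by simp
      inv_mem' := by
        intro a ha
        simp only [Set.mem_setOf_eq] at *
        have h1 : ρ a⁻¹ (ρ a v) = v := by
          rw [← Module.End.mul_apply, ← map_mul, inv_mul_cancel, map_one]; rfl
        rwa [ha] at h1 }
  refine ⟨S, fun g hg => hvN ⟨g, hg⟩, fun g hg => hvT ⟨g, hg⟩, fun hS => ?_⟩
  have hinv : ∀ g, ρ g v = v := fun g => by
    have : g ∈ S := by rw [hS]; exact Subgroup.mem_top g
    exact this
  let L : Subrepresentation ρ := ⟨Submodule.span ℂ {v}, fun g w hw => by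
    obtain ⟨c, rfl⟩ := Submodule.mem_span_singleton.1 hw
    rw [map_smul, hinv g]
    exact Submodule.smul_mem _ c (Submodule.mem_span_singleton_self v)⟩
  rcases hirr.eq_bot_or_eq_top L with h | h
  · have hmem : v ∈ L.toSubmodule := Submodule.mem_span_singleton_self v
    rw [h] at hmem
    exact hv0 ((Submodule.mem_bot ℂ).1 hmem)
  · have htop : Submodule.span ℂ {v} = ⊤ := congrArg Subrepresentation.toSubmodule h
    have h1 : Module.finrank ℂ (Fin n → ℂ) = 1 := by
      rw [← finrank_top ℂ (Fin n → ℂ), ← htop]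
      exact finrank_span_singleton hv0
    apply hχ
    rw [Representation.char_one, h1]
    simp

end Cfsg.Agent.Helper14
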