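import Mathlib
import Cfsg.Prelude.Def_OddOrderLocal

/-!
# CALL BGC, piece CD (helper14), with CJ inlined as `bgc_conj_compl'`
-/

set_option autoImplicit false

namespace Cfsg.Agent.Helper14

open Cfsg Subgroup

universe u

variable {G : Type u} [Group G] [Finite G]

/-- CJ (PURE). `N = E S` with `S` normal in `N`, `E ∩ S = 1`; `x ∈ E`, `c ∈ N`, `c⁻¹ x c ∈ E`.
Then `c = r e` with `r ∈ C_S(x)`, `e ∈ E`. -/
theorem bgc_conj_compl' {N S E : Subgroup G} (hE : IsComplIn E S N)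
    (hSn : N ≤ normalizer (S : Set G)) {x c : G} (hx : x ∈ E) (hc : c ∈ N)
    (hcx : c⁻¹ * x * c ∈ E) :
    ∃ r ∈ S ⊓ centralizer ({x} : Set G), ∃ e ∈ E, c = r * e := by
  obtain ⟨hEN, hSN, hES, hprod⟩ := hE
  obtain ⟨e₀, he₀, s₀, hs₀, rfl⟩ := hprod c hc
  -- x₁ := e₀⁻¹ x e₀
  have hx₁ : e₀⁻¹ * x * e₀ ∈ E := E.mul_mem (E.mul_mem (E.inv_mem he₀) hx) he₀
  have hx₁N : e₀⁻¹ * x * e₀ ∈ normalizer (S : Set G) := hSn (hEN hx₁)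
  -- the commutator lies in E ⊓ S
  have hcomm : (e₀⁻¹ * x * e₀)⁻¹ * (s₀⁻¹ * (e₀⁻¹ * x * e₀) * s₀) ∈ E ⊓ S := by
    refine ⟨E.mul_mem (E.inv_mem hx₁) ?_, ?_⟩
    · have e : s₀⁻¹ * (e₀⁻¹ * x * e₀) * s₀ = (e₀ * s₀)⁻¹ * x * (e₀ * s₀) := by group
      rw [e]; exact hcx
    · have h1 : (e₀⁻¹ * x * e₀)⁻¹ * s₀⁻¹ * (e₀⁻¹ * x * e₀) ∈ S := by
        have := (Subgroup.mem_normalizer_iff''.1 hx₁N s₀⁻¹).1 (S.inv_mem hs₀)
        exact this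
      have e : (e₀⁻¹ * x * e₀)⁻¹ * (s₀⁻¹ * (e₀⁻¹ * x * e₀) * s₀) =
          ((e₀⁻¹ * x * e₀)⁻¹ * s₀⁻¹ * (e₀⁻¹ * x * e₀)) * s₀ := by group
      rw [e]; exact S.mul_mem h1 hs₀
  rw [hES, Subgroup.mem_bot] at hcomm
  -- s₀ commutes with x₁
  have hcm : (e₀⁻¹ * x * e₀) * s₀ = s₀ * (e₀⁻¹ * x * e₀) := by
    have e : (e₀⁻¹ * x * e₀) * s₀ =
        s₀ * (e₀⁻¹ * x * e₀) * ((e₀⁻¹ * x * e₀)⁻¹ * (s₀⁻¹ * (e₀⁻¹ * x * e₀) * s₀)) := by group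
    rw [e, hcomm, mul_one]
  refine ⟨e₀ * s₀ * e₀⁻¹, Subgroup.mem_inf.2 ⟨?_, ?_⟩, e₀, he₀, by group⟩
  · exact (Subgroup.mem_normalizer_iff.1 (hSn (hEN he₀)) s₀).1 hs₀
  · rw [Subgroup.mem_centralizer_iff]
    intro h hh
    rw [Set.mem_singleton_iff] at hh
    subst hh
    calc h * (e₀ * s₀ * e₀⁻¹) = e₀ * ((e₀⁻¹ * h * e₀) * s₀) * e₀⁻¹ := by group
      _ = e₀ * (s₀ * (e₀⁻¹ * h * e₀)) * e₀⁻¹ := by rw [hcm]
      _ = e₀ * s₀ * e₀⁻¹ * h := by group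

/-- CD (PURE; CJ applied to `c⁻¹` for `c ∈ C_G(x)`). -/
theorem bgc_cent_compl {N S E : Subgroup G} (hE : IsComplIn E S N)
    (hSn : N ≤ normalizer (S : Set G)) {x : G} (hx : x ∈ E)
    (hCN : centralizer ({x} : Set G) ≤ N) :
    IsComplIn (E ⊓ centralizer ({x} : Set G)) (S ⊓ centralizer ({x} : Set G))
      (centralizer ({x} : Set G)) := by
  refine ⟨inf_le_right, inf_le_right, ?_, fun m hm => ?_⟩
  · apply le_antisymm _ bot_le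
    rw [← hE.2.2.1]
    exact fun g hg => Subgroup.mem_inf.2
      ⟨(Subgroup.mem_inf.1 (Subgroup.mem_inf.1 hg).1).1, (Subgroup.mem_inf.1 (Subgroup.mem_inf.1 hg).2).1⟩
  · have hmx : x * m = m * x := by
      rw [Subgroup.mem_centralizer_iff] at hm
      exact hm x (Set.mem_singleton x)
    have hcx : (m⁻¹)⁻¹ * x * m⁻¹ ∈ E := by
      have e : (m⁻¹)⁻¹ * x * m⁻¹ = x := by
        rw [inv_inv, ← hmx, mul_assoc, mul_inv_cancel, mul_one]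
      rw [e]; exact hx
    obtain ⟨r, hr, e, he, hme⟩ := bgc_conj_compl' hE hSn hx (N.inv_mem (hCN hm)) hcx
    have hm' : m = e⁻¹ * r⁻¹ := by
      have : m = (m⁻¹)⁻¹ := (inv_inv m).symm
      rw [this, hme, mul_inv_rev]
    have heC : e ∈ centralizer ({x} : Set G) := by
      have : e = r⁻¹ * m⁻¹ := by rw [hme]; group
      rw [this]
      exact Subgroup.mul_mem _ (Subgroup.inv_mem _ (Subgroup.mem_inf.1 hr).2) (Subgroup.inv_mem _ hm)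
    have hr' := Subgroup.mem_inf.1 hr
    exact ⟨e⁻¹, Subgroup.mem_inf.2 ⟨E.inv_mem he, Subgroup.inv_mem _ heC⟩, r⁻¹,
      Subgroup.mem_inf.2 ⟨S.inv_mem hr'.1, Subgroup.inv_mem _ hr'.2⟩, hm'⟩

end Cfsg.Agent.Helper14
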