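import Mathlib
import Cfsg.Prelude.Def_OddOrderLocal
import Cfsg.Agent.Helper14.BGCCD

/-!
# CALL BGC, piece CJ (helper14): verbatim name for `bgc_conj_compl'`
-/

set_option autoImplicit false

namespace Cfsg.Agent.Helper14

open Cfsg Subgroup

universe u

variable {G : Type u} [Group G] [Finite G]

/-- CJ (PURE). `N = E S` with `S` normal in `N`, `E ∩ S = 1`; `x ∈ E`, `c ∈ N`, `c⁻¹ x c ∈ E`.
Then `c = r e` with `r ∈ C_S(x)`, `e ∈ E`. -/
theorem bgc_conj_compl {N S E : Subgroup G} (hE : IsComplIn E S N)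
    (hSn : N ≤ normalizer (S : Set G)) {x c : G} (hx : x ∈ E) (hc : c ∈ N)
    (hcx : c⁻¹ * x * c ∈ E) :
    ∃ r ∈ S ⊓ centralizer ({x} : Set G), ∃ e ∈ E, c = r * e := by
  exact bgc_conj_compl' hE hSn hx hc hcx

end Cfsg.Agent.Helper14
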