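-- helper14 library: piece ORD1 of helper35's CALL S5877.
import Mathlib
import Cfsg.Prelude.Def_GeometricClasses
import Cfsg.Agent.Helper14.C6eSUMLE
import Cfsg.Agent.Helper14.C6eDEC
import Cfsg.Agent.Helper14.C6eEIG
import Cfsg.Agent.Helper14.C6eORD0

set_option autoImplicit false
open Cfsg Cfsg.Geo Matrix Module

namespace Cfsg.Agent.Helper14

theorem c6e_tri_two (k : ℕ) :
    ((∑ i ∈ Finset.range (k + 1), i : ℕ) : ℤ) * 2 = ((k : ℤ) + 1) * k := by
  have h := Finset.sum_range_id_mul_two (k + 1)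
  rw [Nat.add_sub_cancel] at h
  exact_mod_cast h

theorem c6e_tri_inj {F : Type*} [Field F] {r : ℕ} (hr : r.Prime) (ξ : F)
    (hξ : IsPrimitiveRoot ξ r) (k k' : ℕ) (hk : k < r) (hk' : k' < r)
    (h : ξ ^ (∑ i ∈ Finset.range (k + 1), i) = ξ ^ (∑ i ∈ Finset.range (k' + 1), i)) :
    k = k' ∨ r ∣ k + k' + 1 := by
  have hξ0 : ξ ≠ 0 := hξ.ne_zero hr.ne_zero
  have h1 : ξ ^ (((∑ i ∈ Finset.range (k + 1), i : ℕ) : ℤ)
      - ((∑ i ∈ Finset.range (k' + 1), i : ℕ) : ℤ)) = 1 := by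
    rw [zpow_sub₀ hξ0, zpow_natCast, zpow_natCast, h]
    exact div_self (pow_ne_zero _ hξ0)
  rw [hξ.zpow_eq_one_iff_dvd] at h1
  have h2 : (r : ℤ) ∣ ((k : ℤ) - k') * ((k : ℤ) + k' + 1) := by
    have h3 := Dvd.dvd.mul_right h1 2
    have e : (((∑ i ∈ Finset.range (k + 1), i : ℕ) : ℤ)
        - ((∑ i ∈ Finset.range (k' + 1), i : ℕ) : ℤ)) * 2
        = ((k : ℤ) - k') * ((k : ℤ) + k' + 1) := by
      rw [sub_mul, c6e_tri_two, c6e_tri_two]
      ring
    rwa [e] at h3
  rcases Int.Prime.dvd_mul' hr h2 with h3 | h3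
  · left
    have h4 : (k : ℤ) - k' = 0 := by
      apply Int.eq_zero_of_abs_lt_dvd h3
      rw [abs_lt]
      constructor <;> omega
    omega
  · right
    exact_mod_cast h3

theorem c6e_order_r_noncomm {F : Type*} [Field F] {n r : ℕ} (hr : r.Prime) (hr5 : 5 ≤ r)
    (g a u : GL (Fin n) F) (hg : g ^ r = 1) (hag : Commute a g) (hu : u⁻¹ * g * u = a * g)
    (ξ : F) (hξ : IsPrimitiveRoot ξ r) (hua : (u * a * u⁻¹ : GL (Fin n) F).val = ξ • a.val)
    (hbound : ∀ μ : F,
      r * finrank F (Module.End.eigenspace (Matrix.toLin' (a : Matrix (Fin n) (Fin n) F)) μ) ≤ n)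
    (c : F) :
    2 * finrank F (Module.End.eigenspace (Matrix.toLin' (g : Matrix (Fin n) (Fin n) F)) c) ≤ n := by
  by_cases hc : c = 0
  · rw [hc, c6e_eig_zero g]
    omega
  have hr0 : 0 < r := hr.pos
  have hξ0 : ξ ≠ 0 := hξ.ne_zero hr.ne_zero
  have har := c6e_a_pow g a u hg hag hu
  have hframe := c6e_frame hr0 g a hag har ξ hξ c
  have hgu : g * u = u * (a * g) := by rw [← hu]; group
  have hzy : (u : Matrix (Fin n) (Fin n) F) * (a : Matrix (Fin n) (Fin n) F)
      = ξ • ((a : Matrix (Fin n) (Fin n) F) * (u : Matrix (Fin n) (Fin n) F)) := by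
    have h1 : ((u * a * u⁻¹ : GL (Fin n) F).val) * (u : Matrix (Fin n) (Fin n) F)
        = (u : Matrix (Fin n) (Fin n) F) * (a : Matrix (Fin n) (Fin n) F) := by
      rw [← Units.val_mul, ← Units.val_mul]
      congr 1
      group
    rw [← h1, hua, Matrix.smul_mul]
  have hyz : (a : Matrix (Fin n) (Fin n) F) * (u : Matrix (Fin n) (Fin n) F)
      = ξ⁻¹ • ((u : Matrix (Fin n) (Fin n) F) * (a : Matrix (Fin n) (Fin n) F)) := by
    rw [hzy, smul_smul, inv_mul_cancel₀ hξ0, one_smul]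
  have hshift : ∀ (lam μ : F),
      finrank F ((Module.End.eigenspace (Matrix.toLin' (a : Matrix (Fin n) (Fin n) F)) lam ⊓
        Module.End.eigenspace (Matrix.toLin' (g : Matrix (Fin n) (Fin n) F)) μ :
          Submodule F (Fin n → F)))
      ≤ finrank F ((Module.End.eigenspace (Matrix.toLin' (a : Matrix (Fin n) (Fin n) F))
          (ξ⁻¹ * lam) ⊓
        Module.End.eigenspace (Matrix.toLin' (g : Matrix (Fin n) (Fin n) F)) (μ * lam) :
          Submodule F (Fin n → F))) := by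
    intro lam μ
    apply c6e_finrank_le_of_map u
    intro v hv
    rw [Submodule.mem_inf, c6e_mem_eig, c6e_mem_eig] at hv ⊢
    obtain ⟨hv1, hv2⟩ := hv
    refine ⟨?_, ?_⟩
    · rw [Matrix.mulVec_mulVec, hyz, Matrix.smul_mulVec, ← Matrix.mulVec_mulVec, hv1,
        Matrix.mulVec_smul, smul_smul]
    · rw [← c6e_gl_mulVec g u v, hgu, c6e_gl_mulVec u (a * g) v, c6e_gl_mulVec a g v, hv2,
        Matrix.mulVec_smul, hv1, smul_smul, Matrix.mulVec_smul]
  have hP : ∀ (k : ℕ) (μ : F),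
      finrank F ((Module.End.eigenspace (Matrix.toLin' (a : Matrix (Fin n) (Fin n) F)) (ξ ^ k) ⊓
        Module.End.eigenspace (Matrix.toLin' (g : Matrix (Fin n) (Fin n) F)) μ :
          Submodule F (Fin n → F)))
      ≤ finrank F ((Module.End.eigenspace (Matrix.toLin' (a : Matrix (Fin n) (Fin n) F)) 1 ⊓
        Module.End.eigenspace (Matrix.toLin' (g : Matrix (Fin n) (Fin n) F))
          (μ * ξ ^ (∑ i ∈ Finset.range (k + 1), i)) : Submodule F (Fin n → F))) := by
    intro k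
    induction k with
    | zero =>
      intro μ
      have e1 : μ * ξ ^ (∑ i ∈ Finset.range (0 + 1), i) = μ := by simp
      rw [e1, pow_zero]
    | succ k ih =>
      intro μ
      have h1 := hshift (ξ ^ (k + 1)) μ
      have e1 : ξ⁻¹ * ξ ^ (k + 1) = ξ ^ k := by
        rw [pow_succ', ← mul_assoc, inv_mul_cancel₀ hξ0, one_mul]
      rw [e1] at h1
      refine h1.trans ?_
      have h2 := ih (μ * ξ ^ (k + 1))
      have e2 : μ * ξ ^ (k + 1) * ξ ^ (∑ i ∈ Finset.range (k + 1), i)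
          = μ * ξ ^ (∑ i ∈ Finset.range (k + 1 + 1), i) := by
        rw [Finset.sum_range_succ _ (k + 1), mul_assoc, ← pow_add, add_comm]
      rwa [e2] at h2
  obtain ⟨E, hE⟩ : ∃ E : ℕ, E = finrank F
      (Module.End.eigenspace (Matrix.toLin' (a : Matrix (Fin n) (Fin n) F)) 1) := ⟨_, rfl⟩
  obtain ⟨y, hy⟩ : ∃ y : ℕ → ℕ, y = fun k =>
      finrank F ((Module.End.eigenspace (Matrix.toLin' (a : Matrix (Fin n) (Fin n) F)) 1 ⊓
        Module.End.eigenspace (Matrix.toLin' (g : Matrix (Fin n) (Fin n) F))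
          (c * ξ ^ (∑ i ∈ Finset.range (k + 1), i)) : Submodule F (Fin n → F))) := ⟨_, rfl⟩
  have hD : finrank F (Module.End.eigenspace (Matrix.toLin' (g : Matrix (Fin n) (Fin n) F)) c)
      ≤ ∑ k ∈ Finset.range r, y k := by
    refine hframe.trans (Finset.sum_le_sum (fun k _ => ?_))
    rw [hy, c6e_inf_comm_finrank]
    exact hP k c
  have hhalf : ∀ (S : Finset ℕ),
      (∀ k ∈ S, ∀ k' ∈ S, ξ ^ (∑ i ∈ Finset.range (k + 1), i)
        = ξ ^ (∑ i ∈ Finset.range (k' + 1), i) → k = k') → ∑ k ∈ S, y k ≤ E := by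
    intro S hS
    rw [hy, hE]
    exact c6e_sum_le (Matrix.toLin' (g : Matrix (Fin n) (Fin n) F))
      (Module.End.eigenspace (Matrix.toLin' (a : Matrix (Fin n) (Fin n) F)) 1) S
      (fun k => c * ξ ^ (∑ i ∈ Finset.range (k + 1), i)) (by
        intro k1 hk1 k2 hk2 hkk
        exact hS k1 hk1 k2 hk2 (mul_left_cancel₀ hc hkk))
  have hsum : ∑ k ∈ Finset.range r, y k ≤ E + E := by
    rw [← Finset.sum_filter_add_sum_filter_not (Finset.range r) (fun k => 2 * k + 1 ≤ r) y]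
    refine add_le_add (hhalf _ ?_) (hhalf _ ?_)
    · intro k hk k' hk' hkk
      rw [Finset.mem_filter, Finset.mem_range] at hk hk'
      rcases c6e_tri_inj hr ξ hξ k k' hk.1 hk'.1 hkk with h | h
      · exact h
      · have := Nat.le_of_dvd (by omega) h
        omega
    · intro k hk k' hk' hkk
      rw [Finset.mem_filter, Finset.mem_range] at hk hk'
      rcases c6e_tri_inj hr ξ hξ k k' hk.1 hk'.1 hkk with h | h
      · exact h
      · exfalso
        have := Nat.eq_of_dvd_of_lt_two_mul (by omega) h (by omega)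
        omega
  have h3 : r * E ≤ n := by rw [hE]; exact hbound 1
  have h4 : finrank F (Module.End.eigenspace (Matrix.toLin' (g : Matrix (Fin n) (Fin n) F)) c)
      ≤ 2 * E := by omega
  have h5 : r * finrank F (Module.End.eigenspace (Matrix.toLin' (g : Matrix (Fin n) (Fin n) F)) c)
      ≤ r * (2 * E) := Nat.mul_le_mul_left r h4
  have h6 : r * (2 * E) = 2 * (r * E) := by ring
  have h9 : 5 * finrank F (Module.End.eigenspace
      (Matrix.toLin' (g : Matrix (Fin n) (Fin n) F)) c)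
      ≤ r * finrank F (Module.End.eigenspace
      (Matrix.toLin' (g : Matrix (Fin n) (Fin n) F)) c) := Nat.mul_le_mul_right _ hr5
  omega

end Cfsg.Agent.Helper14
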