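import Mathlib
import Cfsg.Prelude.Def_Characters
import Cfsg.Prelude.Def_OddOrderChar
import Cfsg.Agent.Helper3.IndFun
import Cfsg.Agent.Helper3.Exceptional
import Cfsg.Agent.Helper15.CharInner
import Cfsg.Agent.Helper4.GenChar1
import Cfsg.Agent.Helper79.Normal
import Cfsg.Agent.Helper79.Codegree
import Cfsg.Agent.Helper80.CharNormal

/-!
# Consequences of coherence for a T.I. subgroup with Frobenius-like normalizer (helper14)

Setting: `K ≤ G`, `N = N_G(K)`, `K` is T.I. (`hTI`), `C_G(k) ≤ K` for `1 ≠ k ∈ K` (`hC`),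
`S` = irreducible characters of `N` not trivial on `K`, `star` a linear isometry on `zspan S`
extending induction on the members vanishing at `1`.

* `exists_conj_eq_mul`, `vanish_off`: members of `S` vanish on `N \ K`.
* `zspan_props`: members of `zspan S` are class functions vanishing off `K`.
* `star_comb`, `comb_apply`, `comb_inner`: the basic relations for `ξ(1)χ - χ(1)ξ`.
* `sum_nonS_sq`: `∑_{θ ∉ S} θ(1)² = [N:K]`.
* `restrict_formula`: values on `K \ {1}` of a class function of `G`.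
* `star_apply`: `star χ₀ k = χ₀ k - conj D * e + Λ` on `K \ {1}`.
-/

set_option autoImplicit false

namespace Cfsg.Agent.Helper14.Coh

open Cfsg
open scoped ComplexConjugate

theorem nat_dvd_aux (γ e κ W : ℕ) (hκ : 0 < κ) (h1 : γ ∣ κ * e) (h2 : γ ^ 2 ∣ W)
    (h3 : W + e = κ * e) : γ ∣ e := by
  obtain ⟨j, rfl⟩ : ∃ j, κ = j + 1 := ⟨κ - 1, by omega⟩
  have hW : W = j * e := by
    have h4 : (j + 1) * e = j * e + e := by ring
    rw [h4] at h3
    exact Nat.add_right_cancel h3
  subst hW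
  have h5 : γ ^ 2 ∣ e ^ 2 * (j + 1) ^ 2 := by
    have := pow_dvd_pow_of_dvd h1 2
    rwa [mul_pow, mul_comm] at this
  have h6 : γ ^ 2 ∣ e ^ 2 * j := dvd_trans h2 ⟨e, by ring⟩
  have h7 := Nat.dvd_gcd h5 h6
  rw [Nat.gcd_mul_left] at h7
  have h8 : Nat.gcd ((j + 1) ^ 2) j = 1 := by
    have : Nat.Coprime (j + 1) j := by simp
    exact Nat.Coprime.pow_left 2 this
  rw [h8, mul_one] at h7
  exact (Nat.pow_dvd_pow_iff (by norm_num)).mp h7

theorem int_ideal_aux (c : ℂ) (e : ℕ) (P : ℕ → Prop)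
    (hP : ∀ γ : ℕ, (∀ d, P d → γ ∣ d) → γ ∣ e)
    (hc : ∀ d, P d → ∃ z : ℤ, c * (d : ℂ) = z) : ∃ m : ℤ, c * (e : ℂ) = m := by
  let I : Ideal ℤ :=
    { carrier := {n : ℤ | ∃ z : ℤ, c * (n : ℂ) = z}
      add_mem' := by
        rintro a b ⟨z₁, h₁⟩ ⟨z₂, h₂⟩
        exact ⟨z₁ + z₂, by push_cast; rw [mul_add, h₁, h₂]⟩
      zero_mem' := ⟨0, by simp⟩
      smul_mem' := by
        rintro r n ⟨z, hz⟩
        refine ⟨r * z, ?_⟩
        rw [smul_eq_mul]
        push_cast
        rw [← hz]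
        ring }
  obtain ⟨g, hg⟩ := Submodule.IsPrincipal.principal I
  have hmem : ∀ n : ℤ, n ∈ I ↔ g ∣ n := by
    intro n
    rw [hg]
    exact Ideal.mem_span_singleton
  have hγ : g.natAbs ∣ e := by
    apply hP
    intro d hd
    have h1 : (d : ℤ) ∈ I := by
      obtain ⟨z, hz⟩ := hc d hd
      exact ⟨z, by exact_mod_cast hz⟩
    have h2 := (hmem _).mp h1
    exact Int.natAbs_dvd_natAbs.mpr h2 |> fun h => by simpa using h
  have he : (e : ℤ) ∈ I := by
    rw [hmem]
    exact Int.natAbs_dvd.mp (by exact_mod_cast hγ)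
  obtain ⟨m, hm⟩ := he
  exact ⟨m, by exact_mod_cast hm⟩

section general

variable {L : Type*} [Group L]

/-- The basic combination `ξ(1) χ - χ(1) ξ`. -/
noncomputable def comb (χ ξ : L → ℂ) : L → ℂ :=
  (charDegree ξ : ℤ) • χ - (charDegree χ : ℤ) • ξ

theorem comb_apply' (χ ξ : L → ℂ) (x : L) :
    comb χ ξ x = (charDegree ξ : ℂ) * χ x - (charDegree χ : ℂ) * ξ x := by
  unfold comb
  simp [zsmul_eq_mul]

theorem comb_mem_zspan (S : Set (L → ℂ)) {χ ξ : L → ℂ} (hχ : χ ∈ S) (hξ : ξ ∈ S) :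
    comb χ ξ ∈ zspan S := by
  unfold comb zspan
  exact Submodule.sub_mem _ (Submodule.smul_mem _ _ (Submodule.subset_span hχ))
    (Submodule.smul_mem _ _ (Submodule.subset_span hξ))

theorem comb_one {χ ξ : L → ℂ} (hχ : IsCharacter L χ) (hξ : IsCharacter L ξ) :
    comb χ ξ 1 = 0 := by
  rw [comb_apply', Helper80.isCharacter_one_eq hχ, Helper80.isCharacter_one_eq hξ]
  ring

theorem classInner_zsmul_left [Fintype L] (n : ℤ) (a c : L → ℂ) :
    classInner (n • a) c = (n : ℂ) * classInner a c := by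
  rw [← Int.cast_smul_eq_zsmul ℂ n a, Helper15.classInner_smul_left]

theorem comb_inner [Fintype L] (χ ξ c : L → ℂ) :
    classInner (comb χ ξ) c =
      (charDegree ξ : ℂ) * classInner χ c - (charDegree χ : ℂ) * classInner ξ c := by
  unfold comb
  rw [Helper3.classInner_sub_left, classInner_zsmul_left, classInner_zsmul_left]
  simp

theorem genChar_inner_int [Fintype L] {φ θ : L → ℂ} (hφ : IsGeneralizedCharacter L φ)
    (hθ : IsCharacter L θ) : ∃ z : ℤ, classInner φ θ = z := by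
  obtain ⟨a, b, ha, hb, rfl⟩ := hφ
  obtain ⟨n₁, h₁⟩ := Helper15.inner_nat ha hθ
  obtain ⟨n₂, h₂⟩ := Helper15.inner_nat hb hθ
  refine ⟨(n₁ : ℤ) - n₂, ?_⟩
  rw [Helper3.classInner_sub_left, h₁, h₂]
  push_cast
  rfl

theorem genChar_inner_int' [Fintype L] {φ θ : L → ℂ} (hφ : IsGeneralizedCharacter L φ)
    (hθ : IsCharacter L θ) : ∃ z : ℤ, classInner θ φ = z := by
  obtain ⟨z, hz⟩ := genChar_inner_int hφ hθ
  refine ⟨z, ?_⟩
  rw [Helper15.classInner_conj_symm, hz]
  simp

theorem genChar_isClassFunction {φ : L → ℂ} (hφ : IsGeneralizedCharacter L φ) :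
    IsClassFunction L φ := by
  obtain ⟨a, b, ha, hb, rfl⟩ := hφ
  intro g h
  simp only [Pi.sub_apply]
  rw [Helper79.isCharacter_isClassFunction ha g h, Helper79.isCharacter_isClassFunction hb g h]

theorem genChar_restrict {G : Type*} [Group G] {φ : G → ℂ} (hφ : IsGeneralizedCharacter G φ)
    (H : Subgroup G) : IsGeneralizedCharacter H (fun x : H => φ x) := by
  obtain ⟨a, b, ha, hb, rfl⟩ := hφ
  exact ⟨_, _, Helper79.isCharacter_restrict ha H, Helper79.isCharacter_restrict hb H, rfl⟩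

/-- The extending isometry on the basic combination. -/
theorem star_comb {G : Type*} [Group G] [Fintype G] [Fintype L] (S : Set (L → ℂ))
    (star : (L → ℂ) → (G → ℂ)) (hstar : IsLinearIsometryOn (zspan S) star)
    {χ ξ : L → ℂ} (hχ : χ ∈ S) (hξ : ξ ∈ S) :
    star (comb χ ξ) = (charDegree ξ : ℤ) • star χ - (charDegree χ : ℤ) • star ξ := by
  obtain ⟨hadd, hsmul, -, -⟩ := hstar
  have hχ' : χ ∈ zspan S := Submodule.subset_span hχ
  have hξ' : ξ ∈ zspan S := Submodule.subset_span hξ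
  have h1 : (charDegree ξ : ℤ) • χ ∈ zspan S := Submodule.smul_mem _ _ hχ'
  have h2 : (charDegree χ : ℤ) • ξ ∈ zspan S := Submodule.smul_mem _ _ hξ'
  have h3 : (-1 : ℤ) • ((charDegree χ : ℤ) • ξ) ∈ zspan S := Submodule.smul_mem _ _ h2
  have e1 : comb χ ξ = (charDegree ξ : ℤ) • χ + (-1 : ℤ) • ((charDegree χ : ℤ) • ξ) := by
    unfold comb
    rw [neg_one_smul, sub_eq_add_neg]
  rw [e1, hadd _ h1 _ h3, hsmul _ h2, hsmul _ hχ', hsmul _ hξ', neg_one_smul, sub_eq_add_neg]

end general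

section TI

variable {G : Type*} [Group G]

/-- For `x ∈ N_G(K) \ K`, the coset `xK` is a single `K`-orbit under conjugation. -/
theorem exists_conj_eq_mul [Finite G] (K : Subgroup G)
    (hC : ∀ k ∈ K, k ≠ 1 → Subgroup.centralizer ({k} : Set G) ≤ K)
    (x : G) (hxN : x ∈ Subgroup.normalizer (K : Set G)) (hx : x ∉ K) (k : G) (hk : k ∈ K) :
    ∃ j ∈ K, j * x * j⁻¹ = x * k := by
  classical
  have hmem : ∀ j : K, x⁻¹ * (j : G) * x * (j : G)⁻¹ ∈ K := by
    intro j
    have h1 : x⁻¹ * (j : G) * x ∈ K := by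
      have h2 := (Subgroup.mem_normalizer_iff.mp (Subgroup.inv_mem _ hxN) (j : G)).mp j.2
      simpa using h2
    exact K.mul_mem h1 (K.inv_mem j.2)
  let f : K → K := fun j => ⟨x⁻¹ * (j : G) * x * (j : G)⁻¹, hmem j⟩
  have hinj : Function.Injective f := by
    intro j j' h
    have h1 : x⁻¹ * (j : G) * x * (j : G)⁻¹ = x⁻¹ * (j' : G) * x * (j' : G)⁻¹ :=
      congrArg Subtype.val h
    by_contra hne
    have hc : ((j' : G)⁻¹ * j) ≠ 1 := by
      intro h2
      apply hne
      apply Subtype.ext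
      exact (inv_mul_eq_one.mp h2).symm
    have hcK : (j' : G)⁻¹ * j ∈ K := K.mul_mem (K.inv_mem j'.2) j.2
    have hx' : x ∈ Subgroup.centralizer ({(j' : G)⁻¹ * j} : Set G) := by
      rw [Subgroup.mem_centralizer_iff]
      intro y hy
      rw [Set.mem_singleton_iff] at hy
      subst hy
      have h2 : (j : G) * x * (j : G)⁻¹ = (j' : G) * x * (j' : G)⁻¹ := by
        have := congrArg (fun t => x * t) h1
        simpa [mul_assoc] using this
      calc (j' : G)⁻¹ * j * x = (j' : G)⁻¹ * (j * x * (j : G)⁻¹) * j := by group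
        _ = (j' : G)⁻¹ * (j' * x * (j' : G)⁻¹) * j := by rw [h2]
        _ = x * ((j' : G)⁻¹ * j) := by group
    exact hx (hC _ hcK hc hx')
  have hsurj : Function.Surjective f := Finite.injective_iff_surjective.mp hinj
  obtain ⟨j, hj⟩ := hsurj ⟨k, hk⟩
  refine ⟨j, j.2, ?_⟩
  have h1 : x⁻¹ * (j : G) * x * (j : G)⁻¹ = k := congrArg Subtype.val hj
  rw [← h1]
  group

/-- Irreducible characters of `N_G(K)` that are not trivial on `K` vanish off `K`. -/
theorem vanish_off [Finite G] (K : Subgroup G)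
    (hC : ∀ k ∈ K, k ≠ 1 → Subgroup.centralizer ({k} : Set G) ≤ K)
    (χ : ↥(Subgroup.normalizer (K : Set G)) → ℂ)
    (hχ : IsIrrCharacter ↥(Subgroup.normalizer (K : Set G)) χ)
    (hk : ∃ k : ↥(Subgroup.normalizer (K : Set G)), (k : G) ∈ K ∧ χ k ≠ χ 1)
    (x : ↥(Subgroup.normalizer (K : Set G))) (hx : (x : G) ∉ K) : χ x = 0 := by
  classical
  haveI : Fintype (K.subgroupOf (Subgroup.normalizer (K : Set G))) := Fintype.ofFinite _
  have hsum := Helper79.irr_sum_coset_eq_zero hχ (K.subgroupOf (Subgroup.normalizer (K : Set G)))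
    (by obtain ⟨k, hkK, hne⟩ := hk; exact ⟨k, Subgroup.mem_subgroupOf.mpr hkK, hne⟩) x
  have hcl := Helper79.isCharacter_isClassFunction (Helper79.isCharacter_of_irr hχ)
  have hconst : ∀ n : K.subgroupOf (Subgroup.normalizer (K : Set G)),
      χ (x * (n : ↥(Subgroup.normalizer (K : Set G)))) = χ x := by
    intro n
    obtain ⟨j, hjK, hj⟩ := exists_conj_eq_mul K hC (x : G) x.2 hx
      ((n : ↥(Subgroup.normalizer (K : Set G))) : G) (Subgroup.mem_subgroupOf.mp n.2)
    have hjN : j ∈ Subgroup.normalizer (K : Set G) := Subgroup.le_normalizer hjK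
    have e1 : x * (n : ↥(Subgroup.normalizer (K : Set G)))
        = (⟨j, hjN⟩ : ↥(Subgroup.normalizer (K : Set G))) * x * ⟨j, hjN⟩⁻¹ := by
      apply Subtype.ext
      simp [hj]
    rw [e1]
    exact hcl x ⟨j, hjN⟩
  rw [Finset.sum_congr rfl (fun n _ => hconst n)] at hsum
  rw [Finset.sum_const, Finset.card_univ, nsmul_eq_mul] at hsum
  rcases mul_eq_zero.mp hsum with h | h
  · exfalso
    have : Fintype.card (K.subgroupOf (Subgroup.normalizer (K : Set G))) ≠ 0 :=
      Fintype.card_ne_zero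
    exact this (by exact_mod_cast h)
  · exact h

/-- Members of `zspan S` are class functions vanishing off `K`. -/
theorem zspan_props [Finite G] (K : Subgroup G)
    (hC : ∀ k ∈ K, k ≠ 1 → Subgroup.centralizer ({k} : Set G) ≤ K)
    (S : Set (↥(Subgroup.normalizer (K : Set G)) → ℂ))
    (hS : S = {χ : ↥(Subgroup.normalizer (K : Set G)) → ℂ |
      IsIrrCharacter ↥(Subgroup.normalizer (K : Set G)) χ ∧
        ∃ k : ↥(Subgroup.normalizer (K : Set G)), (k : G) ∈ K ∧ χ k ≠ χ 1})
    (α : ↥(Subgroup.normalizer (K : Set G)) → ℂ) (hα : α ∈ zspan S) :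
    IsClassFunction ↥(Subgroup.normalizer (K : Set G)) α ∧
      ∀ x : ↥(Subgroup.normalizer (K : Set G)), (x : G) ∉ K → α x = 0 := by
  unfold zspan at hα
  induction hα using Submodule.span_induction with
  | mem χ hχ =>
    rw [hS] at hχ
    exact ⟨Helper79.isCharacter_isClassFunction (Helper79.isCharacter_of_irr hχ.1),
      fun x hx => vanish_off K hC χ hχ.1 hχ.2 x hx⟩
  | zero => exact ⟨fun _ _ => rfl, fun _ _ => rfl⟩
  | add a b _ _ ha hb =>
    refine ⟨fun g h => ?_, fun x hx => ?_⟩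
    · simp only [Pi.add_apply]
      rw [ha.1 g h, hb.1 g h]
    · simp only [Pi.add_apply]
      rw [ha.2 x hx, hb.2 x hx, add_zero]
  | smul n a _ ha =>
    refine ⟨fun g h => ?_, fun x hx => ?_⟩
    · simp only [Pi.smul_apply]
      rw [ha.1 g h]
    · simp only [Pi.smul_apply]
      rw [ha.2 x hx, smul_zero]

end TI

section main

variable {G : Type*} [Group G] [Fintype G] (K : Subgroup G)
  [Fintype ↥(Subgroup.normalizer (K : Set G))]
  (S : Set (↥(Subgroup.normalizer (K : Set G)) → ℂ))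

theorem comb_mem_zspanOn
    (hS : S = {χ : ↥(Subgroup.normalizer (K : Set G)) → ℂ |
      IsIrrCharacter ↥(Subgroup.normalizer (K : Set G)) χ ∧
        ∃ k : ↥(Subgroup.normalizer (K : Set G)), (k : G) ∈ K ∧ χ k ≠ χ 1})
    {χ ξ : ↥(Subgroup.normalizer (K : Set G)) → ℂ} (hχ : χ ∈ S) (hξ : ξ ∈ S) :
    comb χ ξ ∈ zspanOn S ({1}ᶜ : Set ↥(Subgroup.normalizer (K : Set G))) := by
  refine ⟨comb_mem_zspan S hχ hξ, fun x hx => ?_⟩
  have hx1 : x = 1 := by simpa using hx
  subst hx1
  rw [hS] at hχ hξ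
  exact comb_one (Helper79.isCharacter_of_irr hχ.1) (Helper79.isCharacter_of_irr hξ.1)

/-- Values of the basic relation on `K \ {1}`. -/
theorem comb_star_apply
    (hTI : ∀ g : G, g ∉ Subgroup.normalizer (K : Set G) → ∀ k ∈ K, g * k * g⁻¹ ∈ K → k = 1)
    (hC : ∀ k ∈ K, k ≠ 1 → Subgroup.centralizer ({k} : Set G) ≤ K)
    (hS : S = {χ : ↥(Subgroup.normalizer (K : Set G)) → ℂ |
      IsIrrCharacter ↥(Subgroup.normalizer (K : Set G)) χ ∧
        ∃ k : ↥(Subgroup.normalizer (K : Set G)), (k : G) ∈ K ∧ χ k ≠ χ 1})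
    (star : (↥(Subgroup.normalizer (K : Set G)) → ℂ) → (G → ℂ))
    (hstar : IsLinearIsometryOn (zspan S) star)
    (hext : ∀ α ∈ zspanOn S ({1}ᶜ : Set ↥(Subgroup.normalizer (K : Set G))),
      star α = indFun (Subgroup.normalizer (K : Set G)) α)
    {χ ξ : ↥(Subgroup.normalizer (K : Set G)) → ℂ} (hχ : χ ∈ S) (hξ : ξ ∈ S)
    (k : ↥(Subgroup.normalizer (K : Set G))) (hkK : (k : G) ∈ K) (hk1 : k ≠ 1) :
    (charDegree ξ : ℂ) * star χ k - (charDegree χ : ℂ) * star ξ k
      = (charDegree ξ : ℂ) * χ k - (charDegree χ : ℂ) * ξ k := by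
  have hmem := comb_mem_zspanOn K S hS hχ hξ
  have h1 := hext _ hmem
  have hp := zspan_props K hC S hS _ (comb_mem_zspan S hχ hξ)
  have h2 := Helper3.indFun_TI_apply (K : Set G) hTI (comb χ ξ) hp.1 hp.2 k hkK hk1
  have h3 := congrFun (star_comb S star hstar hχ hξ) (k : G)
  rw [h1, h2, comb_apply'] at h3
  rw [h3]
  simp [zsmul_eq_mul]

/-- Inner products of the basic relation with a class function of `G`. -/
theorem comb_star_inner
    (hS : S = {χ : ↥(Subgroup.normalizer (K : Set G)) → ℂ |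
      IsIrrCharacter ↥(Subgroup.normalizer (K : Set G)) χ ∧
        ∃ k : ↥(Subgroup.normalizer (K : Set G)), (k : G) ∈ K ∧ χ k ≠ χ 1})
    (star : (↥(Subgroup.normalizer (K : Set G)) → ℂ) → (G → ℂ))
    (hstar : IsLinearIsometryOn (zspan S) star)
    (hext : ∀ α ∈ zspanOn S ({1}ᶜ : Set ↥(Subgroup.normalizer (K : Set G))),
      star α = indFun (Subgroup.normalizer (K : Set G)) α)
    {χ ξ : ↥(Subgroup.normalizer (K : Set G)) → ℂ} (hχ : χ ∈ S) (hξ : ξ ∈ S)
    (ψ : G → ℂ) (hψ : IsClassFunction G ψ) :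
    (charDegree ξ : ℂ) * classInner (star χ) ψ - (charDegree χ : ℂ) * classInner (star ξ) ψ
      = (charDegree ξ : ℂ) *
          classInner χ (fun n : ↥(Subgroup.normalizer (K : Set G)) => ψ n)
        - (charDegree χ : ℂ) *
          classInner ξ (fun n : ↥(Subgroup.normalizer (K : Set G)) => ψ n) := by
  have hmem := comb_mem_zspanOn K S hS hχ hξ
  have h1 := hext _ hmem
  have h2 := Helper3.frobenius_reciprocity (Subgroup.normalizer (K : Set G)) (comb χ ξ) ψ hψ
  rw [← h1, star_comb S star hstar hχ hξ, comb_inner] at h2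
  rw [Helper3.classInner_sub_left, classInner_zsmul_left, classInner_zsmul_left] at h2
  simpa using h2

/-- `∑_{θ ∉ S} θ(1)² = [N : K]`. -/
theorem sum_nonS_sq
    (hS : S = {χ : ↥(Subgroup.normalizer (K : Set G)) → ℂ |
      IsIrrCharacter ↥(Subgroup.normalizer (K : Set G)) χ ∧
        ∃ k : ↥(Subgroup.normalizer (K : Set G)), (k : G) ∈ K ∧ χ k ≠ χ 1})
    [Fintype (IrrCharacter ↥(Subgroup.normalizer (K : Set G)))]
    [DecidablePred (fun θ : IrrCharacter ↥(Subgroup.normalizer (K : Set G)) =>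
      (θ : ↥(Subgroup.normalizer (K : Set G)) → ℂ) ∈ S)] :
    ∑ θ : IrrCharacter ↥(Subgroup.normalizer (K : Set G)),
      (if (θ : ↥(Subgroup.normalizer (K : Set G)) → ℂ) ∈ S then 0
        else (θ : ↥(Subgroup.normalizer (K : Set G)) → ℂ) 1 *
          (θ : ↥(Subgroup.normalizer (K : Set G)) → ℂ) 1)
      = ((K.subgroupOf (Subgroup.normalizer (K : Set G))).index : ℂ) := by
  classical
  haveI : Fintype (K.subgroupOf (Subgroup.normalizer (K : Set G))) := Fintype.ofFinite _
  have h1 : ∀ θ : IrrCharacter ↥(Subgroup.normalizer (K : Set G)),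
      (θ : ↥(Subgroup.normalizer (K : Set G)) → ℂ) ∈ S →
      ∑ k : K.subgroupOf (Subgroup.normalizer (K : Set G)),
        (θ : ↥(Subgroup.normalizer (K : Set G)) → ℂ) (k : ↥(Subgroup.normalizer (K : Set G)))
          = 0 := by
    intro θ hθ
    rcases Helper80.irr_sum_normal θ (K.subgroupOf (Subgroup.normalizer (K : Set G))) with h | h
    · exact h
    · exfalso
      rw [hS] at hθ
      obtain ⟨k, hkK, hne⟩ := hθ.2
      exact hne (h k (Subgroup.mem_subgroupOf.mpr hkK))
  have h2 : ∀ θ : IrrCharacter ↥(Subgroup.normalizer (K : Set G)),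
      (θ : ↥(Subgroup.normalizer (K : Set G)) → ℂ) ∉ S →
      ∑ k : K.subgroupOf (Subgroup.normalizer (K : Set G)),
        (θ : ↥(Subgroup.normalizer (K : Set G)) → ℂ) (k : ↥(Subgroup.normalizer (K : Set G)))
          = (Fintype.card (K.subgroupOf (Subgroup.normalizer (K : Set G))) : ℂ) *
            (θ : ↥(Subgroup.normalizer (K : Set G)) → ℂ) 1 := by
    intro θ hθ
    apply Helper80.sum_subgroup_of_le_ker
    intro k hk
    by_contra hne
    apply hθ
    rw [hS]
    exact ⟨θ.2, k, Subgroup.mem_subgroupOf.mp hk, hne⟩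
  have h3 : ∑ k : K.subgroupOf (Subgroup.normalizer (K : Set G)),
      ∑ θ : IrrCharacter ↥(Subgroup.normalizer (K : Set G)),
        (θ : ↥(Subgroup.normalizer (K : Set G)) → ℂ) 1 *
          (θ : ↥(Subgroup.normalizer (K : Set G)) → ℂ) (k : ↥(Subgroup.normalizer (K : Set G)))
      = (Fintype.card ↥(Subgroup.normalizer (K : Set G)) : ℂ) := by
    rw [Finset.sum_eq_single (1 : K.subgroupOf (Subgroup.normalizer (K : Set G)))]
    · simpa using Helper80.irr_sum_degree_sq (G := ↥(Subgroup.normalizer (K : Set G)))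
    · intro k _ hk
      apply Helper80.irr_sum_degree_mul_of_ne_one
      intro h
      apply hk
      exact Subtype.ext h
    · intro h
      exact absurd (Finset.mem_univ _) h
  rw [Finset.sum_comm] at h3
  have h4 : ∀ θ : IrrCharacter ↥(Subgroup.normalizer (K : Set G)),
      ∑ k : K.subgroupOf (Subgroup.normalizer (K : Set G)),
        (θ : ↥(Subgroup.normalizer (K : Set G)) → ℂ) 1 *
          (θ : ↥(Subgroup.normalizer (K : Set G)) → ℂ) (k : ↥(Subgroup.normalizer (K : Set G)))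
      = (Fintype.card (K.subgroupOf (Subgroup.normalizer (K : Set G))) : ℂ) *
        (if (θ : ↥(Subgroup.normalizer (K : Set G)) → ℂ) ∈ S then 0
          else (θ : ↥(Subgroup.normalizer (K : Set G)) → ℂ) 1 *
            (θ : ↥(Subgroup.normalizer (K : Set G)) → ℂ) 1) := by
    intro θ
    rw [← Finset.mul_sum]
    by_cases hθ : (θ : ↥(Subgroup.normalizer (K : Set G)) → ℂ) ∈ S
    · rw [h1 θ hθ, if_pos hθ]
      ring
    · rw [h2 θ hθ, if_neg hθ]
      ring
  rw [Finset.sum_congr rfl (fun θ _ => h4 θ), ← Finset.mul_sum] at h3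
  have h5 : Nat.card (K.subgroupOf (Subgroup.normalizer (K : Set G))) *
      (K.subgroupOf (Subgroup.normalizer (K : Set G))).index
        = Nat.card ↥(Subgroup.normalizer (K : Set G)) :=
    Subgroup.card_mul_index _
  have h6 : (Fintype.card (K.subgroupOf (Subgroup.normalizer (K : Set G))) : ℂ) *
      ((K.subgroupOf (Subgroup.normalizer (K : Set G))).index : ℂ)
        = (Fintype.card ↥(Subgroup.normalizer (K : Set G)) : ℂ) := by
    rw [← Nat.card_eq_fintype_card, ← Nat.card_eq_fintype_card]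
    exact_mod_cast h5
  have h7 : (Fintype.card (K.subgroupOf (Subgroup.normalizer (K : Set G))) : ℂ) ≠ 0 := by
    exact_mod_cast Fintype.card_ne_zero
  exact mul_left_cancel₀ h7 (h3.trans h6.symm)

/-- Values on `K \ {1}` of a class function of `G`, in terms of its inner products with the
`star χ`. -/
theorem restrict_formula
    (hS : S = {χ : ↥(Subgroup.normalizer (K : Set G)) → ℂ |
      IsIrrCharacter ↥(Subgroup.normalizer (K : Set G)) χ ∧
        ∃ k : ↥(Subgroup.normalizer (K : Set G)), (k : G) ∈ K ∧ χ k ≠ χ 1})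
    (star : (↥(Subgroup.normalizer (K : Set G)) → ℂ) → (G → ℂ))
    (hstar : IsLinearIsometryOn (zspan S) star)
    (hext : ∀ α ∈ zspanOn S ({1}ᶜ : Set ↥(Subgroup.normalizer (K : Set G))),
      star α = indFun (Subgroup.normalizer (K : Set G)) α)
    [Fintype (IrrCharacter ↥(Subgroup.normalizer (K : Set G)))]
    [DecidablePred (fun θ : IrrCharacter ↥(Subgroup.normalizer (K : Set G)) =>
      (θ : ↥(Subgroup.normalizer (K : Set G)) → ℂ) ∈ S)]
    (hne : S.Nonempty) (ψ : G → ℂ) (hψ : IsClassFunction G ψ) :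
    ∃ D : ℂ,
      (∀ χ ∈ S, classInner χ (fun n : ↥(Subgroup.normalizer (K : Set G)) => ψ n)
        - classInner (star χ) ψ = D * χ 1) ∧
      ∀ k : ↥(Subgroup.normalizer (K : Set G)), (k : G) ∈ K → k ≠ 1 →
        ψ k = ∑ θ : IrrCharacter ↥(Subgroup.normalizer (K : Set G)),
            (if (θ : ↥(Subgroup.normalizer (K : Set G)) → ℂ) ∈ S then
              conj (classInner (star (θ : ↥(Subgroup.normalizer (K : Set G)) → ℂ)) ψ) *
                (θ : ↥(Subgroup.normalizer (K : Set G)) → ℂ) k else 0)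
          - conj D * ((K.subgroupOf (Subgroup.normalizer (K : Set G))).index : ℂ)
          + ∑ θ : IrrCharacter ↥(Subgroup.normalizer (K : Set G)),
            (if (θ : ↥(Subgroup.normalizer (K : Set G)) → ℂ) ∈ S then 0 else
              classInner (fun n : ↥(Subgroup.normalizer (K : Set G)) => ψ n)
                (θ : ↥(Subgroup.normalizer (K : Set G)) → ℂ) *
                (θ : ↥(Subgroup.normalizer (K : Set G)) → ℂ) 1) := by
  obtain ⟨χ₁, hχ₁⟩ := hne
  have hirr : ∀ χ ∈ S, IsIrrCharacter ↥(Subgroup.normalizer (K : Set G)) χ := by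
    intro χ hχ
    rw [hS] at hχ
    exact hχ.1
  have hdeg : ∀ χ ∈ S, χ 1 = (charDegree χ : ℂ) := fun χ hχ =>
    Helper80.isCharacter_one_eq (Helper79.isCharacter_of_irr (hirr χ hχ))
  have hpos : ∀ χ ∈ S, (charDegree χ : ℂ) ≠ 0 := by
    intro χ hχ
    have := Helper80.irr_degree_pos ⟨χ, hirr χ hχ⟩
    exact_mod_cast this.ne'
  obtain ⟨D, hD⟩ : ∃ D : ℂ, ∀ χ ∈ S,
      classInner χ (fun n : ↥(Subgroup.normalizer (K : Set G)) => ψ n)
        - classInner (star χ) ψ = D * χ 1 := by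
    refine ⟨(classInner χ₁ (fun n : ↥(Subgroup.normalizer (K : Set G)) => ψ n)
      - classInner (star χ₁) ψ) / χ₁ 1, ?_⟩
    intro χ hχ
    have h := comb_star_inner K S hS star hstar hext hχ hχ₁ ψ hψ
    rw [hdeg χ hχ, hdeg χ₁ hχ₁]
    have := hpos χ₁ hχ₁
    field_simp
    linear_combination (-1 : ℂ) * h
  refine ⟨D, hD, ?_⟩
  intro k hkK hk1
  have hψNcl : IsClassFunction ↥(Subgroup.normalizer (K : Set G))
      (fun n : ↥(Subgroup.normalizer (K : Set G)) => ψ n) := by
    intro g h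
    exact hψ (g : G) (h : G)
  have hdec := Helper15.classFun_eq_sum hψNcl
  have hk := congrFun hdec k
  rw [Finset.sum_apply] at hk
  simp only [Pi.smul_apply, smul_eq_mul] at hk
  have hE := sum_nonS_sq K S hS
  have hreg : ∑ θ : IrrCharacter ↥(Subgroup.normalizer (K : Set G)),
      (θ : ↥(Subgroup.normalizer (K : Set G)) → ℂ) 1 *
        (θ : ↥(Subgroup.normalizer (K : Set G)) → ℂ) k = 0 :=
    Helper80.irr_sum_degree_mul_of_ne_one hk1
  have hnonS : ∀ θ : IrrCharacter ↥(Subgroup.normalizer (K : Set G)),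
      (θ : ↥(Subgroup.normalizer (K : Set G)) → ℂ) ∉ S →
      (θ : ↥(Subgroup.normalizer (K : Set G)) → ℂ) k
        = (θ : ↥(Subgroup.normalizer (K : Set G)) → ℂ) 1 := by
    intro θ hθ
    by_contra hne
    apply hθ
    rw [hS]
    exact ⟨θ.2, k, hkK, hne⟩
  have hB : ∑ θ : IrrCharacter ↥(Subgroup.normalizer (K : Set G)),
      (if (θ : ↥(Subgroup.normalizer (K : Set G)) → ℂ) ∈ S then
        (θ : ↥(Subgroup.normalizer (K : Set G)) → ℂ) 1 *
          (θ : ↥(Subgroup.normalizer (K : Set G)) → ℂ) k else 0)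
      = - ((K.subgroupOf (Subgroup.normalizer (K : Set G))).index : ℂ) := by
    have hsplit : ∑ θ : IrrCharacter ↥(Subgroup.normalizer (K : Set G)),
        (if (θ : ↥(Subgroup.normalizer (K : Set G)) → ℂ) ∈ S then
          (θ : ↥(Subgroup.normalizer (K : Set G)) → ℂ) 1 *
            (θ : ↥(Subgroup.normalizer (K : Set G)) → ℂ) k else 0)
        + ∑ θ : IrrCharacter ↥(Subgroup.normalizer (K : Set G)),
          (if (θ : ↥(Subgroup.normalizer (K : Set G)) → ℂ) ∈ S then 0
            else (θ : ↥(Subgroup.normalizer (K : Set G)) → ℂ) 1 *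
              (θ : ↥(Subgroup.normalizer (K : Set G)) → ℂ) 1)
        = ∑ θ : IrrCharacter ↥(Subgroup.normalizer (K : Set G)),
          (θ : ↥(Subgroup.normalizer (K : Set G)) → ℂ) 1 *
            (θ : ↥(Subgroup.normalizer (K : Set G)) → ℂ) k := by
      rw [← Finset.sum_add_distrib]
      apply Finset.sum_congr rfl
      intro θ _
      by_cases hθ : (θ : ↥(Subgroup.normalizer (K : Set G)) → ℂ) ∈ S
      · rw [if_pos hθ, if_pos hθ, add_zero]
      · rw [if_neg hθ, if_neg hθ, zero_add, hnonS θ hθ]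
    rw [hreg, hE] at hsplit
    linear_combination hsplit
  have hterm : ∀ θ : IrrCharacter ↥(Subgroup.normalizer (K : Set G)),
      classInner (fun n : ↥(Subgroup.normalizer (K : Set G)) => ψ n)
          (θ : ↥(Subgroup.normalizer (K : Set G)) → ℂ) *
        (θ : ↥(Subgroup.normalizer (K : Set G)) → ℂ) k
      = (if (θ : ↥(Subgroup.normalizer (K : Set G)) → ℂ) ∈ S then
            conj (classInner (star (θ : ↥(Subgroup.normalizer (K : Set G)) → ℂ)) ψ) *
              (θ : ↥(Subgroup.normalizer (K : Set G)) → ℂ) k else 0)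
        + conj D * (if (θ : ↥(Subgroup.normalizer (K : Set G)) → ℂ) ∈ S then
            (θ : ↥(Subgroup.normalizer (K : Set G)) → ℂ) 1 *
              (θ : ↥(Subgroup.normalizer (K : Set G)) → ℂ) k else 0)
        + (if (θ : ↥(Subgroup.normalizer (K : Set G)) → ℂ) ∈ S then 0 else
            classInner (fun n : ↥(Subgroup.normalizer (K : Set G)) => ψ n)
              (θ : ↥(Subgroup.normalizer (K : Set G)) → ℂ) *
              (θ : ↥(Subgroup.normalizer (K : Set G)) → ℂ) 1) := by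
    intro θ
    by_cases hθ : (θ : ↥(Subgroup.normalizer (K : Set G)) → ℂ) ∈ S
    · rw [if_pos hθ, if_pos hθ, if_pos hθ, add_zero]
      have h1 := hD _ hθ
      have h2 : classInner (fun n : ↥(Subgroup.normalizer (K : Set G)) => ψ n)
          (θ : ↥(Subgroup.normalizer (K : Set G)) → ℂ)
          = conj (classInner (θ : ↥(Subgroup.normalizer (K : Set G)) → ℂ)
            (fun n : ↥(Subgroup.normalizer (K : Set G)) => ψ n)) :=
        Helper15.classInner_conj_symm _ _
      have h3 : classInner (θ : ↥(Subgroup.normalizer (K : Set G)) → ℂ)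
            (fun n : ↥(Subgroup.normalizer (K : Set G)) => ψ n)
          = classInner (star (θ : ↥(Subgroup.normalizer (K : Set G)) → ℂ)) ψ
            + D * (θ : ↥(Subgroup.normalizer (K : Set G)) → ℂ) 1 := by
        linear_combination h1
      rw [h2, h3, map_add, map_mul, hdeg _ hθ, Complex.conj_natCast]
      ring
    · rw [if_neg hθ, if_neg hθ, if_neg hθ, hnonS θ hθ]
      ring
  have hk' : ψ (k : G) = ∑ θ : IrrCharacter ↥(Subgroup.normalizer (K : Set G)),
      classInner (fun n : ↥(Subgroup.normalizer (K : Set G)) => ψ n)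
          (θ : ↥(Subgroup.normalizer (K : Set G)) → ℂ) *
        (θ : ↥(Subgroup.normalizer (K : Set G)) → ℂ) k := hk
  rw [hk', Finset.sum_congr rfl (fun θ _ => hterm θ), Finset.sum_add_distrib,
    Finset.sum_add_distrib, ← Finset.mul_sum, hB]
  ring

/-- Values of `star χ₀` on `K \ {1}`. -/
theorem star_apply
    (hS : S = {χ : ↥(Subgroup.normalizer (K : Set G)) → ℂ |
      IsIrrCharacter ↥(Subgroup.normalizer (K : Set G)) χ ∧
        ∃ k : ↥(Subgroup.normalizer (K : Set G)), (k : G) ∈ K ∧ χ k ≠ χ 1})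
    (star : (↥(Subgroup.normalizer (K : Set G)) → ℂ) → (G → ℂ))
    (hstar : IsLinearIsometryOn (zspan S) star)
    (hext : ∀ α ∈ zspanOn S ({1}ᶜ : Set ↥(Subgroup.normalizer (K : Set G))),
      star α = indFun (Subgroup.normalizer (K : Set G)) α)
    [Fintype (IrrCharacter ↥(Subgroup.normalizer (K : Set G)))]
    [DecidablePred (fun θ : IrrCharacter ↥(Subgroup.normalizer (K : Set G)) =>
      (θ : ↥(Subgroup.normalizer (K : Set G)) → ℂ) ∈ S)]
    {χ₀ : ↥(Subgroup.normalizer (K : Set G)) → ℂ} (hχ₀ : χ₀ ∈ S) :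
    ∃ D : ℂ,
      (∀ χ ∈ S, χ ≠ χ₀ →
        classInner χ (fun n : ↥(Subgroup.normalizer (K : Set G)) => star χ₀ n) = D * χ 1) ∧
      (classInner χ₀ (fun n : ↥(Subgroup.normalizer (K : Set G)) => star χ₀ n) - 1
        = D * χ₀ 1) ∧
      ∀ k : ↥(Subgroup.normalizer (K : Set G)), (k : G) ∈ K → k ≠ 1 →
        star χ₀ k = χ₀ k
          - conj D * ((K.subgroupOf (Subgroup.normalizer (K : Set G))).index : ℂ)
          + ∑ θ : IrrCharacter ↥(Subgroup.normalizer (K : Set G)),
            (if (θ : ↥(Subgroup.normalizer (K : Set G)) → ℂ) ∈ S then 0 else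
              classInner (fun n : ↥(Subgroup.normalizer (K : Set G)) => star χ₀ n)
                (θ : ↥(Subgroup.normalizer (K : Set G)) → ℂ) *
                (θ : ↥(Subgroup.normalizer (K : Set G)) → ℂ) 1) := by
  have hirr : ∀ χ ∈ S, IsIrrCharacter ↥(Subgroup.normalizer (K : Set G)) χ := by
    intro χ hχ
    rw [hS] at hχ
    exact hχ.1
  have hgen : IsGeneralizedCharacter G (star χ₀) := hstar.2.2.2 χ₀ (Submodule.subset_span hχ₀)
  obtain ⟨D, hD, hval⟩ := restrict_formula K S hS star hstar hext ⟨χ₀, hχ₀⟩ (star χ₀)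
    (genChar_isClassFunction hgen)
  have hiso : ∀ χ ∈ S, classInner (star χ) (star χ₀) = classInner χ χ₀ := fun χ hχ =>
    hstar.2.2.1 χ (Submodule.subset_span hχ) χ₀ (Submodule.subset_span hχ₀)
  refine ⟨D, ?_, ?_, ?_⟩
  · intro χ hχ hne
    have h := hD χ hχ
    rw [hiso χ hχ, Helper15.irr_inner_ne (hirr χ hχ) (hirr χ₀ hχ₀) hne, sub_zero] at h
    exact h
  · have h := hD χ₀ hχ₀
    rw [hiso χ₀ hχ₀, Helper15.irr_inner_self (hirr χ₀ hχ₀)] at h
    exact h
  · intro k hkK hk1
    have hsum : ∑ θ : IrrCharacter ↥(Subgroup.normalizer (K : Set G)),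
        (if (θ : ↥(Subgroup.normalizer (K : Set G)) → ℂ) ∈ S then
          conj (classInner (star (θ : ↥(Subgroup.normalizer (K : Set G)) → ℂ)) (star χ₀)) *
            (θ : ↥(Subgroup.normalizer (K : Set G)) → ℂ) k else 0) = χ₀ k := by
      rw [Finset.sum_eq_single
        (⟨χ₀, hirr χ₀ hχ₀⟩ : IrrCharacter ↥(Subgroup.normalizer (K : Set G)))]
      · rw [if_pos hχ₀, hiso χ₀ hχ₀, Helper15.irr_inner_self (hirr χ₀ hχ₀), map_one, one_mul]
      · intro θ _ hθ
        by_cases hθS : (θ : ↥(Subgroup.normalizer (K : Set G)) → ℂ) ∈ S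
        · rw [if_pos hθS, hiso _ hθS,
            Helper15.irr_inner_ne θ.2 (hirr χ₀ hχ₀) (fun h => hθ (Subtype.ext h)), map_zero,
            zero_mul]
        · rw [if_neg hθS]
      · intro h
        exact absurd (Finset.mem_univ _) h
    rw [hval k hkK hk1, hsum]

/-- A member of `S` is not constant on `K \ {1}` when `S` has another member. -/
theorem nonconst
    (hC : ∀ k ∈ K, k ≠ 1 → Subgroup.centralizer ({k} : Set G) ≤ K)
    (hS : S = {χ : ↥(Subgroup.normalizer (K : Set G)) → ℂ |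
      IsIrrCharacter ↥(Subgroup.normalizer (K : Set G)) χ ∧
        ∃ k : ↥(Subgroup.normalizer (K : Set G)), (k : G) ∈ K ∧ χ k ≠ χ 1})
    {χ₀ ξ : ↥(Subgroup.normalizer (K : Set G)) → ℂ} (hχ₀ : χ₀ ∈ S) (hξ : ξ ∈ S)
    (hne : ξ ≠ χ₀) :
    ∃ a b : ↥(Subgroup.normalizer (K : Set G)), (a : G) ∈ K ∧ (b : G) ∈ K ∧ a ≠ 1 ∧ b ≠ 1 ∧
      χ₀ a ≠ χ₀ b := by
  classical
  by_contra hcon
  push Not at hcon
  have hχ₀' := hχ₀
  have hξ' := hξ
  rw [hS] at hχ₀' hξ'
  obtain ⟨k₀, hk₀K, hk₀ne⟩ := hχ₀'.2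
  have hk₀1 : k₀ ≠ 1 := fun h => hk₀ne (by rw [h])
  have hconst : ∀ k : ↥(Subgroup.normalizer (K : Set G)), (k : G) ∈ K → k ≠ 1 →
      χ₀ k = χ₀ k₀ := fun k hkK hk1 => hcon k k₀ hkK hk₀K hk1 hk₀1
  haveI : Fintype (K.subgroupOf (Subgroup.normalizer (K : Set G))) := Fintype.ofFinite _
  -- orthogonality
  have horth := Helper15.irr_inner_ne hχ₀'.1 hξ'.1 (Ne.symm hne)
  unfold classInner at horth
  have hNne : (Nat.card ↥(Subgroup.normalizer (K : Set G)) : ℂ)⁻¹ ≠ 0 := by
    apply inv_ne_zero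
    exact_mod_cast Nat.card_pos.ne'
  have horth' : ∑ y : ↥(Subgroup.normalizer (K : Set G)), χ₀ y * conj (ξ y) = 0 :=
    (mul_eq_zero.mp horth).resolve_left hNne
  -- reduce to a sum over K
  have hvan : ∀ y : ↥(Subgroup.normalizer (K : Set G)), (y : G) ∉ K → ξ y = 0 :=
    fun y hy => vanish_off K hC ξ hξ'.1 hξ'.2 y hy
  have hsumK : ∑ k : K.subgroupOf (Subgroup.normalizer (K : Set G)),
      χ₀ (k : ↥(Subgroup.normalizer (K : Set G))) *
        conj (ξ (k : ↥(Subgroup.normalizer (K : Set G)))) = 0 := by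
    rw [← horth']
    rw [← Finset.sum_subtype (Finset.univ.filter
      (fun y : ↥(Subgroup.normalizer (K : Set G)) =>
        y ∈ K.subgroupOf (Subgroup.normalizer (K : Set G))))
      (fun x => by simp) (fun y => χ₀ y * conj (ξ y))]
    apply Finset.sum_subset (Finset.filter_subset _ _)
    intro y _ hy
    have hyK : (y : G) ∉ K := by
      intro h
      apply hy
      simp only [Finset.mem_filter, Finset.mem_univ, true_and]
      exact Subgroup.mem_subgroupOf.mpr h
    rw [hvan y hyK, map_zero, mul_zero]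
  -- the sum of ξ over K vanishes
  have hξsum : ∑ k : K.subgroupOf (Subgroup.normalizer (K : Set G)),
      ξ (k : ↥(Subgroup.normalizer (K : Set G))) = 0 := by
    rcases Helper80.irr_sum_normal (⟨ξ, hξ'.1⟩ : IrrCharacter ↥(Subgroup.normalizer (K : Set G)))
      (K.subgroupOf (Subgroup.normalizer (K : Set G))) with h | h
    · exact h
    · exfalso
      obtain ⟨k, hkK, hkne⟩ := hξ'.2
      exact hkne (h k (Subgroup.mem_subgroupOf.mpr hkK))
  have hterm : ∀ k : K.subgroupOf (Subgroup.normalizer (K : Set G)),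
      χ₀ (k : ↥(Subgroup.normalizer (K : Set G))) *
        conj (ξ (k : ↥(Subgroup.normalizer (K : Set G))))
      = χ₀ k₀ * conj (ξ (k : ↥(Subgroup.normalizer (K : Set G))))
        + (if k = 1 then (χ₀ 1 - χ₀ k₀) * conj (ξ 1) else 0) := by
    intro k
    by_cases hk : k = 1
    · subst hk
      rw [if_pos rfl]
      simp only [Subgroup.coe_one]
      ring
    · rw [if_neg hk, add_zero,
        hconst (k : ↥(Subgroup.normalizer (K : Set G))) (Subgroup.mem_subgroupOf.mp k.2)
          (fun h => hk (Subtype.ext h))]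
  rw [Finset.sum_congr rfl (fun k _ => hterm k), Finset.sum_add_distrib, ← Finset.mul_sum,
    ← map_sum, hξsum, map_zero, mul_zero, zero_add, Finset.sum_ite_eq' Finset.univ (1 : _)]
    at hsumK
  simp only [Finset.mem_univ, if_true] at hsumK
  rcases mul_eq_zero.mp hsumK with h | h
  · exact hk₀ne (sub_eq_zero.mp h).symm
  · have hpos : 0 < charDegree ξ := Helper80.irr_degree_pos
      (⟨ξ, hξ'.1⟩ : IrrCharacter ↥(Subgroup.normalizer (K : Set G)))
    have h1 : ξ 1 = 0 := by simpa using h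
    rw [Helper80.isCharacter_one_eq (Helper79.isCharacter_of_irr hξ'.1)] at h1
    have h2 : charDegree ξ = 0 := by exact_mod_cast h1
    omega

end main

end Cfsg.Agent.Helper14.Coh
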