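-- helper14: piece LA of CALL S4442L (helper77): coordinates `y`, `ℓ` on `M/T` (dual bases mod `p`
-- plus the spanning property).
import Mathlib
import Cfsg.Agent.Helper9.LatEigenDual

universe u

set_option autoImplicit false

namespace Cfsg.Agent.Helper14

open Cfsg Matrix
open scoped ComplexConjugate

/-- PIECE LA -/
theorem d1_coord {N : ℕ} (p : ℕ) [Fact p.Prime] (M T : Submodule ℤ (Fin N → ℤ))
    (hTM : T ≤ M) (hpM : ∀ v ∈ M, (p : ℤ) • v ∈ T)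
    (hsat : ∀ v : Fin N → ℤ, (p : ℤ) • v ∈ M → v ∈ M)
    (a : ℕ) (ha : T.toAddSubgroup.relIndex M.toAddSubgroup = p ^ a) :
    ∃ (y ℓ : Fin a → (Fin N → ℤ)),
      (∀ j, y j ∈ M) ∧ (∀ j, ∀ s ∈ T, (p : ℤ) ∣ ℓ j ⬝ᵥ s) ∧
      (∀ i j, ℓ i ⬝ᵥ y j ≡ (if i = j then 1 else 0) [ZMOD p]) ∧
      (∀ u ∈ M, u - ∑ j, (ℓ j ⬝ᵥ u) • y j ∈ T) := by
  classical
  obtain ⟨y, lam, ℓ, hyM, -, hℓT, hℓy⟩ :=
    Cfsg.Agent.Helper9.lat_eigen_dual p M T hTM hpM hsat 1
      (fun v hv => by rw [Matrix.one_mulVec]; exact hv)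
      (fun v hv => by rw [Matrix.one_mulVec]; exact hv)
      (fun v hv => by rw [one_pow, Matrix.one_mulVec, sub_self]; exact T.zero_mem) a ha
  refine ⟨y, ℓ, hyM, hℓT, hℓy, ?_⟩
  have hp : p.Prime := Fact.out
  have hδ : ∀ i j, ((ℓ i ⬝ᵥ y j : ℤ) : ZMod p) = if i = j then 1 else 0 := by
    intro i j
    rw [(ZMod.intCast_eq_intCast_iff _ _ p).mpr (hℓy i j)]
    split_ifs <;> simp
  let ψ : ↥M.toAddSubgroup →+ (Fin a → ZMod p) :=
    { toFun := fun u j => ((ℓ j ⬝ᵥ (u : Fin N → ℤ) : ℤ) : ZMod p)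
      map_zero' := by
        funext j
        simp
      map_add' := by
        intro u v
        funext j
        simp [dotProduct_add] }
  have hψ : ∀ (u : ↥M.toAddSubgroup) (j : Fin a),
      ψ u j = ((ℓ j ⬝ᵥ (u : Fin N → ℤ) : ℤ) : ZMod p) := fun _ _ => rfl
  have hsurj : Function.Surjective ψ := by
    intro c
    refine ⟨⟨∑ j, ((c j).cast : ℤ) • y j, M.sum_mem fun j _ => M.smul_mem _ (hyM j)⟩, ?_⟩
    funext i
    rw [hψ]
    show ((ℓ i ⬝ᵥ ∑ j, ((c j).cast : ℤ) • y j : ℤ) : ZMod p) = c i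
    rw [dotProduct_sum]
    simp only [dotProduct_smul, smul_eq_mul]
    push_cast
    simp only [hδ, ZMod.intCast_cast, ZMod.cast_id', id_eq, mul_ite, mul_one, mul_zero]
    rw [Finset.sum_ite_eq]
    simp
  have hker : (T.toAddSubgroup.addSubgroupOf M.toAddSubgroup) ≤ ψ.ker := by
    intro u hu
    rw [AddSubgroup.mem_addSubgroupOf] at hu
    rw [AddMonoidHom.mem_ker]
    funext j
    rw [hψ]
    exact (ZMod.intCast_zmod_eq_zero_iff_dvd _ p).mpr (hℓT j _ hu)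
  have hidx : ψ.ker.index = p ^ a := by
    rw [AddSubgroup.index_ker, AddMonoidHom.range_eq_top.mpr hsurj, AddSubgroup.card_top,
      Nat.card_eq_fintype_card, Fintype.card_fun, ZMod.card, Fintype.card_fin]
  have hrel : (T.toAddSubgroup.addSubgroupOf M.toAddSubgroup).relIndex ψ.ker = 1 := by
    have h1 := AddSubgroup.relIndex_mul_index hker
    rw [hidx] at h1
    have h2 : (T.toAddSubgroup.addSubgroupOf M.toAddSubgroup).index = p ^ a := ha
    rw [h2] at h1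
    have h3 : 0 < p ^ a := pow_pos hp.pos a
    exact Nat.eq_of_mul_eq_mul_right h3 (by rw [h1, one_mul])
  have hle : ψ.ker ≤ T.toAddSubgroup.addSubgroupOf M.toAddSubgroup :=
    AddSubgroup.relIndex_eq_one.mp hrel
  intro u hu
  have hu' : u - ∑ j, (ℓ j ⬝ᵥ u) • y j ∈ M :=
    M.sub_mem hu (M.sum_mem fun j _ => M.smul_mem _ (hyM j))
  have hmem : (⟨u - ∑ j, (ℓ j ⬝ᵥ u) • y j, hu'⟩ : ↥M.toAddSubgroup) ∈ ψ.ker := by
    rw [AddMonoidHom.mem_ker]
    funext i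
    rw [hψ]
    show ((ℓ i ⬝ᵥ (u - ∑ j, (ℓ j ⬝ᵥ u) • y j) : ℤ) : ZMod p) = 0
    rw [dotProduct_sub, dotProduct_sum]
    simp only [dotProduct_smul, smul_eq_mul]
    push_cast
    simp only [hδ, mul_ite, mul_one, mul_zero]
    rw [Finset.sum_ite_eq]
    simp
  exact AddSubgroup.mem_addSubgroupOf.mp (hle hmem)

end Cfsg.Agent.Helper14
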