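-- helper14: piece LB of CALL S4442L (helper77): the matrix representation of `H` on `M/T`
-- in the coordinates `y`, `ℓ`, over a ring `k` with `p = 0`.
import Mathlib

universe u

set_option autoImplicit false

namespace Cfsg.Agent.Helper14

open Matrix

/-- integers congruent mod `p` have equal images in a ring where `p = 0` -/
theorem d1_cast_eq_of_dvd {k : Type*} [CommRing k] (p : ℕ) (hpk : (p : k) = 0) {a b : ℤ}
    (h : (p : ℤ) ∣ a - b) : (a : k) = (b : k) := by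
  obtain ⟨c, hc⟩ := h
  have h1 : ((a - b : ℤ) : k) = 0 := by
    rw [hc]
    push_cast
    rw [hpk, zero_mul]
  push_cast at h1
  exact sub_eq_zero.mp h1

/-- PIECE LB -/
theorem d1_rep {G : Type u} [Group G] {N : ℕ} (p : ℕ) [Fact p.Prime] {k : Type*} [CommRing k]
    (hpk : (p : k) = 0)
    (ρ : G →* Matrix (Fin N) (Fin N) ℤ) (M T : Submodule ℤ (Fin N → ℤ))
    (H : Subgroup G) (hHM : ∀ h ∈ H, ∀ v ∈ M, ρ h *ᵥ v ∈ M) (hHT : ∀ h ∈ H, ∀ v ∈ T, ρ h *ᵥ v ∈ T)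
    (a : ℕ) (y ℓ : Fin a → (Fin N → ℤ)) (hyM : ∀ j, y j ∈ M)
    (hℓT : ∀ j, ∀ s ∈ T, (p : ℤ) ∣ ℓ j ⬝ᵥ s)
    (hℓy : ∀ i j, ℓ i ⬝ᵥ y j ≡ (if i = j then 1 else 0) [ZMOD p])
    (hspan : ∀ u ∈ M, u - ∑ j, (ℓ j ⬝ᵥ u) • y j ∈ T) :
    ∃ R : H →* Matrix (Fin a) (Fin a) k, ∀ (h : H) (i j : Fin a),
      R h i j = ((ℓ i ⬝ᵥ (ρ (h : G) *ᵥ y j) : ℤ) : k) := by
  have hmul : ∀ (h h' : G), h ∈ H → h' ∈ H → ∀ i j,
      (p : ℤ) ∣ ℓ i ⬝ᵥ (ρ (h * h') *ᵥ y j)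
        - ∑ l, (ℓ i ⬝ᵥ (ρ h *ᵥ y l)) * (ℓ l ⬝ᵥ (ρ h' *ᵥ y j)) := by
    intro h h' hh hh' i j
    have hu : ρ h' *ᵥ y j ∈ M := hHM h' hh' _ (hyM j)
    have hd := hℓT i _ (hHT h hh _ (hspan _ hu))
    have heq : ℓ i ⬝ᵥ (ρ h *ᵥ (ρ h' *ᵥ y j - ∑ l, (ℓ l ⬝ᵥ (ρ h' *ᵥ y j)) • y l))
        = ℓ i ⬝ᵥ (ρ (h * h') *ᵥ y j)
          - ∑ l, (ℓ i ⬝ᵥ (ρ h *ᵥ y l)) * (ℓ l ⬝ᵥ (ρ h' *ᵥ y j)) := by
      rw [Matrix.mulVec_sub, dotProduct_sub, map_mul, ← Matrix.mulVec_mulVec, Matrix.mulVec_sum,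
        dotProduct_sum]
      congr 1
      refine Finset.sum_congr rfl fun l _ => ?_
      rw [Matrix.mulVec_smul, dotProduct_smul, smul_eq_mul, mul_comm]
    rw [← heq]
    exact hd
  have hone : ∀ i j, (p : ℤ) ∣ ℓ i ⬝ᵥ (ρ 1 *ᵥ y j) - (if i = j then 1 else 0) := by
    intro i j
    rw [map_one, Matrix.one_mulVec]
    exact Int.modEq_iff_dvd.mp (hℓy i j).symm
  refine ⟨{ toFun := fun h => Matrix.of fun i j => ((ℓ i ⬝ᵥ (ρ (h : G) *ᵥ y j) : ℤ) : k)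
            map_one' := ?_
            map_mul' := ?_ }, fun h i j => rfl⟩
  · ext i j
    simp only [Matrix.of_apply, Subgroup.coe_one]
    rw [d1_cast_eq_of_dvd p hpk (hone i j), Matrix.one_apply]
    split_ifs <;> simp
  · intro h h'
    ext i j
    simp only [Matrix.of_apply, Subgroup.coe_mul, Matrix.mul_apply]
    rw [d1_cast_eq_of_dvd p hpk (hmul h h' h.2 h'.2 i j)]
    push_cast
    rfl

end Cfsg.Agent.Helper14
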