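-- helper14: piece LH of CALL S4442L (helper77): the bridge from eigenvectors of the reduced
-- commutant matrices over the residue field to the hypotheses of the eigenvalue count.
import Mathlib
import Cfsg.Prelude.Def_Characters
import Cfsg.Prelude.Def_Blocks
import Cfsg.Agent.Helper39.LatP7
import Cfsg.Agent.Helper15.AlgIntMod
import Cfsg.Agent.Helper14.D1LB

universe u

set_option autoImplicit false

namespace Cfsg.Agent.Helper14

open Cfsg Matrix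
open scoped ComplexConjugate

/-- the rearrangement of sums behind the bridge -/
theorem d1_rearrange {R : Type*} [CommRing R] {Q a : ℕ} (w : Fin Q → R) (vt : Fin a → R)
    (e : Fin Q → Fin a → R) (Bc : Fin Q → Fin a → Fin a → R) (z : Fin a → R) (lam : R) :
    ∑ q, w q * ∑ i, vt i * (e q i + ∑ l, Bc q l i * z l) - lam * ∑ l, vt l * z l
      = ∑ q, ∑ i, (w q * vt i) * e q i
        + ∑ l, (∑ i, (∑ q, w q * Bc q l i) * vt i - lam * vt l) * z l := by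
  have h1 : ∑ q, w q * ∑ i, vt i * (e q i + ∑ l, Bc q l i * z l)
      = ∑ q, ∑ i, (w q * vt i) * e q i + ∑ q, ∑ i, ∑ l, w q * vt i * Bc q l i * z l := by
    rw [← Finset.sum_add_distrib]
    refine Finset.sum_congr rfl fun q _ => ?_
    rw [Finset.mul_sum, ← Finset.sum_add_distrib]
    refine Finset.sum_congr rfl fun i _ => ?_
    rw [mul_add, mul_add, Finset.mul_sum, Finset.mul_sum]
    congr 1
    · ring
    · exact Finset.sum_congr rfl fun l _ => by ring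
  have h2 : ∑ q, ∑ i, ∑ l, w q * vt i * Bc q l i * z l
      = ∑ l, ∑ i, ∑ q, w q * vt i * Bc q l i * z l := by
    calc ∑ q, ∑ i, ∑ l, w q * vt i * Bc q l i * z l
        = ∑ i, ∑ q, ∑ l, w q * vt i * Bc q l i * z l := Finset.sum_comm
      _ = ∑ i, ∑ l, ∑ q, w q * vt i * Bc q l i * z l :=
          Finset.sum_congr rfl fun i _ => Finset.sum_comm
      _ = ∑ l, ∑ i, ∑ q, w q * vt i * Bc q l i * z l := Finset.sum_comm
  have h3 : ∑ l, (∑ i, (∑ q, w q * Bc q l i) * vt i - lam * vt l) * z l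
      = ∑ l, ∑ i, ∑ q, w q * vt i * Bc q l i * z l - lam * ∑ l, vt l * z l := by
    rw [Finset.mul_sum, ← Finset.sum_sub_distrib]
    refine Finset.sum_congr rfl fun l _ => ?_
    rw [sub_mul, Finset.sum_mul]
    congr 1
    · refine Finset.sum_congr rfl fun i _ => ?_
      rw [Finset.sum_mul, Finset.sum_mul]
      exact Finset.sum_congr rfl fun q _ => by ring
    · ring
  rw [h1, h2, h3]
  ring

/-- membership of an algebraic integer in `𝔐`, in terms of `latInM` -/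
theorem d1_latInM_coe_iff (𝔐 : Ideal Cfsg.AlgInt) (ζ : Cfsg.AlgInt) :
    Helper39.latInM 𝔐 (ζ : ℂ) ↔ Ideal.Quotient.mk 𝔐 ζ = 0 := by
  rw [Ideal.Quotient.eq_zero_iff_mem]
  constructor
  · rintro ⟨μ, hμ, h⟩
    have h1 : μ = ζ := Subtype.ext h
    rw [← h1]
    exact hμ
  · intro h
    exact ⟨ζ, h, rfl⟩

/-- PIECE LH -/
theorem d1_bridge {N : ℕ} (p : ℕ) [Fact p.Prime] (𝔐 : Ideal Cfsg.AlgInt)
    (h𝔐 : Cfsg.IsPModular p 𝔐)
    (M T : Submodule ℤ (Fin N → ℤ))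
    (a : ℕ) (y ℓ : Fin a → (Fin N → ℤ)) (hyM : ∀ j, y j ∈ M)
    (hℓT : ∀ j, ∀ s ∈ T, (p : ℤ) ∣ ℓ j ⬝ᵥ s)
    (hℓy : ∀ i j, ℓ i ⬝ᵥ y j ≡ (if i = j then 1 else 0) [ZMOD p])
    (Q : ℕ) (γ : Fin Q → Matrix (Fin N) (Fin N) ℤ)
    (hγM : ∀ q, ∀ v ∈ M, γ q *ᵥ v ∈ M) (hγT : ∀ q, ∀ v ∈ T, γ q *ᵥ v ∈ T)
    (B : Fin Q → Matrix (Fin a) (Fin a) ℤ)
    (hB : ∀ q j, γ q *ᵥ y j - ∑ i, (B q i j) • y i ∈ T)
    (w : Fin Q → Cfsg.AlgInt)
    (ν : ℕ) (v : Fin ν → (Fin a → Cfsg.AlgInt ⧸ 𝔐)) (c : Fin ν → Cfsg.AlgInt ⧸ 𝔐)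
    (hv : ∀ j, v j ≠ 0) (hc0 : ∀ j, c j ≠ 0) (hcinj : Function.Injective c)
    (heig : ∀ j, (∑ q, Ideal.Quotient.mk 𝔐 (w q) •
        (B q).map (Int.cast : ℤ → Cfsg.AlgInt ⧸ 𝔐)) *ᵥ v j = c j • v j) :
    ∃ (S : Submodule Cfsg.AlgInt (Fin N → ℂ)) (Y Λ : Fin ν → (Fin N → ℂ)) (lam : Fin ν → ℂ),
      (∀ u ∈ S, (∑ q, (w q : ℂ) • (γ q).map (Int.castRingHom ℂ)) *ᵥ u ∈ S) ∧
      (∀ j, lam j ∈ Cfsg.AlgInt) ∧
      (∀ j, ∀ u ∈ S, Helper39.latInM 𝔐 (Λ j ⬝ᵥ u)) ∧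
      (∀ j, Λ j ⬝ᵥ Y j ∈ Cfsg.AlgInt ∧ ¬ Helper39.latInM 𝔐 (Λ j ⬝ᵥ Y j)) ∧
      (∀ j, (∑ q, (w q : ℂ) • (γ q).map (Int.castRingHom ℂ)) *ᵥ Y j - lam j • Y j ∈ S) ∧
      (∀ j, ¬ Helper39.latInM 𝔐 (lam j)) ∧
      (∀ j j', j ≠ j' → ¬ Helper39.latInM 𝔐 (lam j - lam j')) := by
  classical
  have hp𝔐 : (p : Cfsg.AlgInt) ∈ 𝔐 := h𝔐.2.2
  have hpk : ((p : ℕ) : Cfsg.AlgInt ⧸ 𝔐) = 0 :=
    Cfsg.Agent.Helper15.algInt_natCast_mk_eq_zero p 𝔐 h𝔐
  -- lifts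
  choose vt hvt using fun (j : Fin ν) (i : Fin a) => Ideal.Quotient.mk_surjective (v j i)
  choose lt hlt using fun (j : Fin ν) => Ideal.Quotient.mk_surjective (c j)
  choose i0 hi0 using fun (j : Fin ν) => Function.ne_iff.mp (hv j)
  -- the complexification of integer vectors
  obtain ⟨ct, hct⟩ : ∃ ct : (Fin N → ℤ) → (Fin N → ℂ), ∀ s n, ct s n = ((s n : ℤ) : ℂ) :=
    ⟨fun s n => (s n : ℂ), fun _ _ => rfl⟩
  have hct2 : ∀ t : Fin N → ℤ, ct t = (Int.castRingHom ℂ) ∘ t := fun t => by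
    funext m
    rw [hct]
    rfl
  have hct_mul : ∀ (A : Matrix (Fin N) (Fin N) ℤ) (s : Fin N → ℤ),
      A.map (Int.castRingHom ℂ) *ᵥ ct s = ct (A *ᵥ s) := by
    intro A s
    funext n
    rw [hct2, hct2]
    exact (RingHom.map_mulVec (Int.castRingHom ℂ) A s n).symm
  have hct_dot : ∀ (l s : Fin N → ℤ), ct l ⬝ᵥ ct s = ((l ⬝ᵥ s : ℤ) : ℂ) := by
    intro l s
    rw [hct2, hct2]
    exact (RingHom.map_dotProduct (Int.castRingHom ℂ) l s).symm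
  -- the module `S`
  obtain ⟨S, hS⟩ : ∃ S : Submodule Cfsg.AlgInt (Fin N → ℂ),
      S = Submodule.span Cfsg.AlgInt
        ({x | ∃ s ∈ T, x = ct s} ∪ {x | ∃ μ ∈ 𝔐, ∃ m ∈ M, x = (μ : ℂ) • ct m}) := ⟨_, rfl⟩
  have hST : ∀ s ∈ T, ct s ∈ S := fun s hs => by
    rw [hS]
    exact Submodule.subset_span (Or.inl ⟨s, hs, rfl⟩)
  have hSM : ∀ μ ∈ 𝔐, ∀ m ∈ M, (μ : ℂ) • ct m ∈ S := fun μ hμ m hm => by
    rw [hS]
    exact Submodule.subset_span (Or.inr ⟨μ, hμ, m, hm, rfl⟩)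
  have hSsmul : ∀ (c : Cfsg.AlgInt) (x : Fin N → ℂ), x ∈ S → (c : ℂ) • x ∈ S :=
    fun c x hx => S.smul_mem c hx
  -- the matrix `Γ`
  obtain ⟨Γ, hΓ⟩ : ∃ Γ : Matrix (Fin N) (Fin N) ℂ,
      Γ = ∑ q, (w q : ℂ) • (γ q).map (Int.castRingHom ℂ) := ⟨_, rfl⟩
  have hΓct : ∀ s : Fin N → ℤ, Γ *ᵥ ct s = ∑ q, (w q : ℂ) • ct (γ q *ᵥ s) := by
    intro s
    rw [hΓ, Matrix.sum_mulVec]
    refine Finset.sum_congr rfl fun q _ => ?_
    rw [Matrix.smul_mulVec, hct_mul]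
  obtain ⟨Y, hY⟩ : ∃ Y : Fin ν → (Fin N → ℂ), ∀ j, Y j = ∑ i, (vt j i : ℂ) • ct (y i) :=
    ⟨_, fun _ => rfl⟩
  obtain ⟨Λ, hΛ⟩ : ∃ Λ : Fin ν → (Fin N → ℂ), ∀ j, Λ j = ct (ℓ (i0 j)) := ⟨_, fun _ => rfl⟩
  obtain ⟨lam, hlam⟩ : ∃ lam : Fin ν → ℂ, ∀ j, lam j = (lt j : ℂ) := ⟨_, fun _ => rfl⟩
  rw [← hΓ]
  refine ⟨S, Y, Λ, lam, ?_, ?_, ?_, ?_, ?_, ?_, ?_⟩
  · -- `S` is `Γ`-stable
    intro u hu
    rw [hS] at hu
    induction hu using Submodule.span_induction with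
    | mem x hx =>
      rcases hx with ⟨s, hs, rfl⟩ | ⟨μ, hμ, m, hm, rfl⟩
      · rw [hΓct]
        exact S.sum_mem fun q _ => hSsmul (w q) _ (hST _ (hγT q s hs))
      · rw [Matrix.mulVec_smul, hΓct, Finset.smul_sum]
        refine S.sum_mem fun q _ => ?_
        rw [smul_comm]
        exact hSsmul (w q) _ (hSM μ hμ _ (hγM q m hm))
    | zero =>
      rw [Matrix.mulVec_zero]
      exact S.zero_mem
    | add x y _ _ hx hy =>
      rw [Matrix.mulVec_add]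
      exact S.add_mem hx hy
    | smul c x _ hx =>
      have h1 : Γ *ᵥ (c • x) = (c : ℂ) • (Γ *ᵥ x) := by
        rw [show c • x = (c : ℂ) • x from rfl, Matrix.mulVec_smul]
      rw [h1]
      exact hSsmul c _ hx
  · intro j
    rw [hlam]
    exact (lt j).2
  · -- `Λ j` maps `S` into `𝔐`
    intro j u hu
    rw [hΛ]
    rw [hS] at hu
    induction hu using Submodule.span_induction with
    | mem x hx =>
      rcases hx with ⟨s, hs, rfl⟩ | ⟨μ, hμ, m, hm, rfl⟩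
      · rw [hct_dot]
        obtain ⟨k, hk⟩ := hℓT (i0 j) s hs
        rw [hk]
        refine ⟨(p : Cfsg.AlgInt) * (k : Cfsg.AlgInt), 𝔐.mul_mem_right _ hp𝔐, ?_⟩
        push_cast <;> rfl
      · rw [dotProduct_smul, hct_dot, smul_eq_mul]
        refine ⟨μ * ((ℓ (i0 j) ⬝ᵥ m : ℤ) : Cfsg.AlgInt), 𝔐.mul_mem_right _ hμ, ?_⟩
        push_cast <;> rfl
    | zero =>
      rw [dotProduct_zero]
      exact Helper39.latInM_zero
    | add x y _ _ hx hy =>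
      rw [dotProduct_add]
      exact Helper39.latInM_add hx hy
    | smul c x _ hx =>
      rw [show c • x = (c : ℂ) • x from rfl, dotProduct_smul, smul_eq_mul]
      exact Helper39.latInM_mul_left c.2 hx
  · -- `Λ j ⬝ Y j` is a unit mod `𝔐`
    intro j
    have h1 : Λ j ⬝ᵥ Y j
        = ((∑ i, vt j i * ((ℓ (i0 j) ⬝ᵥ y i : ℤ) : Cfsg.AlgInt) : Cfsg.AlgInt) : ℂ) := by
      rw [hΛ, hY, dotProduct_sum]
      push_cast
      refine Finset.sum_congr rfl fun i _ => ?_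
      rw [dotProduct_smul, hct_dot, smul_eq_mul]
    rw [h1]
    refine ⟨Subtype.property _, ?_⟩
    rw [d1_latInM_coe_iff, map_sum]
    have h2 : ∀ i, (((ℓ (i0 j) ⬝ᵥ y i : ℤ)) : Cfsg.AlgInt ⧸ 𝔐) = if i0 j = i then 1 else 0 := by
      intro i
      rw [d1_cast_eq_of_dvd p hpk (Int.modEq_iff_dvd.mp (hℓy (i0 j) i).symm)]
      split_ifs <;> simp
    simp only [map_mul, hvt, map_intCast, h2, mul_ite, mul_one, mul_zero, Finset.sum_ite_eq,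
      Finset.mem_univ, if_true]
    exact hi0 j
  · -- the eigenvector relation mod `S`
    intro j
    obtain ⟨E, hE⟩ : ∃ E : Fin Q → Fin a → (Fin N → ℤ),
        ∀ q i, E q i = γ q *ᵥ y i - ∑ l, (B q l i) • y l := ⟨_, fun _ _ => rfl⟩
    have hET : ∀ q i, E q i ∈ T := fun q i => by
      rw [hE]
      exact hB q i
    obtain ⟨μ, hμ⟩ : ∃ μ : Fin a → Cfsg.AlgInt, ∀ l, μ l
        = ∑ i, (∑ q, w q * ((B q l i : ℤ) : Cfsg.AlgInt)) * vt j i - lt j * vt j l :=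
      ⟨_, fun _ => rfl⟩
    have hμ𝔐 : ∀ l, μ l ∈ 𝔐 := by
      intro l
      rw [← Ideal.Quotient.eq_zero_iff_mem, hμ]
      have h := congrFun (heig j) l
      simp only [Matrix.mulVec, dotProduct, Matrix.sum_apply, Matrix.smul_apply,
        Matrix.map_apply, smul_eq_mul, Pi.smul_apply] at h
      simp only [map_sub, map_sum, map_mul, map_intCast, hvt, hlt]
      rw [h, sub_self]
    have hΓY : Γ *ᵥ Y j = ∑ q, (w q : ℂ) • ∑ i, (vt j i : ℂ) • ct (γ q *ᵥ y i) := by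
      rw [hΓ, hY, Matrix.sum_mulVec]
      refine Finset.sum_congr rfl fun q _ => ?_
      rw [Matrix.smul_mulVec, Matrix.mulVec_sum]
      congr 1
      refine Finset.sum_congr rfl fun i _ => ?_
      rw [Matrix.mulVec_smul, hct_mul]
    have hγE : ∀ q i n, (γ q *ᵥ y i) n = E q i n + ∑ l, B q l i * y l n := by
      intro q i n
      rw [hE]
      simp only [Pi.sub_apply, Finset.sum_apply, Pi.smul_apply, smul_eq_mul]
      ring
    have hid : Γ *ᵥ Y j - lam j • Y j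
        = ∑ q, ∑ i, ((w q * vt j i : Cfsg.AlgInt) : ℂ) • ct (E q i)
          + ∑ l, (μ l : ℂ) • ct (y l) := by
      funext n
      have hLn : (Γ *ᵥ Y j - lam j • Y j) n
          = ∑ q, (w q : ℂ) * ∑ i, (vt j i : ℂ) * (((E q i n : ℤ) : ℂ)
              + ∑ l, ((B q l i : ℤ) : ℂ) * ((y l n : ℤ) : ℂ))
            - (lt j : ℂ) * ∑ l, (vt j l : ℂ) * ((y l n : ℤ) : ℂ) := by
        rw [hΓY, hlam, hY]
        simp only [Pi.sub_apply, Finset.sum_apply, Pi.smul_apply, smul_eq_mul, hct, hγE]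
        push_cast
        rfl
      have hRn : (∑ q, ∑ i, ((w q * vt j i : Cfsg.AlgInt) : ℂ) • ct (E q i)
            + ∑ l, (μ l : ℂ) • ct (y l)) n
          = ∑ q, ∑ i, ((w q : ℂ) * (vt j i : ℂ)) * ((E q i n : ℤ) : ℂ)
            + ∑ l, (∑ i, (∑ q, (w q : ℂ) * ((B q l i : ℤ) : ℂ)) * (vt j i : ℂ)
                - (lt j : ℂ) * (vt j l : ℂ)) * ((y l n : ℤ) : ℂ) := by
        simp only [Pi.add_apply, Finset.sum_apply, Pi.smul_apply, smul_eq_mul, hct, hμ]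
        push_cast
        rfl
      rw [hLn, hRn]
      exact d1_rearrange (fun q => (w q : ℂ)) (fun i => (vt j i : ℂ))
        (fun q i => ((E q i n : ℤ) : ℂ)) (fun q l i => ((B q l i : ℤ) : ℂ))
        (fun l => ((y l n : ℤ) : ℂ)) (lt j : ℂ)
    rw [hid]
    exact S.add_mem (S.sum_mem fun q _ => S.sum_mem fun i _ => hSsmul _ _ (hST _ (hET q i)))
      (S.sum_mem fun l _ => hSM _ (hμ𝔐 l) _ (hyM l))
  · intro j
    rw [hlam, d1_latInM_coe_iff, hlt]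
    exact hc0 j
  · intro j j' hjj'
    have h1 : lam j - lam j' = ((lt j - lt j' : Cfsg.AlgInt) : ℂ) := by
      rw [hlam, hlam]
      push_cast <;> rfl
    rw [h1, d1_latInM_coe_iff, map_sub, hlt, hlt, sub_eq_zero]
    exact fun h => hjj' (hcinj h)

end Cfsg.Agent.Helper14
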