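-- helper14: piece LI of CALL S4442L (helper77): a matrix over a field of characteristic `p`
-- commuting with reductions of integer matrices is a combination of reductions of integer
-- matrices commuting mod `p`.
import Mathlib

universe u

set_option autoImplicit false

namespace Cfsg.Agent.Helper14

open Matrix

/-- a finite set of elements of a field of characteristic `p` has coordinates in the prime
field with respect to prime-field-independent elements -/
theorem d1_prime_field_coords (p : ℕ) [Fact p.Prime] {k : Type*} [Field k] [CharP k p]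
    {a : ℕ} (β : Matrix (Fin a) (Fin a) k) :
    ∃ (Q : ℕ) (e : Fin Q → k) (Bm : Fin Q → Matrix (Fin a) (Fin a) ℤ),
      (∀ i j, β i j = ∑ q, ((Bm q i j : ℤ) : k) * e q) ∧
      (∀ d : Fin Q → ℤ, ∑ q, ((d q : ℤ) : k) * e q = 0 → ∀ q, (p : ℤ) ∣ d q) := by
  classical
  letI : Algebra (ZMod p) k := ZMod.algebra k p
  have hsm : ∀ (z : ZMod p) (x : k), z • x = ((z.cast : ℤ) : k) * x := by
    intro z x
    rw [Algebra.smul_def, ZMod.intCast_cast]
    rfl
  have hsm' : ∀ (n : ℤ) (x : k), ((n : ZMod p)) • x = (n : k) * x := by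
    intro n x
    rw [Algebra.smul_def, map_intCast]
  obtain ⟨V, hV⟩ : ∃ V : Submodule (ZMod p) k,
      V = Submodule.span (ZMod p) (Set.range (fun ij : Fin a × Fin a => β ij.1 ij.2)) :=
    ⟨_, rfl⟩
  haveI : Module.Finite (ZMod p) V := by
    rw [hV]
    exact Module.Finite.span_of_finite (ZMod p) (Set.finite_range _)
  have hβV : ∀ i j, β i j ∈ V := fun i j => by
    rw [hV]
    exact Submodule.subset_span ⟨(i, j), rfl⟩
  obtain ⟨b⟩ : Nonempty (Module.Basis (Fin (Module.finrank (ZMod p) V)) (ZMod p) V) :=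
    ⟨Module.finBasis (ZMod p) V⟩
  refine ⟨Module.finrank (ZMod p) V, fun q => (b q : k),
    fun q => Matrix.of fun i j => ((b.repr ⟨β i j, hβV i j⟩ q).cast : ℤ), ?_, ?_⟩
  · intro i j
    have h := congrArg Subtype.val (b.sum_repr ⟨β i j, hβV i j⟩)
    simp only [Submodule.coe_sum, Submodule.coe_smul] at h
    rw [← h]
    refine Finset.sum_congr rfl fun q _ => ?_
    rw [hsm]
    rfl
  · intro d hd q
    have h1 : ∑ q, ((d q : ℤ) : ZMod p) • b q = 0 := by
      apply Subtype.ext
      simp only [Submodule.coe_sum, Submodule.coe_smul, hsm', ZeroMemClass.coe_zero]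
      exact hd
    have h2 := Fintype.linearIndependent_iff.mp b.linearIndependent _ h1 q
    exact (ZMod.intCast_zmod_eq_zero_iff_dvd _ p).mp h2

/-- PIECE LI -/
theorem d1_commutant_basechange (p : ℕ) [Fact p.Prime] {k : Type*} [Field k] [CharP k p]
    {ι : Type*} [Finite ι] {a : ℕ}
    (Rm : ι → Matrix (Fin a) (Fin a) ℤ) (β : Matrix (Fin a) (Fin a) k)
    (hβ : ∀ s, β * (Rm s).map (Int.cast : ℤ → k) = (Rm s).map (Int.cast : ℤ → k) * β) :
    ∃ (Q : ℕ) (B : Fin Q → Matrix (Fin a) (Fin a) ℤ) (w : Fin Q → k),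
      (∀ q s i j, (p : ℤ) ∣ (B q * Rm s - Rm s * B q) i j) ∧
      β = ∑ q, w q • (B q).map (Int.cast : ℤ → k) := by
  obtain ⟨Q, e, Bm, hβB, hli⟩ := d1_prime_field_coords p β
  refine ⟨Q, Bm, e, ?_, ?_⟩
  · intro q s i j
    refine hli (fun q => (Bm q * Rm s - Rm s * Bm q) i j) ?_ q
    have h0 := congrFun (congrFun (hβ s) i) j
    simp only [Matrix.mul_apply, Matrix.map_apply] at h0
    simp only [hβB] at h0
    have h1 : ∑ q, (((Bm q * Rm s - Rm s * Bm q) i j : ℤ) : k) * e q
        = (∑ l, (∑ q, ((Bm q i l : ℤ) : k) * e q) * ((Rm s l j : ℤ) : k))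
          - ∑ l, ((Rm s i l : ℤ) : k) * ∑ q, ((Bm q l j : ℤ) : k) * e q := by
      simp only [Matrix.sub_apply, Matrix.mul_apply, Int.cast_sub, Int.cast_sum, Int.cast_mul,
        sub_mul, Finset.sum_mul, Finset.mul_sum, Finset.sum_sub_distrib]
      congr 1
      · rw [Finset.sum_comm]
        refine Finset.sum_congr rfl fun l _ => Finset.sum_congr rfl fun q _ => by ring
      · rw [Finset.sum_comm]
        refine Finset.sum_congr rfl fun l _ => Finset.sum_congr rfl fun q _ => by ring
    rw [h1, h0, sub_self]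
  · ext i j
    rw [hβB i j, Matrix.sum_apply]
    refine Finset.sum_congr rfl fun q _ => ?_
    rw [Matrix.smul_apply, Matrix.map_apply, smul_eq_mul, mul_comm]

end Cfsg.Agent.Helper14
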