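-- helper14: piece LK of CALL S4442L (helper77): the residue field of a `p`-modular maximal
-- ideal of the algebraic integers is infinite.
import Mathlib
import Cfsg.Prelude.Def_Blocks
import Cfsg.Agent.Helper15.AlgIntMod

universe u

set_option autoImplicit false

namespace Cfsg.Agent.Helper14

open Cfsg Matrix
open scoped ComplexConjugate

/-- for `n` prime to `p` there is an `n`-th root of unity whose first `n` powers have
pairwise distinct residues -/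
theorem d1_roots_inj (p : ℕ) (𝔐 : Ideal Cfsg.AlgInt) (h𝔐 : Cfsg.IsPModular p 𝔐) (n : ℕ)
    (hn0 : n ≠ 0) (hpn : ¬ p ∣ n) :
    ∃ ζ' : Cfsg.AlgInt, ζ' ^ n = 1 ∧
      Function.Injective (fun i : Fin n => Ideal.Quotient.mk 𝔐 (ζ' ^ (i : ℕ))) := by
  have hζ := Complex.isPrimitiveRoot_exp n hn0
  obtain ⟨ζ, hζdef⟩ : ∃ ζ : ℂ, ζ = Complex.exp (2 * Real.pi * Complex.I / n) := ⟨_, rfl⟩
  rw [← hζdef] at hζ
  have hint : IsIntegral ℤ ζ := hζ.isIntegral (Nat.pos_of_ne_zero hn0)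
  obtain ⟨ζ', hζ'⟩ : ∃ ζ' : Cfsg.AlgInt, (ζ' : ℂ) = ζ := ⟨⟨ζ, hint⟩, rfl⟩
  have hζ'n : ζ' ^ n = 1 := by
    apply Subtype.ext
    rw [SubmonoidClass.coe_pow, hζ', OneMemClass.coe_one]
    exact hζ.pow_eq_one
  refine ⟨ζ', hζ'n, ?_⟩
  intro i j hij
  simp only at hij
  rw [Ideal.Quotient.eq] at hij
  have h1 : (ζ' ^ (i : ℕ)) ^ n = 1 := by rw [← pow_mul, mul_comm, pow_mul, hζ'n, one_pow]
  have h2 : (ζ' ^ (j : ℕ)) ^ n = 1 := by rw [← pow_mul, mul_comm, pow_mul, hζ'n, one_pow]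
  have h3 := Cfsg.Agent.Helper15.algInt_root_inj p 𝔐 h𝔐 _ _ n hpn h1 h2 hij
  have h4 : ζ ^ (i : ℕ) = ζ ^ (j : ℕ) := by
    have h5 := congrArg (fun z : Cfsg.AlgInt => (z : ℂ)) h3
    simp only [SubmonoidClass.coe_pow, hζ'] at h5
    exact h5
  exact Fin.ext (hζ.pow_inj i.2 j.2 h4)

/-- PIECE LK -/
theorem d1_residue_infinite (p : ℕ) [Fact p.Prime] (𝔐 : Ideal Cfsg.AlgInt)
    (h𝔐 : Cfsg.IsPModular p 𝔐) : Infinite (Cfsg.AlgInt ⧸ 𝔐) := by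
  by_contra hinf
  rw [not_infinite_iff_finite] at hinf
  have hp : p.Prime := Fact.out
  obtain ⟨c, hc⟩ : ∃ c, c = Nat.card (Cfsg.AlgInt ⧸ 𝔐) := ⟨_, rfl⟩
  obtain ⟨n, hn⟩ : ∃ n, n = p * c + 1 := ⟨_, rfl⟩
  have hn0 : n ≠ 0 := by omega
  have hpn : ¬ p ∣ n := by
    rw [hn]
    intro h
    have h1 : p ∣ 1 := (Nat.dvd_add_right (dvd_mul_right p c)).mp h
    exact hp.one_lt.ne' (Nat.dvd_one.mp h1)
  obtain ⟨ζ', -, hinj⟩ := d1_roots_inj p 𝔐 h𝔐 n hn0 hpn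
  have hle := Nat.card_le_card_of_injective _ hinj
  rw [Nat.card_fin, ← hc] at hle
  have h2 : c ≤ p * c := Nat.le_mul_of_pos_left c hp.pos
  omega

end Cfsg.Agent.Helper14
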