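-- helper14: piece LJ of CALL S4442L (helper77): Teichmüller lifts - every residue class of a
-- `p`-modular maximal ideal of the algebraic integers is zero or the class of a root of unity
-- of order prime to `p`.
import Mathlib
import Cfsg.Prelude.Def_Blocks
import Cfsg.Agent.Helper15.AlgIntMod
import Cfsg.Agent.Helper14.D1LK

universe u

set_option autoImplicit false

namespace Cfsg.Agent.Helper14

open Cfsg Matrix
open scoped ComplexConjugate

/-- a nonzero integral element of a domain of characteristic `p` is a root of unity of order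
prime to `p` -/
theorem d1_finite_order {k : Type*} [CommRing k] [IsDomain k] (p : ℕ) [Fact p.Prime] [CharP k p]
    (c : k) (hc0 : c ≠ 0) (hint : IsIntegral ℤ c) :
    ∃ n : ℕ, 0 < n ∧ ¬ p ∣ n ∧ c ^ n = 1 := by
  classical
  have hp : p.Prime := Fact.out
  letI : Algebra (ZMod p) k := ZMod.algebra k p
  have hint' : IsIntegral (ZMod p) c := hint.tower_top
  obtain ⟨W, hW⟩ : ∃ W : Submodule (ZMod p) k,
      W = Subalgebra.toSubmodule (Algebra.adjoin (ZMod p) {c}) := ⟨_, rfl⟩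
  have hfg : W.FG := by
    rw [hW]
    exact hint'.fg_adjoin_singleton
  haveI : Module.Finite (ZMod p) W := Module.Finite.iff_fg.mpr hfg
  haveI : Finite W := Module.finite_of_finite (ZMod p)
  have hmem : ∀ i : ℕ, c ^ i ∈ W := fun i => by
    rw [hW]
    exact Subalgebra.pow_mem _ (Algebra.self_mem_adjoin_singleton _ c) i
  have hninj : ¬ Function.Injective (fun i : ℕ => (⟨c ^ i, hmem i⟩ : W)) :=
    not_injective_infinite_finite _
  obtain ⟨i, j, hlt, hij⟩ : ∃ i j : ℕ, i < j ∧ c ^ i = c ^ j := by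
    simp only [Function.Injective, not_forall] at hninj
    obtain ⟨i, j, hij, hne⟩ := hninj
    have hij' : c ^ i = c ^ j := congrArg Subtype.val hij
    rcases Nat.lt_or_gt_of_ne hne with h | h
    · exact ⟨i, j, h, hij'⟩
    · exact ⟨j, i, h, hij'.symm⟩
  have h1 : c ^ (j - i) = 1 := by
    have h2 : c ^ i * c ^ (j - i) = c ^ i * 1 := by
      rw [← pow_add, Nat.add_sub_cancel' hlt.le, mul_one, hij]
    exact mul_left_cancel₀ (pow_ne_zero i hc0) h2
  have hji : j - i ≠ 0 := by omega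
  obtain ⟨e, m, hpm, hm⟩ := Nat.exists_eq_pow_mul_and_not_dvd hji p hp.ne_one
  have hm0 : 0 < m := by
    rcases Nat.eq_zero_or_pos m with h | h
    · rw [h, mul_zero] at hm
      exact absurd hm hji
    · exact h
  refine ⟨m, hm0, hpm, ?_⟩
  have h3 : (c ^ m - 1) ^ p ^ e = 0 := by
    rw [sub_pow_char_pow, one_pow, ← pow_mul, mul_comm, ← hm, h1, sub_self]
  exact sub_eq_zero.mp ((pow_eq_zero_iff (pow_ne_zero e hp.ne_zero)).mp h3)

/-- PIECE LJ -/
theorem d1_teichmuller (p : ℕ) [Fact p.Prime] (𝔐 : Ideal Cfsg.AlgInt)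
    (h𝔐 : Cfsg.IsPModular p 𝔐) (c : Cfsg.AlgInt ⧸ 𝔐) :
    ∃ ω : Cfsg.AlgInt, Ideal.Quotient.mk 𝔐 ω = c ∧
      (ω = 0 ∨ ∃ n : ℕ, 0 < n ∧ ¬ p ∣ n ∧ ω ^ n = 1) := by
  classical
  haveI : 𝔐.IsMaximal := h𝔐.2.1
  haveI : IsDomain (Cfsg.AlgInt ⧸ 𝔐) := Ideal.Quotient.isDomain 𝔐
  haveI : CharP (Cfsg.AlgInt ⧸ 𝔐) p := Cfsg.Agent.Helper15.algInt_charP p 𝔐 h𝔐
  by_cases hc0 : c = 0
  · exact ⟨0, by rw [map_zero, hc0], Or.inl rfl⟩
  obtain ⟨n, hn0, hpn, hcn⟩ : ∃ n : ℕ, 0 < n ∧ ¬ p ∣ n ∧ c ^ n = 1 := by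
    obtain ⟨z, rfl⟩ := Ideal.Quotient.mk_surjective c
    have hz : IsIntegral ℤ z := integralClosure.isIntegral z
    have hcz : IsIntegral ℤ (Ideal.Quotient.mkₐ ℤ 𝔐 z) := hz.map (Ideal.Quotient.mkₐ ℤ 𝔐)
    exact d1_finite_order p _ hc0 hcz
  obtain ⟨ζ', hζ'n, hinj⟩ := d1_roots_inj p 𝔐 h𝔐 n hn0.ne' hpn
  have hprim : IsPrimitiveRoot (Ideal.Quotient.mk 𝔐 ζ') n := by
    refine IsPrimitiveRoot.mk_of_lt _ hn0 (by rw [← map_pow, hζ'n, map_one]) ?_
    intro l hl0 hln h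
    have h1 : (⟨l, hln⟩ : Fin n) = ⟨0, hn0⟩ := by
      apply hinj
      simp only [map_pow, pow_zero]
      exact h
    have h2 : l = 0 := congrArg Fin.val h1
    omega
  haveI : NeZero n := ⟨hn0.ne'⟩
  obtain ⟨i, -, hic⟩ := hprim.eq_pow_of_pow_eq_one hcn
  refine ⟨ζ' ^ i, by rw [map_pow, hic], Or.inr ⟨n, hn0, hpn, ?_⟩⟩
  rw [← pow_mul, mul_comm, pow_mul, hζ'n, one_pow]

end Cfsg.Agent.Helper14
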