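-- helper14: piece LO of CALL S4442L (helper77): the class function `cΘ` is invariant under
-- an element normalizing `K` and permuting `Θ`.
import Mathlib
import Cfsg.Prelude.Def_Characters
import Cfsg.Prelude.Def_Blocks

universe u

set_option autoImplicit false

namespace Cfsg.Agent.Helper14

open Cfsg Matrix
open scoped ComplexConjugate

/-- PIECE LO -/
theorem d1_cTheta_conj {G : Type u} [Group G] [Finite G] (K : Subgroup G)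
    (Θ : Finset (Cfsg.IrrCharacter K)) (cΘ : K → ℤ)
    (hcΘ : ∀ k : K, ((cΘ k : ℤ) : ℂ) = ∑ θ ∈ Θ, (θ : K → ℂ) 1 * conj ((θ : K → ℂ) k))
    (n : G) (hnK : ∀ k ∈ K, n * k * n⁻¹ ∈ K)
    (hn : ∀ θ ∈ Θ, ∃ θ' ∈ Θ, ∀ k k' : K, (k' : G) = n * (k : G) * n⁻¹ →
      (θ' : K → ℂ) k' = (θ : K → ℂ) k)
    (k k' : K) (hk : (k' : G) = n * (k : G) * n⁻¹) : cΘ k' = cΘ k := by
  classical
  obtain ⟨f, hf⟩ : ∃ f : Cfsg.IrrCharacter K → Cfsg.IrrCharacter K, ∀ θ ∈ Θ, f θ ∈ Θ ∧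
      ∀ k k' : K, (k' : G) = n * (k : G) * n⁻¹ → (f θ : K → ℂ) k' = (θ : K → ℂ) k := by
    refine ⟨fun θ => if h : θ ∈ Θ then (hn θ h).choose else θ, fun θ hθ => ?_⟩
    simp only [dif_pos hθ]
    exact (hn θ hθ).choose_spec
  have hinj : Set.InjOn f (Θ : Set (Cfsg.IrrCharacter K)) := by
    intro θ₁ h₁ θ₂ h₂ h12
    apply Subtype.ext
    funext k₀
    have hk₀ := hnK k₀ k₀.2
    rw [← (hf θ₁ h₁).2 k₀ ⟨_, hk₀⟩ rfl, ← (hf θ₂ h₂).2 k₀ ⟨_, hk₀⟩ rfl, h12]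
  have himg : Finset.image f Θ = Θ := by
    apply Finset.eq_of_subset_of_card_le
    · intro θ hθ
      obtain ⟨θ₀, hθ₀, rfl⟩ := Finset.mem_image.mp hθ
      exact (hf θ₀ hθ₀).1
    · rw [Finset.card_image_of_injOn hinj]
  have h1 : ∀ θ ∈ Θ, (f θ : K → ℂ) 1 = (θ : K → ℂ) 1 := by
    intro θ hθ
    exact (hf θ hθ).2 1 1 (by simp)
  have hcast : ((cΘ k' : ℤ) : ℂ) = ((cΘ k : ℤ) : ℂ) := by
    rw [hcΘ k', hcΘ k]
    conv_lhs => rw [← himg]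
    rw [Finset.sum_image hinj]
    refine Finset.sum_congr rfl fun θ hθ => ?_
    rw [h1 θ hθ, (hf θ hθ).2 k k' hk]
  exact_mod_cast hcast

end Cfsg.Agent.Helper14
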