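import Mathlib
import Cfsg.Prelude.Def_GeometricClasses
import Cfsg.Prelude.Def_LieClassical
import Cfsg.Agent.Helper69.E4Def
import Cfsg.Agent.Helper69.E4UDef
import Cfsg.Agent.Helper97.UForm

set_option autoImplicit false

namespace Cfsg.Agent.Helper14
open Cfsg.Agent.Helper69 Cfsg.Agent.Helper97
open scoped Matrix

/-! ### H90 -/

theorem e4u_hilbert90 {F : Type*} [Field F] {q : ℕ} (σ : F ≃+* F) (hσ : IsSigma q σ) (δ : F)
    (hδ : δ * σ δ = 1) : ∃ ν : F, ν ≠ 0 ∧ ν = δ * σ ν := by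
  by_cases h : δ = -1
  · obtain ⟨c, hc0, hc⟩ := hσ.exists_trace_zero
    refine ⟨c, hc0, ?_⟩
    rw [h, hc]
    ring
  · refine ⟨1 + δ, ?_, ?_⟩
    · intro h0
      apply h
      linear_combination h0
    · rw [map_add, map_one, mul_add, mul_one, hδ]
      ring

end Cfsg.Agent.Helper14
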