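-- helper14 library: piece POW of helper25's CALL S1142 (Feit-Higman): 2x2 Cayley-Hamilton and
-- the trigonometric power formulas.
import Mathlib
import Cfsg.Agent.Helper25.FH0

set_option autoImplicit false

namespace Cfsg.Agent.Helper14.FH
open Cfsg.Agent.Helper25.FH

theorem fh_cayley2 (X : Matrix (Fin 2) (Fin 2) ℝ) :
    X * X = X.trace • X - X.det • (1 : Matrix (Fin 2) (Fin 2) ℝ) := by
  ext i j
  fin_cases i <;> fin_cases j <;>
    simp [Matrix.mul_apply, Fin.sum_univ_two, Matrix.trace_fin_two, Matrix.det_fin_two] <;> ring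

theorem fh_sin_rec (t θ : ℝ) :
    Real.sin ((t + 1 + 1) * θ) = 2 * Real.cos θ * Real.sin ((t + 1) * θ) - Real.sin (t * θ) := by
  have h1 : (t + 1 + 1) * θ = (t + 1) * θ + θ := by ring
  have h2 : t * θ = (t + 1) * θ - θ := by ring
  rw [h1, h2, Real.sin_add, Real.sin_sub]
  ring

theorem fh_cos_rec (t θ : ℝ) :
    Real.cos ((t + 1 + 1) * θ) = 2 * Real.cos θ * Real.cos ((t + 1) * θ) - Real.cos (t * θ) := by
  have h1 : (t + 1 + 1) * θ = (t + 1) * θ + θ := by ring
  have h2 : t * θ = (t + 1) * θ - θ := by ring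
  rw [h1, h2, Real.cos_add, Real.cos_sub]
  ring

theorem fh_pow_eq (X : Matrix (Fin 2) (Fin 2) ℝ) (r θ : ℝ)
    (htr : X.trace = 2 * r * Real.cos θ) (hdet : X.det = r ^ 2) (k : ℕ) :
    Real.sin θ • X ^ (k + 1) = (r ^ k * Real.sin ((k + 1) * θ)) • X
      - (r ^ (k + 1) * Real.sin (k * θ)) • (1 : Matrix (Fin 2) (Fin 2) ℝ) := by
  have hCH : X * X = (2 * r * Real.cos θ) • X - (r ^ 2) • (1 : Matrix (Fin 2) (Fin 2) ℝ) := by
    rw [← htr, ← hdet]
    exact fh_cayley2 X
  induction k with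
  | zero => simp
  | succ k ih =>
    have e : Real.sin θ • X ^ (k + 1 + 1) = (Real.sin θ • X ^ (k + 1)) * X := by
      rw [pow_succ X (k + 1), smul_mul_assoc]
    rw [e, ih, sub_mul, smul_mul_assoc, smul_mul_assoc, hCH, one_mul]
    push_cast
    rw [fh_sin_rec]
    module

theorem fh_trace_pow (X Y : Matrix (Fin 2) (Fin 2) ℝ) (r θ : ℝ) (hr : 0 < r)
    (hs : Real.sin θ ≠ 0) (htr : X.trace = 2 * r * Real.cos θ) (hdet : X.det = r ^ 2) (k : ℕ) :
    (X ^ k * Y).trace = r ^ k * (Y.trace * Real.cos (k * θ)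
      + ((X * Y).trace - r * Real.cos θ * Y.trace) / (r * Real.sin θ) * Real.sin (k * θ)) := by
  have hCH : X * X = (2 * r * Real.cos θ) • X - (r ^ 2) • (1 : Matrix (Fin 2) (Fin 2) ℝ) := by
    rw [← htr, ← hdet]
    exact fh_cayley2 X
  have hr0 : r ≠ 0 := hr.ne'
  have hrec : ∀ k : ℕ, (X ^ (k + 2) * Y).trace
      = 2 * r * Real.cos θ * (X ^ (k + 1) * Y).trace - r ^ 2 * (X ^ k * Y).trace := by
    intro k
    have e : X ^ (k + 2) = (2 * r * Real.cos θ) • X ^ (k + 1) - (r ^ 2) • X ^ k := by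
      rw [pow_add X k 2, pow_two, hCH, mul_sub, mul_smul_comm, mul_smul_comm, mul_one, ← pow_succ]
    rw [e, sub_mul, smul_mul_assoc, smul_mul_assoc, Matrix.trace_sub, Matrix.trace_smul,
      Matrix.trace_smul, smul_eq_mul, smul_eq_mul]
  have key : ∀ k : ℕ,
      ((X ^ k * Y).trace = r ^ k * (Y.trace * Real.cos (k * θ)
        + ((X * Y).trace - r * Real.cos θ * Y.trace) / (r * Real.sin θ) * Real.sin (k * θ))) ∧
      ((X ^ (k + 1) * Y).trace = r ^ (k + 1) * (Y.trace * Real.cos ((k + 1 : ℕ) * θ)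
        + ((X * Y).trace - r * Real.cos θ * Y.trace) / (r * Real.sin θ)
          * Real.sin ((k + 1 : ℕ) * θ))) := by
    intro k
    induction k with
    | zero =>
      refine ⟨by simp, ?_⟩
      simp only [zero_add, pow_one, Nat.cast_one, one_mul]
      field_simp
      ring
    | succ k ih =>
      refine ⟨ih.2, ?_⟩
      rw [hrec, ih.1, ih.2]
      push_cast
      rw [fh_sin_rec, fh_cos_rec]
      ring
  exact (key k).1

end Cfsg.Agent.Helper14.FH
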