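-- helper14 library: piece REPA of helper25's CALL S1142 (Feit-Higman): the explicit
-- two-dimensional representation.
import Mathlib
import Cfsg.Agent.Helper25.FH0

set_option autoImplicit false

namespace Cfsg.Agent.Helper14.FH
open Cfsg.Agent.Helper25.FH

/-- `0 ≤ fhCc ≤ 1`, strictly if `sin θ ≠ 0`, and the defining relation of `fhCc`. -/
theorem fh_cc_bounds (q1 q2 θ : ℝ) (hq1 : 0 < q1) (hq2 : 0 < q2) :
    0 ≤ fhCc q1 q2 θ ∧ fhCc q1 q2 θ ≤ 1 ∧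
    (q1 + 1) * (q2 + 1) * fhCc q1 q2 θ = fhT q1 q2 θ + q1 + q2 ∧
    (Real.sin θ ≠ 0 → 0 < fhCc q1 q2 θ ∧ fhCc q1 q2 θ < 1) := by
  have hD : 0 < (q1 + 1) * (q2 + 1) := by positivity
  have hr0 : 0 ≤ Real.sqrt (q1 * q2) := Real.sqrt_nonneg _
  have hr2 : Real.sqrt (q1 * q2) ^ 2 = q1 * q2 := Real.sq_sqrt (by positivity)
  have hrpos : 0 < Real.sqrt (q1 * q2) := Real.sqrt_pos.mpr (by positivity)
  have hr_le : 2 * Real.sqrt (q1 * q2) ≤ q1 + q2 := by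
    have h1 : Real.sqrt (q1 * q2) ≤ (q1 + q2) / 2 := by
      rw [Real.sqrt_le_iff]
      refine ⟨by positivity, ?_⟩
      nlinarith [sq_nonneg (q1 - q2)]
    linarith
  have hr_le' : 2 * Real.sqrt (q1 * q2) ≤ q1 * q2 + 1 := by
    nlinarith [sq_nonneg (Real.sqrt (q1 * q2) - 1)]
  have hc1 : -1 ≤ Real.cos θ := Real.neg_one_le_cos θ
  have hc2 : Real.cos θ ≤ 1 := Real.cos_le_one θ
  have ht1 : -(2 * Real.sqrt (q1 * q2)) ≤ fhT q1 q2 θ := by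
    rw [fhT]
    nlinarith
  have ht2 : fhT q1 q2 θ ≤ 2 * Real.sqrt (q1 * q2) := by
    rw [fhT]
    nlinarith
  refine ⟨?_, ?_, ?_, ?_⟩
  · rw [fhCc]
    apply div_nonneg _ hD.le
    linarith
  · rw [fhCc, div_le_one hD]
    nlinarith
  · rw [fhCc]
    field_simp
  · intro hs
    have hsq : Real.cos θ ^ 2 < 1 := by
      have h1 := Real.sin_sq_add_cos_sq θ
      have h2 : 0 < Real.sin θ ^ 2 := by positivity
      linarith
    have hc1' : -1 < Real.cos θ := by nlinarith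
    have hc2' : Real.cos θ < 1 := by nlinarith
    have ht1' : -(2 * Real.sqrt (q1 * q2)) < fhT q1 q2 θ := by
      rw [fhT]
      nlinarith
    have ht2' : fhT q1 q2 θ < 2 * Real.sqrt (q1 * q2) := by
      rw [fhT]
      nlinarith
    refine ⟨?_, ?_⟩
    · rw [fhCc]
      apply div_pos _ hD
      linarith
    · rw [fhCc, div_lt_one hD]
      nlinarith

theorem fh_rep (q1 q2 θ : ℝ) (hq1 : 0 < q1) (hq2 : 0 < q2) :
    (fhA2 q1).transpose = fhA2 q1 ∧ (fhB2 q1 q2 θ).transpose = fhB2 q1 q2 θ ∧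
    fhA2 q1 * fhA2 q1 = q1 • (1 : Matrix (Fin 2) (Fin 2) ℝ) + (q1 - 1) • fhA2 q1 ∧
    fhB2 q1 q2 θ * fhB2 q1 q2 θ
      = q2 • (1 : Matrix (Fin 2) (Fin 2) ℝ) + (q2 - 1) • fhB2 q1 q2 θ ∧
    (fhA2 q1).trace = q1 - 1 ∧ (fhB2 q1 q2 θ).trace = q2 - 1 ∧
    (fhA2 q1 * fhB2 q1 q2 θ).trace = fhT q1 q2 θ ∧
    (fhA2 q1 * fhB2 q1 q2 θ).det = q1 * q2 ∧
    (Real.sin θ ≠ 0 → ∀ Z : Matrix (Fin 2) (Fin 2) ℝ, fhA2 q1 * Z = Z * fhA2 q1 →
      fhB2 q1 q2 θ * Z = Z * fhB2 q1 q2 θ → ∃ c : ℝ, Z = c • (1 : Matrix (Fin 2) (Fin 2) ℝ)) := by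
  obtain ⟨hc0, hc1, hcT, hcs⟩ := fh_cc_bounds q1 q2 θ hq1 hq2
  obtain ⟨c, hc⟩ : ∃ c : ℝ, c = fhCc q1 q2 θ := ⟨_, rfl⟩
  obtain ⟨s, hs⟩ : ∃ s : ℝ, s = Real.sqrt (c * (1 - c)) := ⟨_, rfl⟩
  rw [← hc] at hc0 hc1 hcT hcs
  have hs2 : s ^ 2 = c * (1 - c) := by
    rw [hs]
    exact Real.sq_sqrt (mul_nonneg hc0 (by linarith))
  have hB : fhB2 q1 q2 θ = !![(q2 + 1) * c - 1, (q2 + 1) * s; (q2 + 1) * s, q2 - (q2 + 1) * c] := by
    rw [fhB2, ← hc, ← hs]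
  have hA : fhA2 q1 = !![q1, 0; 0, -1] := rfl
  rw [hB, hA]
  refine ⟨?_, ?_, ?_, ?_, ?_, ?_, ?_, ?_, ?_⟩
  · ext i j
    fin_cases i <;> fin_cases j <;> simp
  · ext i j
    fin_cases i <;> fin_cases j <;> simp
  · ext i j
    fin_cases i <;> fin_cases j <;> simp [Matrix.mul_apply, Fin.sum_univ_two] <;> ring
  · ext i j
    fin_cases i <;> fin_cases j <;> simp [Matrix.mul_apply, Fin.sum_univ_two]
    · linear_combination (q2 + 1) ^ 2 * hs2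
    · ring
    · ring
    · linear_combination (q2 + 1) ^ 2 * hs2
  · simp [Matrix.trace_fin_two]
    ring
  · simp [Matrix.trace_fin_two]
  · simp [Matrix.trace_fin_two, Matrix.mul_apply, Fin.sum_univ_two]
    linear_combination hcT
  · rw [Matrix.det_mul, Matrix.det_fin_two_of, Matrix.det_fin_two_of]
    linear_combination (q1 * (q2 + 1) ^ 2) * hs2
  · intro hsin Z hZA hZB
    obtain ⟨hcpos, hclt⟩ := hcs hsin
    have hspos : 0 < s := by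
      rw [hs]
      exact Real.sqrt_pos.mpr (mul_pos hcpos (by linarith))
    have e1 : (!![q1, 0; 0, -1] * Z) 0 1 = q1 * Z 0 1 := by
      simp [Matrix.mul_apply, Fin.sum_univ_two]
    have e2 : (Z * !![q1, 0; 0, -1]) 0 1 = - Z 0 1 := by
      simp [Matrix.mul_apply, Fin.sum_univ_two]
    have e3 : (!![q1, 0; 0, -1] * Z) 1 0 = - Z 1 0 := by
      simp [Matrix.mul_apply, Fin.sum_univ_two]
    have e4 : (Z * !![q1, 0; 0, -1]) 1 0 = q1 * Z 1 0 := by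
      simp [Matrix.mul_apply, Fin.sum_univ_two]
      ring
    have h01 : Z 0 1 = 0 := by
      have h1 : q1 * Z 0 1 = - Z 0 1 := by rw [← e1, ← e2, hZA]
      have h2 : (q1 + 1) * Z 0 1 = 0 := by linarith
      exact (mul_eq_zero.mp h2).resolve_left (by positivity)
    have h10 : Z 1 0 = 0 := by
      have h1 : - Z 1 0 = q1 * Z 1 0 := by rw [← e3, ← e4, hZA]
      have h2 : (q1 + 1) * Z 1 0 = 0 := by linarith
      exact (mul_eq_zero.mp h2).resolve_left (by positivity)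
    have e5 : (!![(q2 + 1) * c - 1, (q2 + 1) * s; (q2 + 1) * s, q2 - (q2 + 1) * c] * Z) 0 1
        = ((q2 + 1) * c - 1) * Z 0 1 + (q2 + 1) * s * Z 1 1 := by
      simp [Matrix.mul_apply, Fin.sum_univ_two]
    have e6 : (Z * !![(q2 + 1) * c - 1, (q2 + 1) * s; (q2 + 1) * s, q2 - (q2 + 1) * c]) 0 1
        = Z 0 0 * ((q2 + 1) * s) + Z 0 1 * (q2 - (q2 + 1) * c) := by
      simp [Matrix.mul_apply, Fin.sum_univ_two]
    have h00 : Z 0 0 = Z 1 1 := by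
      have h1 : ((q2 + 1) * c - 1) * Z 0 1 + (q2 + 1) * s * Z 1 1
          = Z 0 0 * ((q2 + 1) * s) + Z 0 1 * (q2 - (q2 + 1) * c) := by rw [← e5, ← e6, hZB]
      rw [h01] at h1
      have h2 : ((q2 + 1) * s) * (Z 0 0 - Z 1 1) = 0 := by linarith
      have h3 := (mul_eq_zero.mp h2).resolve_left (by positivity)
      linarith
    refine ⟨Z 0 0, ?_⟩
    ext i j
    fin_cases i <;> fin_cases j <;> simp [h01, h10, h00]

end Cfsg.Agent.Helper14.FH
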