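-- helper14 library: piece BRE of helper25's CALL S1142 (Feit-Higman): braid relation of the
-- two-dimensional representation, n = 2 m.
import Mathlib
import Cfsg.Agent.Helper25.FH0
import Cfsg.Agent.Helper14.FHPow
import Cfsg.Agent.Helper14.FHRep

set_option autoImplicit false

namespace Cfsg.Agent.Helper14.FH
open Cfsg.Agent.Helper25.FH

/-- two 2x2 matrices with the same trace `2 r cos θ` and determinant `r²` have the same
`(k+1)`-st power as soon as `sin ((k+1) θ) = 0 ≠ sin θ`. -/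
theorem fh_pow_eq_of_sin (X X' : Matrix (Fin 2) (Fin 2) ℝ) (r θ : ℝ)
    (htr : X.trace = 2 * r * Real.cos θ) (hdet : X.det = r ^ 2)
    (htr' : X'.trace = 2 * r * Real.cos θ) (hdet' : X'.det = r ^ 2) (k : ℕ)
    (hs : Real.sin θ ≠ 0) (h0 : Real.sin (((k : ℝ) + 1) * θ) = 0) :
    X ^ (k + 1) = X' ^ (k + 1) := by
  have h1 := fh_pow_eq X r θ htr hdet k
  have h2 := fh_pow_eq X' r θ htr' hdet' k
  rw [h0, mul_zero, zero_smul, zero_sub] at h1 h2
  apply smul_right_injective _ hs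
  simp only
  rw [h1, h2]

theorem fh_braid_even (q1 q2 : ℝ) (hq1 : 0 < q1) (hq2 : 0 < q2) (m j : ℕ) (hj1 : 1 ≤ j)
    (hjm : j < m) :
    alt (fhA2 q1) (fhB2 q1 q2 (Real.pi * j / m)) (2 * m)
      = alt (fhB2 q1 q2 (Real.pi * j / m)) (fhA2 q1) (2 * m) := by
  have hm0 : (0 : ℝ) < m := by exact_mod_cast (by omega : 0 < m)
  have hj0 : (0 : ℝ) < j := by exact_mod_cast hj1
  have hθ0 : 0 < Real.pi * j / m := div_pos (mul_pos Real.pi_pos hj0) hm0
  have hθπ : Real.pi * j / m < Real.pi := by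
    rw [div_lt_iff₀ hm0]
    exact mul_lt_mul_of_pos_left (by exact_mod_cast hjm) Real.pi_pos
  have hsin : Real.sin (Real.pi * j / m) ≠ 0 := (Real.sin_pos_of_pos_of_lt_pi hθ0 hθπ).ne'
  obtain ⟨-, -, -, -, -, -, htr, hdet, -⟩ := fh_rep q1 q2 (Real.pi * j / m) hq1 hq2
  have hr2 : Real.sqrt (q1 * q2) ^ 2 = q1 * q2 := Real.sq_sqrt (by positivity)
  rw [alt_two_mul, alt_two_mul]
  obtain ⟨k, rfl⟩ : ∃ k, m = k + 1 := ⟨m - 1, by omega⟩
  refine fh_pow_eq_of_sin _ _ (Real.sqrt (q1 * q2)) (Real.pi * j / ((k + 1 : ℕ) : ℝ)) ?_ ?_ ?_ ?_ k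
    hsin ?_
  · rw [htr, fhT]
  · rw [hdet, hr2]
  · rw [Matrix.trace_mul_comm, htr, fhT]
  · rw [Matrix.det_mul, mul_comm, ← Matrix.det_mul, hdet, hr2]
  · have e : ((k : ℝ) + 1) * (Real.pi * j / ((k + 1 : ℕ) : ℝ)) = (j : ℝ) * Real.pi := by
      push_cast
      field_simp
    rw [e]
    exact Real.sin_nat_mul_pi j

end Cfsg.Agent.Helper14.FH
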