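-- helper14 library: piece BRO of helper25's CALL S1142 (Feit-Higman): braid relation of the
-- two-dimensional representation, n = 2 m + 1, equal parameters.
import Mathlib
import Cfsg.Agent.Helper25.FH0
import Cfsg.Agent.Helper14.FHPow
import Cfsg.Agent.Helper14.FHRep

set_option autoImplicit false

namespace Cfsg.Agent.Helper14.FH
open Cfsg.Agent.Helper25.FH

theorem fh_aba (q c s : ℝ) (hs2 : s ^ 2 = c * (1 - c)) :
    (!![q, 0; 0, -1] : Matrix (Fin 2) (Fin 2) ℝ)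
        * !![(q + 1) * c - 1, (q + 1) * s; (q + 1) * s, q - (q + 1) * c] * !![q, 0; 0, -1]
      - !![(q + 1) * c - 1, (q + 1) * s; (q + 1) * s, q - (q + 1) * c] * !![q, 0; 0, -1]
        * !![(q + 1) * c - 1, (q + 1) * s; (q + 1) * s, q - (q + 1) * c]
      = ((q + 1) * (q + 1) * c - q) • ((!![q, 0; 0, -1] : Matrix (Fin 2) (Fin 2) ℝ)
        - !![(q + 1) * c - 1, (q + 1) * s; (q + 1) * s, q - (q + 1) * c]) := by
  ext i j
  fin_cases i <;> fin_cases j <;> simp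
  · linear_combination (q + 1) ^ 2 * hs2
  · ring
  · ring
  · linear_combination (-q * (q + 1) ^ 2) * hs2

theorem fh_pow_mul_swap {M : Type*} [Monoid M] (A B : M) (m : ℕ) :
    (B * A) ^ m * B = B * (A * B) ^ m := by
  induction m with
  | zero => simp
  | succ m ih => rw [pow_succ', mul_assoc, ih, pow_succ']; simp only [mul_assoc]

theorem fh_braid_odd (q : ℝ) (hq : 0 < q) (m j : ℕ) (hj1 : 1 ≤ j) (hjm : j ≤ m) :
    alt (fhA2 q) (fhB2 q q (2 * Real.pi * j / (2 * m + 1))) (2 * m + 1)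
      = alt (fhB2 q q (2 * Real.pi * j / (2 * m + 1))) (fhA2 q) (2 * m + 1) := by
  obtain ⟨k, rfl⟩ : ∃ k, m = k + 1 := ⟨m - 1, by omega⟩
  obtain ⟨θ, hθ⟩ : ∃ θ : ℝ, θ = 2 * Real.pi * j / (2 * ((k + 1 : ℕ) : ℝ) + 1) := ⟨_, rfl⟩
  rw [← hθ]
  have hj0 : (0 : ℝ) < j := by exact_mod_cast hj1
  have hden : (0 : ℝ) < 2 * ((k + 1 : ℕ) : ℝ) + 1 := by positivity
  have hθ0 : 0 < θ := by
    rw [hθ]
    exact div_pos (by positivity) hden
  have hθπ : θ < Real.pi := by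
    rw [hθ, div_lt_iff₀ hden]
    have h1 : (j : ℝ) ≤ ((k + 1 : ℕ) : ℝ) := by exact_mod_cast hjm
    nlinarith [Real.pi_pos]
  have hsin : Real.sin θ ≠ 0 := (Real.sin_pos_of_pos_of_lt_pi hθ0 hθπ).ne'
  -- the angle relation
  have hang : ((k : ℝ) + 1 + 1) * θ = (j : ℝ) * (2 * Real.pi) - ((k : ℝ) + 1) * θ := by
    rw [hθ]
    push_cast
    field_simp
    ring
  have hsin2 : Real.sin (((k : ℝ) + 1 + 1) * θ) = - Real.sin (((k : ℝ) + 1) * θ) := by
    rw [hang, Real.sin_nat_mul_two_pi_sub]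
  have htrig : Real.sin (((k : ℝ) + 1) * θ) * (2 * Real.cos θ + 1) = Real.sin ((k : ℝ) * θ) := by
    have h1 := fh_sin_rec (k : ℝ) θ
    rw [hsin2] at h1
    linarith
  -- the representation
  obtain ⟨-, -, -, -, -, -, htr, hdet, -⟩ := fh_rep q q θ hq hq
  obtain ⟨hc0, hc1, hcT, -⟩ := fh_cc_bounds q q θ hq hq
  obtain ⟨c, hc⟩ : ∃ c : ℝ, c = fhCc q q θ := ⟨_, rfl⟩
  obtain ⟨s, hs⟩ : ∃ s : ℝ, s = Real.sqrt (c * (1 - c)) := ⟨_, rfl⟩
  rw [← hc] at hc0 hc1 hcT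
  have hs2 : s ^ 2 = c * (1 - c) := by
    rw [hs]
    exact Real.sq_sqrt (mul_nonneg hc0 (by linarith))
  have hB : fhB2 q q θ = !![(q + 1) * c - 1, (q + 1) * s; (q + 1) * s, q - (q + 1) * c] := by
    rw [fhB2, ← hc, ← hs]
  have hA : fhA2 q = !![q, 0; 0, -1] := rfl
  have hsq : Real.sqrt (q * q) = q := Real.sqrt_mul_self hq.le
  have hT : fhT q q θ = 2 * q * Real.cos θ := by rw [fhT, hsq]
  have haba := fh_aba q c s hs2
  rw [← hA, ← hB] at haba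
  have hcoef : (q + 1) * (q + 1) * c - q = 2 * q * Real.cos θ + q := by
    rw [hcT, hT]
    ring
  rw [hcoef] at haba
  obtain ⟨A', hA'⟩ : ∃ A' : Matrix (Fin 2) (Fin 2) ℝ, A' = fhA2 q := ⟨_, rfl⟩
  obtain ⟨B', hB'⟩ : ∃ B' : Matrix (Fin 2) (Fin 2) ℝ, B' = fhB2 q q θ := ⟨_, rfl⟩
  rw [← hA', ← hB'] at haba htr hdet ⊢
  rw [alt_two_mul_add_one, alt_two_mul_add_one, fh_pow_mul_swap A' B' (k + 1)]
  have hp := fh_pow_eq (A' * B') q θ (by rw [htr, hT]) (by rw [hdet]; ring) k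
  apply smul_right_injective _ hsin
  simp only
  rw [← smul_mul_assoc, ← mul_smul_comm, hp]
  have h1 : ((q ^ k * Real.sin (((k : ℝ) + 1) * θ)) • (A' * B')
        - (q ^ (k + 1) * Real.sin ((k : ℝ) * θ)) • (1 : Matrix (Fin 2) (Fin 2) ℝ)) * A'
      - B' * ((q ^ k * Real.sin (((k : ℝ) + 1) * θ)) • (A' * B')
        - (q ^ (k + 1) * Real.sin ((k : ℝ) * θ)) • (1 : Matrix (Fin 2) (Fin 2) ℝ))
      = (q ^ k * Real.sin (((k : ℝ) + 1) * θ)) • (A' * B' * A' - B' * A' * B')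
        - (q ^ (k + 1) * Real.sin ((k : ℝ) * θ)) • (A' - B') := by
    simp only [sub_mul, mul_sub, smul_mul_assoc, mul_smul_comm, one_mul, mul_one, smul_sub,
      mul_assoc]
    abel
  have huv : q ^ k * Real.sin (((k : ℝ) + 1) * θ) * (2 * q * Real.cos θ + q)
      = q ^ (k + 1) * Real.sin ((k : ℝ) * θ) := by
    rw [← htrig]
    ring
  rw [haba, smul_smul, huv, sub_self] at h1
  exact sub_eq_zero.mp h1

end Cfsg.Agent.Helper14.FH
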