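-- helper14: piece ALB of CALL S2701 (helper30): a non-degenerate symmetric non-alternating
-- form over a finite field of characteristic 2 has an orthonormal basis.
import Mathlib
import Cfsg.Agent.Helper30.GA2Defs

set_option autoImplicit false

universe u

namespace Cfsg.Agent.Helper14

open Matrix Cfsg.Agent.Helper30.GA2

/-- a non-alternating non-degenerate symmetric form over a finite field of characteristic 2 has
a unit vector whose orthogonal complement is zero or again non-alternating -/
theorem ga2_exists_unit_vec {F : Type*} [Field F] [Finite F] [CharP F 2]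
    {V : Type*} [AddCommGroup V] [Module F V]
    (B : LinearMap.BilinForm F V) (hs : B.IsSymm) (hn : B.Nondegenerate)
    (hv : ∃ v, B v v ≠ 0) :
    ∃ v1, B v1 v1 = 1 ∧
      ((∀ w ∈ B.orthogonal (F ∙ v1), B w w = 0) → B.orthogonal (F ∙ v1) = ⊥) := by
  have h2 : (1 : F) + 1 = 0 := CharTwo.add_self_eq_zero 1
  obtain ⟨v, hv⟩ := hv
  obtain ⟨a, ha⟩ := isSquare_of_charTwo' (B v v)
  have ha0 : a ≠ 0 := by
    rintro rfl
    rw [mul_zero] at ha
    exact hv ha
  obtain ⟨v1, hv1⟩ : ∃ v1 : V, v1 = a⁻¹ • v := ⟨_, rfl⟩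
  have h11 : B v1 v1 = 1 := by
    rw [hv1]
    simp only [map_smul, LinearMap.smul_apply, smul_eq_mul]
    rw [ha]
    field_simp
  by_cases hW : (∀ w ∈ B.orthogonal (F ∙ v1), B w w = 0) → B.orthogonal (F ∙ v1) = ⊥
  · exact ⟨v1, h11, hW⟩
  · push_neg at hW
    obtain ⟨halt, hne⟩ := hW
    obtain ⟨e, heW, he0⟩ := (Submodule.ne_bot_iff _).mp hne
    have h11' : B v1 v1 ≠ 0 := by rw [h11]; exact one_ne_zero
    have hnW := LinearMap.BilinForm.restrict_nondegenerate_orthogonal_spanSingleton B hn
      hs.isRefl h11'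
    obtain ⟨f, hfW, hef⟩ : ∃ f ∈ B.orthogonal (F ∙ v1), B e f ≠ 0 := by
      by_contra hcon
      push_neg at hcon
      have h0 : (⟨e, heW⟩ : B.orthogonal (F ∙ v1)) = 0 := hnW.1 _ (fun y => hcon y.1 y.2)
      exact he0 (congrArg Subtype.val h0)
    have hv1e : B v1 e = 0 :=
      (LinearMap.BilinForm.mem_orthogonal_iff.mp heW) v1 (Submodule.mem_span_singleton_self v1)
    have hv1f : B v1 f = 0 :=
      (LinearMap.BilinForm.mem_orthogonal_iff.mp hfW) v1 (Submodule.mem_span_singleton_self v1)
    have hev1 : B e v1 = 0 := by rw [hs.eq e v1]; exact hv1e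
    have hfv1 : B f v1 = 0 := by rw [hs.eq f v1]; exact hv1f
    have hee : B e e = 0 := halt e heW
    have hff : B f f = 0 := halt f hfW
    obtain ⟨c, hc⟩ : ∃ c : F, c = B e f := ⟨_, rfl⟩
    have hfe : B f e = c := by rw [hc]; exact hs.eq f e
    have hc0 : c ≠ 0 := by rw [hc]; exact hef
    have hcc : c⁻¹ * c = 1 := inv_mul_cancel₀ hc0
    refine ⟨v1 + e + c⁻¹ • f, ?_, ?_⟩
    · simp only [map_add, map_smul, LinearMap.add_apply, LinearMap.smul_apply, smul_eq_mul,
        h11, hv1e, hv1f, hev1, hfv1, hee, hff, hfe, ← hc, hcc, mul_zero, add_zero, zero_add,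
        mul_one]
      linear_combination h2
    · intro halt'
      exfalso
      have hu : v1 + e ∈ B.orthogonal (F ∙ (v1 + e + c⁻¹ • f)) := by
        rw [LinearMap.BilinForm.mem_orthogonal_iff]
        intro n hn'
        obtain ⟨t, rfl⟩ := Submodule.mem_span_singleton.mp hn'
        simp only [map_add, map_smul, LinearMap.add_apply, LinearMap.smul_apply, smul_eq_mul,
          h11, hv1e, hv1f, hev1, hfv1, hee, hff, hfe, ← hc, hcc, mul_zero, add_zero, zero_add,
          mul_one]
        linear_combination t * h2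
      have h1 := halt' _ hu
      simp only [map_add, LinearMap.add_apply, h11, hv1e, hev1, hee, add_zero] at h1
      exact one_ne_zero h1

/-- a non-degenerate symmetric form over a finite field of characteristic 2 which is
non-alternating (or lives on the zero space) has an orthonormal family of full size -/
theorem ga2_orthonormal_family {F : Type*} [Field F] [Finite F] [CharP F 2] (d : ℕ) :
    ∀ {V : Type u} [AddCommGroup V] [Module F V] [FiniteDimensional F V]
      (B : LinearMap.BilinForm F V), B.IsSymm → B.Nondegenerate →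
      ((∀ v, B v v = 0) → Module.finrank F V = 0) → Module.finrank F V = d →
      ∃ b : Fin d → V, ∀ i j, B (b i) (b j) = if i = j then 1 else 0 := by
  induction d with
  | zero =>
    intro V _ _ _ B _ _ _ _
    exact ⟨Fin.elim0, fun i => i.elim0⟩
  | succ d ih =>
    intro V _ _ _ B hs hn halt hd
    have hex : ∃ v, B v v ≠ 0 := by
      by_contra hcon
      push_neg at hcon
      have := halt hcon
      omega
    obtain ⟨v1, h11, hW⟩ := ga2_exists_unit_vec B hs hn hex
    have h11' : B v1 v1 ≠ 0 := by rw [h11]; exact one_ne_zero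
    have hv10 : v1 ≠ 0 := by
      rintro rfl
      simp at h11'
    have hnW := LinearMap.BilinForm.restrict_nondegenerate_orthogonal_spanSingleton B hn
      hs.isRefl h11'
    have hcompl : IsCompl (F ∙ v1) (B.orthogonal (F ∙ v1)) :=
      LinearMap.BilinForm.isCompl_span_singleton_orthogonal h11'
    have hfr : Module.finrank F (B.orthogonal (F ∙ v1)) = d := by
      have h1 := Submodule.finrank_add_eq_of_isCompl hcompl
      rw [finrank_span_singleton hv10, hd] at h1
      omega
    obtain ⟨b', hb'⟩ := ih (B.restrict (B.orthogonal (F ∙ v1))) (hs.restrict _) hnW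
      (fun hz => Submodule.finrank_eq_zero.mpr (hW fun w hw => hz ⟨w, hw⟩)) hfr
    have hmem : ∀ i, B v1 (b' i : V) = 0 := fun i =>
      (LinearMap.BilinForm.mem_orthogonal_iff.mp (b' i).2) v1
        (Submodule.mem_span_singleton_self v1)
    have hmem' : ∀ i, B (b' i : V) v1 = 0 := fun i => by rw [hs.eq]; exact hmem i
    have hbb : ∀ i j, B (b' i : V) (b' j : V) = if i = j then 1 else 0 := fun i j => hb' i j
    refine ⟨Fin.cons v1 (fun i => (b' i : V)), ?_⟩
    intro i j
    refine Fin.cases ?_ (fun i' => ?_) i <;> refine Fin.cases ?_ (fun j' => ?_) j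
    · rw [Fin.cons_zero, if_pos rfl]
      exact h11
    · rw [Fin.cons_zero, Fin.cons_succ, if_neg (Fin.succ_ne_zero j').symm]
      exact hmem j'
    · rw [Fin.cons_succ, Fin.cons_zero, if_neg (Fin.succ_ne_zero i')]
      exact hmem' i'
    · rw [Fin.cons_succ, Fin.cons_succ, hbb]
      simp only [Fin.succ_inj]

/-- ALB: a non-degenerate symmetric, non-alternating form over a finite field of characteristic 2
has an orthonormal basis. -/
theorem sym_char2_orthonormal {F : Type*} [Field F] [Finite F] [CharP F 2] {n : ℕ}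
    (M : Matrix (Fin n) (Fin n) F) (hdet : M.det ≠ 0) (hsym : Mᵀ = M) (hdiag : ∃ i, M i i ≠ 0) :
    ∃ k : GL (Fin n) F,
      (k : Matrix (Fin n) (Fin n) F)ᵀ * M * (k : Matrix (Fin n) (Fin n) F) = 1 := by
  have hs : (Matrix.toBilin' M).IsSymm := by
    refine ⟨fun x y => ?_⟩
    rw [Matrix.toBilin'_apply', Matrix.toBilin'_apply', Matrix.dotProduct_mulVec,
      ← Matrix.mulVec_transpose, hsym, dotProduct_comm]
  have hn : (Matrix.toBilin' M).Nondegenerate :=
    LinearMap.BilinForm.nondegenerate_toBilin'_of_det_ne_zero' M hdet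
  obtain ⟨i0, hi0⟩ := hdiag
  obtain ⟨b, hb⟩ := ga2_orthonormal_family n (Matrix.toBilin' M) hs hn
    (fun hz => absurd (by rw [← Matrix.toBilin'_single M i0 i0]; exact hz _) hi0)
    (Module.finrank_fin_fun F)
  obtain ⟨k, hk⟩ : ∃ k : Matrix (Fin n) (Fin n) F, ∀ i j, k i j = b j i :=
    ⟨Matrix.of fun i j => b j i, fun _ _ => rfl⟩
  have hkk : kᵀ * M * k = 1 := by
    ext i j
    have h := hb i j
    rw [Matrix.toBilin'_apply'] at h
    rw [Matrix.one_apply, ← h, Matrix.mul_assoc, Matrix.mul_apply, dotProduct]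
    refine Finset.sum_congr rfl fun a _ => ?_
    rw [Matrix.transpose_apply, hk, Matrix.mul_apply, Matrix.mulVec, dotProduct]
    simp only [hk]
  have hdk : k.det ≠ 0 := by
    intro h0
    have h1 := congrArg Matrix.det hkk
    rw [Matrix.det_mul, Matrix.det_mul, Matrix.det_transpose, h0, Matrix.det_one] at h1
    simp at h1
  exact ⟨Matrix.GeneralLinearGroup.mkOfDetNeZero k hdk, hkk⟩

end Cfsg.Agent.Helper14
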