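import Mathlib

set_option autoImplicit false

/-!
# CALL LM (helper21; row S4067) piece X2 (helper14, double)

`|G'| = 2`, `G' ≤ Z(G)`: a central involution outside `G'`, or a non-central `x` with `x² ≠ 1`,
`x² ∈ G'`.
-/

namespace Cfsg.Agent.Helper14.LM

open scoped commutatorElement

/-- squares are central when commutators are central involutions. -/
theorem lm_x2_sq_central {G : Type*} [Group G] (hZ : commutator G ≤ Subgroup.center G)
    (hsq : ∀ w ∈ commutator G, w * w = 1) (g : G) : g ^ 2 ∈ Subgroup.center G := by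
  rw [Subgroup.mem_center_iff]
  intro h
  have hwG : ⁅g, h⁆ ∈ commutator G := by
    rw [commutator_def]
    exact Subgroup.commutator_mem_commutator (Subgroup.mem_top g) (Subgroup.mem_top h)
  obtain ⟨w, hw⟩ : ∃ w, w = ⁅g, h⁆ := ⟨_, rfl⟩
  rw [← hw] at hwG
  have hgh : g * h = w * (h * g) := by
    rw [hw, commutatorElement_def]
    group
  have hwc : ∀ x : G, x * w = w * x := Subgroup.mem_center_iff.mp (hZ hwG)
  have hw2 : w * w = 1 := hsq w hwG
  symm
  rw [pow_two]
  calc g * g * h = g * (g * h) := by group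
    _ = g * (w * (h * g)) := by rw [hgh]
    _ = (g * w) * (h * g) := by group
    _ = (w * g) * (h * g) := by rw [hwc g]
    _ = w * ((g * h) * g) := by group
    _ = w * ((w * (h * g)) * g) := by rw [hgh]
    _ = (w * w) * (h * (g * g)) := by group
    _ = h * (g * g) := by rw [hw2, one_mul]

/-- X2: `p = 2`: a central involution outside `G'`, or a non-central `x` with `x² ≠ 1`, `x² ∈ G'`. -/
theorem lm_x2 {G : Type*} [Group G] [Finite G] (hZ : commutator G ≤ Subgroup.center G)
    (hc : Nat.card (commutator G) = 2) :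
    (∃ c : G, c ∈ Subgroup.center G ∧ orderOf c = 2 ∧ c ∉ commutator G) ∨
      (∃ x : G, x ∉ Subgroup.center G ∧ x ^ 2 ∈ commutator G ∧ x ^ 2 ≠ 1) := by
  classical
  by_cases hinv : ∃ c : G, c ∈ Subgroup.center G ∧ orderOf c = 2 ∧ c ∉ commutator G
  · exact Or.inl hinv
  right
  push Not at hinv
  -- elements of `G'` square to one
  have hsq : ∀ w ∈ commutator G, w * w = 1 := by
    intro w hw
    have h := pow_card_eq_one' (G := commutator G) (x := ⟨w, hw⟩)
    rw [hc] at h
    have h' := congrArg Subtype.val h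
    rw [← pow_two]
    simpa using h'
  -- a nontrivial commutator
  obtain ⟨a, b, hab⟩ : ∃ a b : G, ⁅a, b⁆ ≠ 1 := by
    by_contra hcon
    push Not at hcon
    have hbot : commutator G = ⊥ := by
      rw [eq_bot_iff, commutator_def, Subgroup.commutator_le]
      intro g₁ _ g₂ _
      rw [Subgroup.mem_bot]
      exact hcon g₁ g₂
    rw [hbot, Subgroup.card_bot] at hc
    omega
  have hzG0 : ⁅a, b⁆ ∈ commutator G := by
    rw [commutator_def]
    exact Subgroup.commutator_mem_commutator (Subgroup.mem_top a) (Subgroup.mem_top b)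
  have hcomm : a * b ≠ b * a := fun h => hab (commutatorElement_eq_one_iff_mul_comm.mpr h)
  obtain ⟨z, hz⟩ : ∃ z, z = ⁅a, b⁆ := ⟨_, rfl⟩
  rw [← hz] at hab hzG0
  have habz : a * b = z * (b * a) := by
    rw [hz, commutatorElement_def]
    group
  have hzZ : z ∈ Subgroup.center G := hZ hzG0
  have hzc : ∀ x : G, x * z = z * x := Subgroup.mem_center_iff.mp hzZ
  have hz2 : z * z = 1 := hsq z hzG0
  have hzinv : z⁻¹ = z := inv_eq_of_mul_eq_one_right hz2
  -- `G' = {1, z}`
  have hG' : ∀ w ∈ commutator G, w = 1 ∨ w = z := by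
    intro w hw
    obtain ⟨y, hy, hyu⟩ := (Nat.card_eq_two_iff' (1 : commutator G)).mp hc
    by_cases hw1 : w = 1
    · exact Or.inl hw1
    · right
      have h1 : (⟨w, hw⟩ : commutator G) = y := hyu _ (fun h => hw1 (congrArg Subtype.val h))
      have h2 : (⟨z, hzG0⟩ : commutator G) = y := hyu _ (fun h => hab (congrArg Subtype.val h))
      exact congrArg Subtype.val (h1.trans h2.symm)
  -- central elements of square one
  have hker : ∀ c ∈ Subgroup.center G, c ^ 2 = 1 → c = 1 ∨ c = z := by
    intro c hcZ hc2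
    by_cases hc1 : c = 1
    · exact Or.inl hc1
    · haveI : Fact (Nat.Prime 2) := ⟨Nat.prime_two⟩
      exact hG' c (hinv c hcZ (orderOf_eq_prime hc2 hc1))
  have hcent : ∀ g : G, g ^ 2 ∈ Subgroup.center G := lm_x2_sq_central hZ hsq
  -- the squaring endomorphism of the centre
  let φ : ↥(Subgroup.center G) →* ↥(Subgroup.center G) :=
    { toFun := fun c => c ^ 2
      map_one' := one_pow 2
      map_mul' := fun x y => by
        have hxy : Commute x y := Subtype.ext (Subgroup.mem_center_iff.mp y.2 x.1)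
        exact hxy.mul_pow 2 }
  have hφ : ∀ c : ↥(Subgroup.center G), ((φ c : ↥(Subgroup.center G)) : G) = (c : G) ^ 2 :=
    fun c => rfl
  obtain ⟨ζ, hζ⟩ : ∃ ζ : ↥(Subgroup.center G), (ζ : G) = z := ⟨⟨z, hzZ⟩, rfl⟩
  have hker2 : Nat.card φ.ker = 2 := by
    rw [Nat.card_eq_two_iff' (1 : φ.ker)]
    have hζk : ζ ∈ φ.ker := by
      rw [MonoidHom.mem_ker]
      apply Subtype.ext
      rw [hφ, hζ, pow_two, hz2]
      rfl
    refine ⟨⟨ζ, hζk⟩, ?_, ?_⟩
    · intro h
      apply hab
      have h1 : (ζ : G) = 1 := congrArg (fun y : φ.ker => ((y : ↥(Subgroup.center G)) : G)) h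
      rw [← hζ, h1]
    · intro y hy
      have hy2 : ((y : ↥(Subgroup.center G)) : G) ^ 2 = 1 := by
        have h1 := MonoidHom.mem_ker.mp y.2
        have h2 := congrArg Subtype.val h1
        rw [hφ] at h2
        exact h2
      rcases hker _ (y : ↥(Subgroup.center G)).2 hy2 with h | h
      · exfalso
        apply hy
        apply Subtype.ext
        apply Subtype.ext
        exact h
      · apply Subtype.ext
        apply Subtype.ext
        rw [h, hζ]
  have hidx : φ.range.index = 2 := by
    have h1 := Subgroup.index_ker φ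
    have h2 := Subgroup.card_mul_index φ.ker
    have h3 := Subgroup.card_mul_index φ.range
    rw [hker2, h1] at h2
    have hpos : 0 < Nat.card φ.range := Nat.card_pos
    have h4 : Nat.card φ.range * φ.range.index = Nat.card φ.range * 2 := by
      rw [h3, ← h2, mul_comm]
    exact Nat.eq_of_mul_eq_mul_left hpos h4
  -- the square of an element, as a central element
  have hsqab : (⟨(a * b) ^ 2, hcent (a * b)⟩ : ↥(Subgroup.center G)) =
      ζ * ((⟨a ^ 2, hcent a⟩ : ↥(Subgroup.center G)) * ⟨b ^ 2, hcent b⟩) := by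
    apply Subtype.ext
    show (a * b) ^ 2 = (ζ : G) * (a ^ 2 * b ^ 2)
    rw [hζ]
    have hba : b * a = z * (a * b) := by
      rw [habz, ← mul_assoc, hz2, one_mul]
    rw [pow_two, pow_two, pow_two]
    calc (a * b) * (a * b) = a * (b * a) * b := by group
      _ = a * (z * (a * b)) * b := by rw [hba]
      _ = (a * z) * (a * b * b) := by group
      _ = (z * a) * (a * b * b) := by rw [hzc a]
      _ = z * (a * a * (b * b)) := by group
  have key : (ζ * (⟨a ^ 2, hcent a⟩ : ↥(Subgroup.center G)) ∈ φ.range) ∨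
      (ζ * (⟨b ^ 2, hcent b⟩ : ↥(Subgroup.center G)) ∈ φ.range) ∨
      (ζ * (⟨(a * b) ^ 2, hcent (a * b)⟩ : ↥(Subgroup.center G)) ∈ φ.range) := by
    rw [hsqab]
    simp only [Subgroup.mul_mem_iff_of_index_two hidx]
    tauto
  -- conclusion from `g ∉ Z` and `z g² = c²`
  have fin : ∀ g : G, g ∉ Subgroup.center G →
      (ζ * (⟨g ^ 2, hcent g⟩ : ↥(Subgroup.center G)) ∈ φ.range) →
      ∃ x : G, x ∉ Subgroup.center G ∧ x ^ 2 ∈ commutator G ∧ x ^ 2 ≠ 1 := by
    rintro g hg ⟨c, hcg⟩
    have hc2 : (c : G) * (c : G) = z * (g * g) := by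
      have h1 := congrArg Subtype.val hcg
      rw [hφ] at h1
      rw [← pow_two, ← pow_two, h1]
      show (ζ : G) * g ^ 2 = z * g ^ 2
      rw [hζ]
    have hcc : ∀ y : G, y * (c : G)⁻¹ = (c : G)⁻¹ * y :=
      Subgroup.mem_center_iff.mp (inv_mem c.2)
    have hx2 : (g * (c : G)⁻¹) ^ 2 = z := by
      rw [pow_two]
      calc (g * (c : G)⁻¹) * (g * (c : G)⁻¹) = g * ((c : G)⁻¹ * g) * (c : G)⁻¹ := by group
        _ = g * (g * (c : G)⁻¹) * (c : G)⁻¹ := by rw [← hcc g]
        _ = g * g * ((c : G) * (c : G))⁻¹ := by group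
        _ = g * g * (z * (g * g))⁻¹ := by rw [hc2]
        _ = z⁻¹ := by group
        _ = z := hzinv
    refine ⟨g * (c : G)⁻¹, ?_, ?_, ?_⟩
    · intro hx
      apply hg
      have h1 := Subgroup.mul_mem _ hx c.2
      rwa [inv_mul_cancel_right] at h1
    · rw [hx2]
      exact hzG0
    · rw [hx2]
      exact hab
  rcases key with h | h | h
  · refine fin a ?_ h
    intro ha
    exact hcomm (Subgroup.mem_center_iff.mp ha b).symm
  · refine fin b ?_ h
    intro hb
    exact hcomm (Subgroup.mem_center_iff.mp hb a)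
  · refine fin (a * b) ?_ h
    intro hab'
    have h1 := Subgroup.mem_center_iff.mp hab' b
    apply hcomm
    have h2 : b * a * b = a * b * b := by rw [mul_assoc b a b]; exact h1
    exact (mul_right_cancel h2).symm

end Cfsg.Agent.Helper14.LM
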