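import Mathlib
import Cfsg.Agent.Helper48.M11UGeo

/-!
# CALL S0420, piece N19 (helper14)
-/

set_option autoImplicit false
open scoped Pointwise

namespace Cfsg.Agent.Helper14
open Cfsg.Agent.Helper48.M11U

universe u
variable {G : Type u} [Group G] [Finite G]

theorem m11u_no19 {X : Type*} [Finite X] (adj : X → X → Prop) (hsymm : ∀ a b, adj a b → adj b a)
    (hirr : ∀ a, ¬ adj a a) (hcard : Nat.card X = 55)
    (hval : ∀ a, Nat.card {b : X // adj a b} = 18)
    (hcl : ∀ a b c, adj a b → adj a c → c ≠ b → adj b c) : False := by
  classical
  haveI : Fintype X := Fintype.ofFinite X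
  let s : Setoid X := ⟨fun a b => a = b ∨ adj a b, ⟨fun a => Or.inl rfl,
    fun {a b} h => h.elim (fun e => Or.inl e.symm) (fun e => Or.inr (hsymm _ _ e)),
    fun {a b c} h1 h2 => by
      rcases h1 with rfl | h1
      · exact h2
      · rcases h2 with rfl | h2
        · exact Or.inr h1
        · by_cases hca : c = a
          · exact Or.inl hca.symm
          · exact Or.inr (hcl b a c (hsymm _ _ h1) h2 hca)⟩⟩
  have hval' : ∀ a, (Finset.univ.filter (fun x : X => adj a x)).card = 18 := by
    intro a
    have := hval a
    rwa [Nat.card_eq_fintype_card, Fintype.card_subtype] at this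
  have hfib : ∀ q : Quotient s,
      (Finset.univ.filter (fun x : X => (Quotient.mk s x) = q)).card = 19 := by
    intro q
    obtain ⟨a, rfl⟩ := Quotient.exists_rep q
    have e : Finset.univ.filter (fun x : X => Quotient.mk s x = Quotient.mk s a) =
        insert a (Finset.univ.filter (fun x => adj a x)) := by
      ext x
      simp only [Finset.mem_filter, Finset.mem_univ, true_and, Finset.mem_insert]
      rw [Quotient.eq]
      constructor
      · rintro (h | h)
        · exact Or.inl h
        · exact Or.inr (hsymm _ _ h)
      · rintro (h | h)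
        · exact Or.inl h
        · exact Or.inr (hsymm _ _ h)
    rw [e, Finset.card_insert_of_notMem (by simp [hirr]), hval' a]
  have hsum := Finset.card_eq_sum_card_fiberwise (s := (Finset.univ : Finset X))
    (t := (Finset.univ : Finset (Quotient s))) (f := Quotient.mk s) (fun x _ => Finset.mem_univ _)
  simp only [hfib, Finset.sum_const, smul_eq_mul] at hsum
  rw [Finset.card_univ, ← Nat.card_eq_fintype_card, hcard] at hsum
  omega

end Cfsg.Agent.Helper14
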