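import Mathlib
import Cfsg.Agent.Helper48.M11UGeo

/-!
# CALL S0420, piece NMU (helper14)
-/

set_option autoImplicit false
open scoped Pointwise

namespace Cfsg.Agent.Helper14
open Cfsg.Agent.Helper48.M11U

universe u
variable {G : Type u} [Group G] [Finite G]

/-- the two other Sylow 3-subgroups inverted by an involution inverting `R` -/
theorem m11u_two_others_aux
    (htri : ∀ z : G, orderOf z = 2 → Nat.card {P : Sylow 3 G // Inv z P} = 3)
    (z : G) (R : Sylow 3 G) (hz : orderOf z = 2) (h1 : Inv z R) :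
    ∃ S T : Sylow 3 G, Inv z S ∧ Inv z T ∧ S ≠ R ∧ T ≠ R ∧ S ≠ T ∧
      ∀ P : Sylow 3 G, Inv z P → P = R ∨ P = S ∨ P = T := by
  classical
  haveI : Fintype (Sylow 3 G) := Fintype.ofFinite _
  have h3 := htri z hz
  rw [Nat.card_eq_fintype_card, Fintype.card_subtype] at h3
  have hR : R ∈ Finset.univ.filter (fun P : Sylow 3 G => Inv z P) := by simp [h1]
  have hc : ((Finset.univ.filter (fun P : Sylow 3 G => Inv z P)).erase R).card = 2 := by
    rw [Finset.card_erase_of_mem hR, h3]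
  obtain ⟨S, T, hST, hE⟩ := Finset.card_eq_two.1 hc
  have hS : S ∈ (Finset.univ.filter (fun P : Sylow 3 G => Inv z P)).erase R := by rw [hE]; simp
  have hT : T ∈ (Finset.univ.filter (fun P : Sylow 3 G => Inv z P)).erase R := by rw [hE]; simp
  rw [Finset.mem_erase, Finset.mem_filter] at hS hT
  refine ⟨S, T, hS.2.2, hT.2.2, hS.1, hT.1, hST, fun P hP => ?_⟩
  by_cases hPR : P = R
  · exact Or.inl hPR
  · right
    have hm : P ∈ (Finset.univ.filter (fun P : Sylow 3 G => Inv z P)).erase R := by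
      rw [Finset.mem_erase, Finset.mem_filter]; exact ⟨hPR, Finset.mem_univ _, hP⟩
    rw [hE] at hm
    simpa using hm

theorem m11u_nn_mu (h : M11Gr G)
    (hthird : ∀ (z : G) (R S U : Sylow 3 G), orderOf z = 2 → Inv z R → Inv z S → R ≠ S →
      Adj U R → Adj U S → Inv z U)
    (hrn : ∀ z : G, orderOf z = 2 → ∀ P : Sylow 3 G, ¬ Inv z P →
      (∀ Q : Sylow 3 G, Inv z Q → ¬ Adj P Q) → z • P = P)
    (hone : ∀ R P : Sylow 3 G, R ≠ P → ¬ Adj R P →
      ∃ z : G, orderOf z = 2 ∧ Inv z R ∧ ∀ Q : Sylow 3 G, Inv z Q → ¬ Adj P Q)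
    (R P : Sylow 3 G) (hne : R ≠ P) (hna : ¬ Adj R P) :
    Nat.card {U : Sylow 3 G // Adj U R ∧ Adj U P} = 8 := by
  classical
  have hl1 := h.geo.l1
  obtain ⟨z₀, hz₀, hz₀R, hz₀P⟩ := hone R P hne hna
  have hz₀nP : ¬ Inv z₀ P := fun hP => hna ⟨hne, z₀, hz₀, hz₀R, hP⟩
  have hz₀sq : z₀ * z₀ = 1 := by
    have := pow_orderOf_eq_one z₀
    rwa [hz₀, pow_two] at this
  have hex : ∀ U : {U : Sylow 3 G // Adj U R ∧ Adj U P},
      ∃ z : G, orderOf z = 2 ∧ Inv z U.1 ∧ Inv z R := fun U => U.2.1.2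
  choose f hf using hex
  have hfne : ∀ U, f U ≠ z₀ := by
    intro U hU
    have h1 := (hf U).2.1
    rw [hU] at h1
    exact hz₀P U.1 h1 (adj_symm U.2.2)
  let g : {U : Sylow 3 G // Adj U R ∧ Adj U P} →
      {z : G // orderOf z = 2 ∧ Inv z R ∧ z ≠ z₀} :=
    fun U => ⟨f U, (hf U).1, (hf U).2.2, hfne U⟩
  have hg : Function.Bijective g := by
    constructor
    · intro U U' hUU'
      have e : f U = f U' := congrArg Subtype.val hUU'
      by_contra hne'
      have hne'' : U.1 ≠ U'.1 := fun e' => hne' (Subtype.ext e')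
      have hU' : Inv (f U) U'.1 := by rw [e]; exact (hf U').2.1
      have hP' : Inv (f U) P := hthird (f U) U.1 U'.1 P (hf U).1 (hf U).2.1 hU' hne''
        (adj_symm U.2.2) (adj_symm U'.2.2)
      exact hna ⟨hne, f U, (hf U).1, (hf U).2.2, hP'⟩
    · rintro ⟨z', hz', hz'R, hz'ne⟩
      obtain ⟨S, T, hS, hT, hSR, hTR, hST, hall⟩ := m11u_two_others_aux hl1.tri z' R hz' hz'R
      have hz'nP : ¬ Inv z' P := fun hP => hna ⟨hne, z', hz', hz'R, hP⟩
      have hadj : Adj P S ∨ Adj P T := by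
        by_contra hcon
        push_neg at hcon
        have hPQ : ∀ Q : Sylow 3 G, Inv z' Q → ¬ Adj P Q := by
          intro Q hQ
          rcases hall Q hQ with rfl | rfl | rfl
          · exact fun hh => hna (adj_symm hh)
          · exact hcon.1
          · exact hcon.2
        have h1 := hrn z' hz' P hz'nP hPQ
        have h0 := hrn z₀ hz₀ P hz₀nP hz₀P
        have hcen : z₀ * z' ∈ (R : Subgroup G) := by
          refine hl1.raw.cent R _ (fun r hr => ?_)
          have e1 := hz'R r hr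
          have e2 := hz₀R r⁻¹ (inv_mem hr)
          calc z₀ * z' * r = z₀ * (z' * r * z'⁻¹) * z' := by group
            _ = z₀ * r⁻¹ * z' := by rw [e1]
            _ = (z₀ * r⁻¹ * z₀⁻¹) * (z₀ * z') := by group
            _ = r * (z₀ * z') := by rw [e2, inv_inv]
        have hsm : (z₀ * z') • P = P := by rw [mul_smul, h1, h0]
        have h11 := hl1.semireg R P (z₀ * z') hcen hsm (Ne.symm hne)
        exact hz'ne (mul_left_cancel (h11.trans hz₀sq.symm))
      rcases hadj with hU | hU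
      · refine ⟨⟨S, ⟨hSR, z', hz', hS, hz'R⟩, adj_symm hU⟩, ?_⟩
        apply Subtype.ext
        exact hl1.uniq _ z' S R (hf _).1 hz' hSR (hf _).2.1 (hf _).2.2 hS hz'R
      · refine ⟨⟨T, ⟨hTR, z', hz', hT, hz'R⟩, adj_symm hU⟩, ?_⟩
        apply Subtype.ext
        exact hl1.uniq _ z' T R (hf _).1 hz' hTR (hf _).2.1 (hf _).2.2 hT hz'R
  rw [Nat.card_eq_of_bijective g hg]
  haveI : Fintype G := Fintype.ofFinite G
  have h9 := hl1.invcount R
  rw [Nat.card_eq_fintype_card, Fintype.card_subtype] at h9 ⊢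
  have e : Finset.univ.filter (fun z : G => orderOf z = 2 ∧ Inv z R ∧ z ≠ z₀) =
      (Finset.univ.filter (fun z : G => orderOf z = 2 ∧ Inv z R)).erase z₀ := by
    ext z
    simp only [Finset.mem_filter, Finset.mem_univ, true_and, Finset.mem_erase]
    tauto
  rw [e, Finset.card_erase_of_mem (by simp [hz₀, hz₀R]), h9]

end Cfsg.Agent.Helper14
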