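import Mathlib
import Cfsg.Agent.Helper48.M11UGeo

/-!
# CALL S0420, piece NN3 (helper14)
-/

set_option autoImplicit false
open scoped Pointwise

namespace Cfsg.Agent.Helper14
open Cfsg.Agent.Helper48.M11U

universe u
variable {G : Type u} [Group G] [Finite G]

/-- the third Sylow 3-subgroup inverted by an involution inverting `R ≠ S` -/
theorem m11u_third_aux (htri : ∀ z : G, orderOf z = 2 → Nat.card {P : Sylow 3 G // Inv z P} = 3)
    (z : G) (R S : Sylow 3 G) (hz : orderOf z = 2) (h1 : Inv z R) (h2 : Inv z S) (hne : R ≠ S) :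
    ∃ T : Sylow 3 G, Inv z T ∧ T ≠ R ∧ T ≠ S ∧ ∀ P : Sylow 3 G, Inv z P → P = R ∨ P = S ∨ P = T := by
  classical
  haveI : Fintype (Sylow 3 G) := Fintype.ofFinite _
  have h3 := htri z hz
  rw [Nat.card_eq_fintype_card, Fintype.card_subtype] at h3
  have hsub : ({R, S} : Finset (Sylow 3 G)) ⊆ Finset.univ.filter (fun P => Inv z P) := by
    intro P hP
    rw [Finset.mem_insert, Finset.mem_singleton] at hP
    rw [Finset.mem_filter]
    rcases hP with rfl | rfl
    · exact ⟨Finset.mem_univ _, h1⟩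
    · exact ⟨Finset.mem_univ _, h2⟩
  have hc : ((Finset.univ.filter (fun P : Sylow 3 G => Inv z P)) \ {R, S}).card = 1 := by
    rw [Finset.card_sdiff_of_subset hsub, h3, Finset.card_pair hne]
  obtain ⟨T, hT⟩ := Finset.card_eq_one.1 hc
  have hTm : T ∈ (Finset.univ.filter (fun P : Sylow 3 G => Inv z P)) \ {R, S} := by
    rw [hT]; exact Finset.mem_singleton_self T
  rw [Finset.mem_sdiff, Finset.mem_filter, Finset.mem_insert, Finset.mem_singleton] at hTm
  refine ⟨T, hTm.1.2, fun e => hTm.2 (Or.inl e), fun e => hTm.2 (Or.inr e), fun P hP => ?_⟩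
  by_cases hPR : P = R
  · exact Or.inl hPR
  · by_cases hPS : P = S
    · exact Or.inr (Or.inl hPS)
    · right; right
      have hPm : P ∈ (Finset.univ.filter (fun P : Sylow 3 G => Inv z P)) \ {R, S} := by
        rw [Finset.mem_sdiff, Finset.mem_filter, Finset.mem_insert, Finset.mem_singleton]
        exact ⟨⟨Finset.mem_univ _, hP⟩, fun h => h.elim hPR hPS⟩
      rw [hT] at hPm
      exact Finset.mem_singleton.1 hPm

theorem m11u_nn_third (h : M11Gr G) (hA : PropA' G) (hB : PropB' G) (z : G) (R S U : Sylow 3 G)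
    (hz : orderOf z = 2) (h1 : Inv z R) (h2 : Inv z S) (hne : R ≠ S) (hUR : Adj U R)
    (hUS : Adj U S) : Inv z U := by
  obtain ⟨T, hT, hTR, hTS, -⟩ := m11u_third_aux h.geo.l1.tri z R S hz h1 h2 hne
  have hRS : Adj R S := ⟨hne, z, hz, h1, h2⟩
  obtain ⟨r, hr, hU | hU⟩ := h.nbr z R S T U hz h1 h2 hT hne (fun e => hTR e.symm)
    (fun e => hTS e.symm) (adj_symm hUR)
  · exfalso
    by_cases hr1 : r = 1
    · rw [hr1, one_smul] at hU
      exact hUS.1 hU
    · exact hA R S hRS r hr hr1 (hU ▸ adj_symm hUS)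
  · by_cases hr1 : r = 1
    · rw [hr1, one_smul] at hU
      rw [hU]; exact hT
    · exfalso
      exact hB z R S T hz h1 h2 hT hne (fun e => hTR e.symm) (fun e => hTS e.symm) r hr hr1
        (hU ▸ adj_symm hUS)

end Cfsg.Agent.Helper14
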