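import Mathlib
import Cfsg.Agent.Helper48.M11UGeo
import Cfsg.Agent.Helper14.M11UNN3

/-!
# CALL S0420, piece NNL (helper14)
-/

set_option autoImplicit false
open scoped Pointwise

namespace Cfsg.Agent.Helper14
open Cfsg.Agent.Helper48.M11U

universe u
variable {G : Type u} [Group G] [Finite G]

theorem m11u_nn_lambda (h : M11Gr G)
    (hthird : ∀ (z : G) (R S U : Sylow 3 G), orderOf z = 2 → Inv z R → Inv z S → R ≠ S →
      Adj U R → Adj U S → Inv z U)
    (R S : Sylow 3 G) (hRS : Adj R S) :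
    Nat.card {U : Sylow 3 G // Adj U R ∧ Adj U S} = 1 := by
  obtain ⟨hne, z, hz, h1, h2⟩ := hRS
  obtain ⟨T, hT, hTR, hTS, hall⟩ := m11u_third_aux h.geo.l1.tri z R S hz h1 h2 hne
  rw [Nat.card_eq_one_iff_unique]
  refine ⟨⟨fun a b => ?_⟩, ⟨⟨T, ⟨hTR, z, hz, hT, h1⟩, ⟨hTS, z, hz, hT, h2⟩⟩⟩⟩
  have key : ∀ U : Sylow 3 G, Adj U R ∧ Adj U S → U = T := by
    rintro U ⟨hUR, hUS⟩
    rcases hall U (hthird z R S U hz h1 h2 hne hUR hUS) with e | e | e
    · exact absurd e hUR.1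
    · exact absurd e hUS.1
    · exact e
  exact Subtype.ext ((key a a.2).trans (key b b.2).symm)

end Cfsg.Agent.Helper14
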