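import Mathlib
import Cfsg.Agent.Helper48.M11UGeo

/-!
# CALL S0420, piece SRG (helper14): there is no strongly regular graph with parameters (55, 18, 1, 8)
-/

set_option autoImplicit false
open scoped Pointwise

namespace Cfsg.Agent.Helper14
open Cfsg.Agent.Helper48.M11U

universe u
variable {G : Type u} [Group G] [Finite G]

theorem m11u_srg55 {X : Type*} [Finite X] (adj : X → X → Prop) (hsymm : ∀ a b, adj a b → adj b a)
    (hirr : ∀ a, ¬ adj a a) (hcard : Nat.card X = 55)
    (hval : ∀ a, Nat.card {b : X // adj a b} = 18)
    (hlam : ∀ a b, adj a b → Nat.card {c : X // adj c a ∧ adj c b} = 1)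
    (hmu : ∀ a b, a ≠ b → ¬ adj a b → Nat.card {c : X // adj c a ∧ adj c b} = 8) : False := by
  classical
  haveI : Fintype X := Fintype.ofFinite X
  have hcardF : Fintype.card X = 55 := by rw [← Nat.card_eq_fintype_card]; exact hcard
  let A : Matrix X X ℝ := Matrix.of fun a b => if adj a b then 1 else 0
  have hAapp : ∀ a b, A a b = if adj a b then 1 else 0 := fun a b => rfl
  have hAsymm : ∀ a b, A a b = A b a := by
    intro a b
    rw [hAapp, hAapp]
    by_cases h : adj a b
    · rw [if_pos h, if_pos (hsymm _ _ h)]
    · rw [if_neg h, if_neg (fun h' => h (hsymm _ _ h'))]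
  have hA : A.IsHermitian :=
    Matrix.IsHermitian.ext (fun i j => by rw [star_trivial]; exact hAsymm j i)
  have hrow : ∀ a, ∑ b, A a b = 18 := by
    intro a
    have h1 := hval a
    rw [Nat.card_eq_fintype_card, Fintype.card_subtype, Finset.card_filter] at h1
    have h2 : ∑ b, A a b = ((∑ b, if adj a b then 1 else 0 : ℕ) : ℝ) := by
      push_cast
      exact Finset.sum_congr rfl fun b _ => hAapp a b
    rw [h2, h1]; norm_num
  have hcount : ∀ a b, ∑ c, A a c * A c b =
      ((Finset.univ.filter (fun c => adj c a ∧ adj c b)).card : ℝ) := by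
    intro a b
    rw [Finset.card_filter]
    push_cast
    refine Finset.sum_congr rfl fun c _ => ?_
    rw [hAsymm a c, hAapp, hAapp]
    by_cases h1 : adj c a <;> by_cases h2 : adj c b <;> simp [h1, h2]
  have hsq : ∀ a b, ∑ c, A a c * A c b = 10 * (if a = b then 1 else 0) - 7 * A a b + 8 := by
    intro a b
    rw [hcount, hAapp]
    by_cases hab : a = b
    · subst hab
      rw [if_pos rfl, if_neg (hirr a)]
      have h18 : (Finset.univ.filter (fun c => adj c a ∧ adj c a)).card = 18 := by
        have := hval a
        rw [Nat.card_eq_fintype_card, Fintype.card_subtype] at this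
        rw [← this]
        congr 1
        ext c
        simp only [Finset.mem_filter, Finset.mem_univ, true_and, and_self]
        exact ⟨fun h => hsymm _ _ h, fun h => hsymm _ _ h⟩
      rw [h18]; norm_num
    · by_cases hadj : adj a b
      · have := hlam a b hadj
        rw [Nat.card_eq_fintype_card, Fintype.card_subtype] at this
        rw [this, if_neg hab, if_pos hadj]; norm_num
      · have := hmu a b hab hadj
        rw [Nat.card_eq_fintype_card, Fintype.card_subtype] at this
        rw [this, if_neg hab, if_neg hadj]; norm_num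
  have heig : ∀ i, hA.eigenvalues i = 18 ∨
      hA.eigenvalues i ^ 2 + 7 * hA.eigenvalues i - 10 = 0 := by
    intro i
    have hv := hA.mulVec_eigenvectorBasis i
    have hvne : ∃ a, (hA.eigenvectorBasis i) a ≠ 0 := by
      by_contra hcon
      push_neg at hcon
      exact hA.eigenvectorBasis.orthonormal.ne_zero i (by ext a; exact hcon a)
    generalize hA.eigenvalues i = lam at hv ⊢
    generalize (⇑(hA.eigenvectorBasis i) : X → ℝ) = v at hv hvne
    have hAv : ∀ a, ∑ b, A a b * v b = lam * v a := by
      intro a
      have := congrFun hv a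
      simpa [Matrix.mulVec, dotProduct] using this
    have h1 : 18 * (∑ b, v b) = lam * (∑ b, v b) := by
      have e1 : ∑ a, ∑ b, A a b * v b = 18 * (∑ b, v b) := by
        rw [Finset.sum_comm, Finset.mul_sum]
        refine Finset.sum_congr rfl fun b _ => ?_
        rw [← Finset.sum_mul]
        have : ∑ a, A a b = 18 := by
          rw [← hrow b]; exact Finset.sum_congr rfl fun a _ => hAsymm a b
        rw [this]
      have e2 : ∑ a, ∑ b, A a b * v b = lam * (∑ b, v b) := by
        rw [Finset.mul_sum]
        exact Finset.sum_congr rfl fun a _ => hAv a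
      rw [← e1, e2]
    have h2 : ∀ a, (lam ^ 2 + 7 * lam - 10) * v a = 8 * (∑ b, v b) := by
      intro a
      have e1 : ∑ c, A a c * (∑ b, A c b * v b) = lam ^ 2 * v a := by
        rw [Finset.sum_congr rfl (fun c _ => by rw [hAv c])]
        rw [show ∑ c, A a c * (lam * v c) = lam * ∑ c, A a c * v c from by
          rw [Finset.mul_sum]; exact Finset.sum_congr rfl fun c _ => by ring]
        rw [hAv a]; ring
      have e2 : ∑ c, A a c * (∑ b, A c b * v b) =
          10 * v a - 7 * (lam * v a) + 8 * (∑ b, v b) := by
        calc ∑ c, A a c * (∑ b, A c b * v b) = ∑ b, (∑ c, A a c * A c b) * v b := by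
              simp only [Finset.mul_sum, Finset.sum_mul]
              rw [Finset.sum_comm]
              exact Finset.sum_congr rfl fun b _ => Finset.sum_congr rfl fun c _ => by ring
          _ = ∑ b, (10 * (if a = b then 1 else 0) - 7 * A a b + 8) * v b := by
              exact Finset.sum_congr rfl fun b _ => by rw [hsq a b]
          _ = 10 * v a - 7 * (∑ b, A a b * v b) + 8 * (∑ b, v b) := by
              simp only [sub_mul, add_mul, Finset.sum_add_distrib, Finset.sum_sub_distrib,
                mul_assoc, ← Finset.mul_sum]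
              simp
          _ = _ := by rw [hAv a]
      linear_combination e2 - e1
    by_cases h18 : lam = 18
    · exact Or.inl h18
    · right
      have hσ0 : (∑ b, v b) = 0 := by
        have : (18 - lam) * (∑ b, v b) = 0 := by linear_combination h1
        rcases mul_eq_zero.1 this with h | h
        · exact absurd (by linarith) h18
        · exact h
      obtain ⟨a, ha⟩ := hvne
      have := h2 a
      rw [hσ0, mul_zero] at this
      exact (mul_eq_zero.1 this).resolve_right ha
  have htr : ∑ i, hA.eigenvalues i = 0 := by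
    have h1 := hA.trace_eq_sum_eigenvalues
    have h2 : A.trace = 0 := by
      simp [Matrix.trace, hAapp, hirr]
    rw [h2] at h1
    simpa using h1.symm
  have hs2 : Real.sqrt 89 * Real.sqrt 89 = 89 := Real.mul_self_sqrt (by norm_num)
  have hirr89 : Irrational (Real.sqrt 89) := by
    have := Nat.Prime.irrational_sqrt (show Nat.Prime 89 by norm_num)
    simpa using this
  have hdec : ∀ i, ∃ δ ε : ℤ,
      2 * hA.eigenvalues i + 7 = 43 * (δ : ℝ) + (ε : ℝ) * Real.sqrt 89 := by
    intro i
    rcases heig i with h | h
    · exact ⟨1, 0, by rw [h]; norm_num⟩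
    · have : (2 * hA.eigenvalues i + 7 - Real.sqrt 89) *
          (2 * hA.eigenvalues i + 7 + Real.sqrt 89) = 0 := by
        linear_combination 4 * h - hs2
      rcases mul_eq_zero.1 this with h' | h'
      · exact ⟨0, 1, by push_cast; linarith⟩
      · exact ⟨0, -1, by push_cast; linarith⟩
  choose δ ε hδε using hdec
  have hsum : (385 : ℝ) = 43 * ((∑ i, δ i : ℤ) : ℝ) + ((∑ i, ε i : ℤ) : ℝ) * Real.sqrt 89 := by
    have h1 : ∑ i, (2 * hA.eigenvalues i + 7) =
        ∑ i, (43 * (δ i : ℝ) + (ε i : ℝ) * Real.sqrt 89) :=
      Finset.sum_congr rfl fun i _ => hδε i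
    rw [Finset.sum_add_distrib, ← Finset.mul_sum, htr, Finset.sum_const, Finset.card_univ, hcardF,
      Finset.sum_add_distrib, ← Finset.mul_sum, ← Finset.sum_mul] at h1
    push_cast
    norm_num at h1
    linarith
  by_cases hD : (∑ i, ε i) = 0
  · rw [hD] at hsum
    have h3 : (385 : ℤ) = 43 * ∑ i, δ i := by
      have : (385 : ℝ) = 43 * ((∑ i, δ i : ℤ) : ℝ) := by simpa using hsum
      exact_mod_cast this
    omega
  · have hir := hirr89.mul_intCast hD
    apply hir.ne_int (385 - 43 * ∑ i, δ i)
    push_cast
    push_cast at hsum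
    linarith

end Cfsg.Agent.Helper14
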