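-- helper14 library: piece m2 of CALL S4415 (helper63): the permutation lemma `n ≤ 4`.
import Cfsg.Prelude.Def_Transfer
import Cfsg.Prelude.Def_Solvable
import Cfsg.Agent.Helper63.N15Defs

set_option autoImplicit false

namespace Cfsg.Agent.Helper14.N15

open Cfsg.Agent.Helper63.N15

/-- The commutator of two `3`-cycles meeting in exactly one point has order divisible by `3`. -/
theorem m2_k0 {α : Type*} (β c : Equiv.Perm α) (x y z p q : α)
    (b1 : β x = y) (b3 : β z = x) (bp : β p = p) (bq : β q = q)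
    (c1 : c x = p) (c3 : c q = x) (cy : c y = y) (cz : c z = z)
    (hxy : x ≠ y) (hxp : x ≠ p) (m : ℕ) (hm : m.Coprime 3)
    (hpow : (β * c * β⁻¹ * c⁻¹) ^ m = 1) : False := by
  have ci_x : c⁻¹ x = q := Equiv.Perm.inv_eq_iff_eq.2 c3.symm
  have bi_q : β⁻¹ q = q := Equiv.Perm.inv_eq_iff_eq.2 bq.symm
  have ci_y : c⁻¹ y = y := Equiv.Perm.inv_eq_iff_eq.2 cy.symm
  have bi_y : β⁻¹ y = x := Equiv.Perm.inv_eq_iff_eq.2 b1.symm
  have ci_p : c⁻¹ p = x := Equiv.Perm.inv_eq_iff_eq.2 c1.symm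
  have bi_x : β⁻¹ x = z := Equiv.Perm.inv_eq_iff_eq.2 b3.symm
  have t1 : (β * c * β⁻¹ * c⁻¹) x = y := by
    simp only [Equiv.Perm.mul_apply, ci_x, bi_q, c3, b1]
  have t2 : (β * c * β⁻¹ * c⁻¹) y = p := by
    simp only [Equiv.Perm.mul_apply, ci_y, bi_y, c1, bp]
  have t3 : (β * c * β⁻¹ * c⁻¹) p = x := by
    simp only [Equiv.Perm.mul_apply, ci_p, bi_x, cz, b3]
  generalize β * c * β⁻¹ * c⁻¹ = τ at hpow t1 t2 t3
  have h3 : (τ ^ 3) x = x := by
    rw [pow_succ, pow_succ, pow_one, Equiv.Perm.mul_apply, Equiv.Perm.mul_apply, t1, t2, t3]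
  have h3k : ∀ k : ℕ, ((τ ^ 3) ^ k) x = x :=
    fun k => Equiv.Perm.pow_apply_eq_self_of_apply_eq_self h3 k
  have hmod : m % 3 = 1 ∨ m % 3 = 2 := by
    have h0 : m % 3 ≠ 0 := by
      intro h0
      have hd : 3 ∣ m := Nat.dvd_of_mod_eq_zero h0
      have := Nat.Coprime.eq_one_of_dvd hm.symm hd
      omega
    omega
  have hx : (τ ^ m) x = x := by rw [hpow]; rfl
  rw [← Nat.mod_add_div m 3, pow_add, pow_mul, Equiv.Perm.mul_apply, h3k] at hx
  rcases hmod with h | h <;> rw [h] at hx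
  · rw [pow_one, t1] at hx
    exact hxy hx.symm
  · rw [pow_two, Equiv.Perm.mul_apply, t1, t2] at hx
    exact hxp hx.symm

/-- The permutation lemma: a transitive permutation representation of a group `G` which is the
normal closure of an element `b` acting as a `3`-cycle, with all commutators of order prime to
`3`, has degree at most `4`. -/
theorem m2_core {G : Type*} [Group G] {α : Type*} [Fintype α] [DecidableEq α]
    (σ : G →* Equiv.Perm α) (b : G) (R : Subgroup G) (m : ℕ)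
    (hm : m.Coprime 3) (hR : ∀ r ∈ R, r ^ m = 1)
    (hf1 : ∀ N : Subgroup G, N.Normal → b ∈ N → N = ⊤)
    (hf3 : ∀ g h : G, g * h * g⁻¹ * h⁻¹ ∈ R)
    (htrans : ∀ i j : α, ∃ g : G, σ g i = j)
    (i₁ i₂ i₃ : α) (h12 : i₁ ≠ i₂) (h23 : i₂ ≠ i₃) (h13 : i₁ ≠ i₃)
    (hb1 : σ b i₁ = i₂) (hb2 : σ b i₂ = i₃) (hb3 : σ b i₃ = i₁)
    (hbo : ∀ i, i ≠ i₁ → i ≠ i₂ → i ≠ i₃ → σ b i = i) : Fintype.card α ≤ 4 := by
  classical
  by_contra hcard
  push Not at hcard
  obtain ⟨Δ, hΔ⟩ : ∃ Δ : Finset α, Δ = {i₁, i₂, i₃} := ⟨_, rfl⟩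
  have memΔ : ∀ w, w ∈ Δ ↔ w = i₁ ∨ w = i₂ ∨ w = i₃ := by
    intro w
    rw [hΔ]
    simp
  have hΔcard : Δ.card = 3 := by
    rw [hΔ, Finset.card_insert_of_notMem, Finset.card_insert_of_notMem, Finset.card_singleton]
    · simpa using h23
    · simp [h12, h13]
  have cjapp : ∀ (g : G) (u : α), σ (g * b * g⁻¹) (σ g u) = σ g (σ b u) := by
    intro g u
    simp [map_mul, map_inv]
  have bΔ : ∀ u ∈ Δ, σ b u ∈ Δ := by
    intro u hu
    rw [memΔ] at hu ⊢
    rcases hu with hu | hu | hu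
    · right; left; rw [hu]; exact hb1
    · right; right; rw [hu]; exact hb2
    · left; rw [hu]; exact hb3
  have bout : ∀ w, w ∉ Δ → σ b w = w := by
    intro w hw
    rw [memΔ] at hw
    push Not at hw
    exact hbo _ hw.1 hw.2.1 hw.2.2
  have bne1 : ∀ u ∈ Δ, σ b u ≠ u := by
    intro u hu
    rw [memΔ] at hu
    rcases hu with hu | hu | hu
    · rw [hu, hb1]; exact h12.symm
    · rw [hu, hb2]; exact h23.symm
    · rw [hu, hb3]; exact h13
  have bne2 : ∀ u ∈ Δ, σ b (σ b u) ≠ u := by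
    intro u hu
    rw [memΔ] at hu
    rcases hu with hu | hu | hu
    · rw [hu, hb1, hb2]; exact h13.symm
    · rw [hu, hb2, hb3]; exact h12
    · rw [hu, hb3, hb1]; exact h23
  have cjfix : ∀ (g : G) (w : α), w ∉ Δ.image (σ g) → σ (g * b * g⁻¹) w = w := by
    intro g w hw
    have hw' : (σ g)⁻¹ w ∉ Δ := by
      intro h
      exact hw (Finset.mem_image.2 ⟨_, h, by simp⟩)
    have h9 := bout _ hw'
    rw [map_mul, map_mul, map_inv, Equiv.Perm.mul_apply, Equiv.Perm.mul_apply, h9,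
      ← Equiv.Perm.mul_apply, mul_inv_cancel, Equiv.Perm.one_apply]
  have imgcard : ∀ g : G, (Δ.image (σ g)).card = 3 := by
    intro g
    rw [Finset.card_image_of_injective _ (σ g).injective, hΔcard]
  -- two conjugates cannot meet in exactly one point (labelled version)
  have ktri : ∀ g h : G, σ g i₁ = σ h i₁ → σ g i₂ ≠ σ h i₂ → σ g i₂ ≠ σ h i₃ →
      σ g i₃ ≠ σ h i₂ → σ g i₃ ≠ σ h i₃ → False := by
    intro g h hx n22 n23 n32 n33
    have hpow : (σ (g * b * g⁻¹) * σ (h * b * h⁻¹) * (σ (g * b * g⁻¹))⁻¹ *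
        (σ (h * b * h⁻¹))⁻¹) ^ m = 1 := by
      rw [← map_inv, ← map_inv, ← map_mul, ← map_mul, ← map_mul, ← map_pow, hR _ (hf3 _ _),
        map_one]
    refine m2_k0 (σ (g * b * g⁻¹)) (σ (h * b * h⁻¹)) (σ g i₁) (σ g i₂) (σ g i₃) (σ h i₂)
      (σ h i₃) ?_ ?_ ?_ ?_ ?_ ?_ ?_ ?_ ?_ ?_ m hm hpow
    · rw [cjapp, hb1]
    · rw [cjapp, hb3]
    · apply cjfix
      intro hmem
      obtain ⟨u, hu, hue⟩ := Finset.mem_image.1 hmem
      rw [memΔ] at hu
      rcases hu with hu | hu | hu <;> rw [hu] at hue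
      · rw [hx] at hue
        exact h12 ((σ h).injective hue)
      · exact n22 hue
      · exact n32 hue
    · apply cjfix
      intro hmem
      obtain ⟨u, hu, hue⟩ := Finset.mem_image.1 hmem
      rw [memΔ] at hu
      rcases hu with hu | hu | hu <;> rw [hu] at hue
      · rw [hx] at hue
        exact h13 ((σ h).injective hue)
      · exact n23 hue
      · exact n33 hue
    · rw [hx, cjapp, hb1]
    · rw [cjapp, hb3, hx]
    · apply cjfix
      intro hmem
      obtain ⟨u, hu, hue⟩ := Finset.mem_image.1 hmem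
      rw [memΔ] at hu
      rcases hu with hu | hu | hu <;> rw [hu] at hue
      · rw [← hx] at hue
        exact h12 ((σ g).injective hue)
      · exact n22 hue.symm
      · exact n23 hue.symm
    · apply cjfix
      intro hmem
      obtain ⟨u, hu, hue⟩ := Finset.mem_image.1 hmem
      rw [memΔ] at hu
      rcases hu with hu | hu | hu <;> rw [hu] at hue
      · rw [← hx] at hue
        exact h13 ((σ g).injective hue)
      · exact n32 hue.symm
      · exact n33 hue.symm
    · intro h'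
      exact h12 ((σ g).injective h')
    · rw [hx]
      intro h'
      exact h12 ((σ h).injective h')
  -- rotation of the labels
  have rot : ∀ (g : G) (u : α), u ∈ Δ → ∃ g' : G, σ g' i₁ = σ g u ∧
      σ g' i₂ = σ g (σ b u) ∧ σ g' i₃ = σ g (σ b (σ b u)) := by
    intro g u hu
    rw [memΔ] at hu
    rcases hu with hu | hu | hu
    · exact ⟨g, by rw [hu], by rw [hu, hb1], by rw [hu, hb1, hb2]⟩
    · exact ⟨g * b, by simp [map_mul, hu, hb1, hb2, hb3], by simp [map_mul, hu, hb1, hb2, hb3],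
        by simp [map_mul, hu, hb1, hb2, hb3]⟩
    · exact ⟨g * (b * b), by simp [map_mul, hu, hb1, hb2, hb3],
        by simp [map_mul, hu, hb1, hb2, hb3], by simp [map_mul, hu, hb1, hb2, hb3]⟩
  -- two conjugates cannot meet in exactly one point (set version)
  have kd : ∀ g h : G, ((Δ.image (σ g)) ∩ (Δ.image (σ h))).card ≠ 1 := by
    intro g h hc
    obtain ⟨a, ha⟩ := Finset.card_eq_one.1 hc
    have hamem : a ∈ Δ.image (σ g) ∩ Δ.image (σ h) := by
      rw [ha]
      exact Finset.mem_singleton_self a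
    rw [Finset.mem_inter, Finset.mem_image, Finset.mem_image] at hamem
    obtain ⟨⟨u, hu, hua⟩, ⟨u', hu', hua'⟩⟩ := hamem
    obtain ⟨g', g1, g2, g3⟩ := rot g u hu
    obtain ⟨h', h1, h2, h3⟩ := rot h u' hu'
    have common : ∀ w, w ∈ Δ.image (σ g) → w ∈ Δ.image (σ h) → w = a := by
      intro w hw1 hw2
      have hw : w ∈ Δ.image (σ g) ∩ Δ.image (σ h) := Finset.mem_inter.2 ⟨hw1, hw2⟩
      rw [ha] at hw
      exact Finset.mem_singleton.1 hw
    have gm : ∀ w ∈ Δ, σ g w ∈ Δ.image (σ g) := fun w hw => Finset.mem_image_of_mem _ hw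
    have hm' : ∀ w ∈ Δ, σ h w ∈ Δ.image (σ h) := fun w hw => Finset.mem_image_of_mem _ hw
    refine ktri g' h' (by rw [g1, h1, hua, hua']) ?_ ?_ ?_ ?_
    · rw [g2, h2]
      intro heq
      have h4 := common _ (gm _ (bΔ u hu)) (heq ▸ hm' _ (bΔ u' hu'))
      rw [← hua] at h4
      exact bne1 u hu ((σ g).injective h4)
    · rw [g2, h3]
      intro heq
      have h4 := common _ (gm _ (bΔ u hu)) (heq ▸ hm' _ (bΔ _ (bΔ u' hu')))
      rw [← hua] at h4
      exact bne1 u hu ((σ g).injective h4)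
    · rw [g3, h2]
      intro heq
      have h4 := common _ (gm _ (bΔ _ (bΔ u hu))) (heq ▸ hm' _ (bΔ u' hu'))
      rw [← hua] at h4
      exact bne2 u hu ((σ g).injective h4)
    · rw [g3, h3]
      intro heq
      have h4 := common _ (gm _ (bΔ _ (bΔ u hu))) (heq ▸ hm' _ (bΔ _ (bΔ u' hu')))
      rw [← hua] at h4
      exact bne2 u hu ((σ g).injective h4)
  -- generation: a proper nonempty subset is crossed by some conjugate
  have gen : ∀ S : Finset α, S.Nonempty → S ≠ Finset.univ →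
      ∃ g : G, ¬ (Δ.image (σ g) ⊆ S) ∧ ¬ Disjoint (Δ.image (σ g)) S := by
    intro S hne hnu
    by_contra hcon
    push Not at hcon
    let H : Subgroup G :=
      { carrier := {k | ∀ w, σ k w ∈ S ↔ w ∈ S}
        one_mem' := by
          intro w
          simp
        mul_mem' := by
          intro k k' hk hk' w
          have hk : ∀ w, σ k w ∈ S ↔ w ∈ S := hk
          have hk' : ∀ w, σ k' w ∈ S ↔ w ∈ S := hk'
          rw [map_mul, Equiv.Perm.mul_apply, hk, hk']
        inv_mem' := by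
          intro k hk w
          have hk : ∀ w, σ k w ∈ S ↔ w ∈ S := hk
          have h5 := hk (σ k⁻¹ w)
          rw [← Equiv.Perm.mul_apply, ← map_mul, mul_inv_cancel, map_one,
            Equiv.Perm.one_apply] at h5
          exact h5.symm }
    have hcj : ∀ g : G, g * b * g⁻¹ ∈ H := by
      intro g w
      by_cases hw : w ∈ Δ.image (σ g)
      · obtain ⟨u, hu, rfl⟩ := Finset.mem_image.1 hw
        rw [cjapp]
        have hw2 : σ g (σ b u) ∈ Δ.image (σ g) := Finset.mem_image_of_mem _ (bΔ u hu)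
        by_cases hsub : Δ.image (σ g) ⊆ S
        · exact ⟨fun _ => hsub hw, fun _ => hsub hw2⟩
        · have hd := hcon g hsub
          exact ⟨fun h => absurd h (Finset.disjoint_left.1 hd hw2),
            fun h => absurd h (Finset.disjoint_left.1 hd hw)⟩
      · rw [cjfix g w hw]
    have hH : H = ⊤ := by
      have hN := hf1 (Subgroup.normalClosure {b}) Subgroup.normalClosure_normal
        (Subgroup.subset_normalClosure (Set.mem_singleton b))
      have hle : Subgroup.normalClosure {b} ≤ H := by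
        show Subgroup.closure (Group.conjugatesOfSet {b}) ≤ H
        rw [Subgroup.closure_le]
        intro a ha
        rw [Group.mem_conjugatesOfSet_iff] at ha
        obtain ⟨x, hx, hxa⟩ := ha
        rw [Set.mem_singleton_iff] at hx
        rw [hx, isConj_iff] at hxa
        obtain ⟨c, rfl⟩ := hxa
        exact hcj c
      rw [hN] at hle
      exact top_le_iff.1 hle
    obtain ⟨w₀, hw₀⟩ := hne
    have hex : ∃ w₁, w₁ ∉ S := by
      by_contra hall
      push Not at hall
      exact hnu (Finset.eq_univ_iff_forall.2 hall)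
    obtain ⟨w₁, hw₁⟩ := hex
    obtain ⟨g, hg⟩ := htrans w₀ w₁
    have hgH : g ∈ H := by
      rw [hH]
      exact Subgroup.mem_top g
    have h6 : ∀ w, σ g w ∈ S ↔ w ∈ S := hgH
    have h7 := (h6 w₀).2 hw₀
    rw [hg] at h7
    exact hw₁ h7
  -- elements acting inside Δ preserve every superset of Δ
  have loc_inv : ∀ k : G, (∀ w ∈ Δ, σ k w ∈ Δ) → (∀ w, w ∉ Δ → σ k w = w) →
      ∀ S : Finset α, Δ ⊆ S → S.image (σ k) = S := by
    intro k hk1 hk2 S hS
    apply Finset.eq_of_subset_of_card_le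
    · intro w hw
      obtain ⟨u, hu, rfl⟩ := Finset.mem_image.1 hw
      by_cases huΔ : u ∈ Δ
      · exact hS (hk1 u huΔ)
      · rw [hk2 u huΔ]
        exact hu
    · rw [Finset.card_image_of_injective _ (σ k).injective]
  have loc_trans : ∀ a ∈ Δ, ∀ v ∈ Δ, ∃ k : G, (∀ w ∈ Δ, σ k w ∈ Δ) ∧
      (∀ w, w ∉ Δ → σ k w = w) ∧ σ k a = v := by
    have L1 : (∀ w ∈ Δ, σ (1 : G) w ∈ Δ) ∧ (∀ w, w ∉ Δ → σ (1 : G) w = w) := by
      constructor
      · intro w hw
        rw [map_one]
        exact hw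
      · intro w _
        rw [map_one]
        rfl
    have Lbb : (∀ w ∈ Δ, σ (b * b) w ∈ Δ) ∧ (∀ w, w ∉ Δ → σ (b * b) w = w) := by
      constructor
      · intro w hw
        rw [map_mul, Equiv.Perm.mul_apply]
        exact bΔ _ (bΔ _ hw)
      · intro w hw
        rw [map_mul, Equiv.Perm.mul_apply, bout w hw, bout w hw]
    intro a ha v hv
    rw [memΔ] at ha hv
    rcases ha with ha | ha | ha <;> rcases hv with hv | hv | hv
    · exact ⟨1, L1.1, L1.2, by rw [ha, hv, map_one]; rfl⟩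
    · exact ⟨b, bΔ, bout, by rw [ha, hv, hb1]⟩
    · exact ⟨b * b, Lbb.1, Lbb.2, by rw [ha, hv, map_mul, Equiv.Perm.mul_apply, hb1, hb2]⟩
    · exact ⟨b * b, Lbb.1, Lbb.2, by rw [ha, hv, map_mul, Equiv.Perm.mul_apply, hb2, hb3]⟩
    · exact ⟨1, L1.1, L1.2, by rw [ha, hv, map_one]; rfl⟩
    · exact ⟨b, bΔ, bout, by rw [ha, hv, hb2]⟩
    · exact ⟨b, bΔ, bout, by rw [ha, hv, hb3]⟩
    · exact ⟨b * b, Lbb.1, Lbb.2, by rw [ha, hv, map_mul, Equiv.Perm.mul_apply, hb3, hb1]⟩
    · exact ⟨1, L1.1, L1.2, by rw [ha, hv, map_one]; rfl⟩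
  -- all 3-subsets of Δ ∪ gΔ are conjugate supports
  have allsub : ∀ g : G, (Δ ∩ Δ.image (σ g)).card = 2 → ∀ Δ' : Finset α,
      Δ' = Δ ∪ Δ.image (σ g) → ∀ v ∈ Δ', ∃ k : G, Δ.image (σ k) = Δ'.erase v := by
    intro g hg Δ' hΔ' v hv
    have h1 : (Δ \ Δ.image (σ g)).card = 1 := by
      have h8 := Finset.card_sdiff_add_card_inter Δ (Δ.image (σ g))
      omega
    have h2 : (Δ.image (σ g) \ Δ).card = 1 := by
      have h8 := Finset.card_sdiff_add_card_inter (Δ.image (σ g)) Δ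
      rw [Finset.inter_comm] at h8
      have h9 := imgcard g
      omega
    obtain ⟨a, ha⟩ := Finset.card_eq_one.1 h1
    obtain ⟨p, hp⟩ := Finset.card_eq_one.1 h2
    have haΔ : a ∈ Δ ∧ a ∉ Δ.image (σ g) := by
      have h8 : a ∈ Δ \ Δ.image (σ g) := by
        rw [ha]
        exact Finset.mem_singleton_self a
      exact Finset.mem_sdiff.1 h8
    have onlya : ∀ w ∈ Δ, w ∉ Δ.image (σ g) → w = a := by
      intro w hw hw'
      have h8 : w ∈ Δ \ Δ.image (σ g) := Finset.mem_sdiff.2 ⟨hw, hw'⟩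
      rw [ha] at h8
      exact Finset.mem_singleton.1 h8
    have onlyp : ∀ w ∈ Δ.image (σ g), w ∉ Δ → w = p := by
      intro w hw hw'
      have h8 : w ∈ Δ.image (σ g) \ Δ := Finset.mem_sdiff.2 ⟨hw, hw'⟩
      rw [hp] at h8
      exact Finset.mem_singleton.1 h8
    have hsubΔ : Δ ⊆ Δ' := by
      rw [hΔ']
      exact Finset.subset_union_left
    by_cases hvΔ : v ∈ Δ
    · obtain ⟨k, hk1, hk2, hk3⟩ := loc_trans a haΔ.1 v hvΔ
      refine ⟨k * g, ?_⟩
      have himg : Δ.image (σ (k * g)) = (Δ.image (σ g)).image (σ k) := by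
        rw [Finset.image_image, map_mul]
        rfl
      have hgΔ : Δ.image (σ g) = Δ'.erase a := by
        ext w
        rw [Finset.mem_erase, hΔ', Finset.mem_union]
        constructor
        · intro hw
          exact ⟨fun h => haΔ.2 (h ▸ hw), Or.inr hw⟩
        · rintro ⟨hwa, hw | hw⟩
          · by_contra hw'
            exact hwa (onlya w hw hw')
          · exact hw
      rw [himg, hgΔ, Finset.image_erase (σ k).injective, loc_inv k hk1 hk2 Δ' hsubΔ, hk3]
    · refine ⟨1, ?_⟩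
      have hvg : v ∈ Δ.image (σ g) := by
        rw [hΔ'] at hv
        rcases Finset.mem_union.1 hv with h | h
        · exact absurd h hvΔ
        · exact h
      rw [map_one, Equiv.Perm.coe_one, Finset.image_id]
      ext w
      rw [Finset.mem_erase, hΔ', Finset.mem_union]
      constructor
      · intro hw
        exact ⟨fun h => hvΔ (h ▸ hw), Or.inl hw⟩
      · rintro ⟨hwv, hw | hw⟩
        · exact hw
        · by_contra hw'
          exact hwv ((onlyp w hw hw').trans (onlyp v hvg hvΔ).symm)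
  -- step 1
  have hΔne : Δ.Nonempty := ⟨i₁, (memΔ i₁).2 (Or.inl rfl)⟩
  have hΔnu : Δ ≠ Finset.univ := by
    intro h
    have h8 := congrArg Finset.card h
    rw [hΔcard, Finset.card_univ] at h8
    omega
  obtain ⟨g, hg1, hg2⟩ := gen Δ hΔne hΔnu
  have hcard2 : (Δ ∩ Δ.image (σ g)).card = 2 := by
    have hle : (Δ ∩ Δ.image (σ g)).card ≤ 3 := by
      rw [← hΔcard]
      exact Finset.card_le_card Finset.inter_subset_left
    have hpos : 0 < (Δ ∩ Δ.image (σ g)).card := by
      rw [Finset.card_pos, Finset.inter_comm]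
      exact Finset.not_disjoint_iff_nonempty_inter.1 hg2
    have hne3 : (Δ ∩ Δ.image (σ g)).card ≠ 3 := by
      intro h3
      apply hg1
      have h8 : Δ ∩ Δ.image (σ g) = Δ.image (σ g) :=
        Finset.eq_of_subset_of_card_le Finset.inter_subset_right (by rw [h3, imgcard])
      rw [← h8]
      exact Finset.inter_subset_left
    have hne1 : (Δ ∩ Δ.image (σ g)).card ≠ 1 := by
      have h8 := kd 1 g
      rwa [map_one, Equiv.Perm.coe_one, Finset.image_id] at h8
    omega
  obtain ⟨Δ', hΔ'⟩ : ∃ Δ' : Finset α, Δ' = Δ ∪ Δ.image (σ g) := ⟨_, rfl⟩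
  have hΔ'card : Δ'.card = 4 := by
    have h8 := Finset.card_union_add_card_inter Δ (Δ.image (σ g))
    rw [← hΔ'] at h8
    have h9 := imgcard g
    omega
  have hΔ'ne : Δ'.Nonempty := by
    rw [← Finset.card_pos]
    omega
  have hΔ'nu : Δ' ≠ Finset.univ := by
    intro h
    have h8 := congrArg Finset.card h
    rw [hΔ'card, Finset.card_univ] at h8
    omega
  -- step 2
  obtain ⟨h, hh1, hh2⟩ := gen Δ' hΔ'ne hΔ'nu
  have hle : (Δ.image (σ h) ∩ Δ').card ≤ 3 := by
    rw [← imgcard h]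
    exact Finset.card_le_card Finset.inter_subset_left
  have hpos : 0 < (Δ.image (σ h) ∩ Δ').card := by
    rw [Finset.card_pos]
    exact Finset.not_disjoint_iff_nonempty_inter.1 hh2
  have hne3 : (Δ.image (σ h) ∩ Δ').card ≠ 3 := by
    intro h3
    apply hh1
    have h8 : Δ.image (σ h) ∩ Δ' = Δ.image (σ h) :=
      Finset.eq_of_subset_of_card_le Finset.inter_subset_left (by rw [h3, imgcard])
    rw [← h8]
    exact Finset.inter_subset_right
  have key : ∃ v ∈ Δ', ((Δ.image (σ h) ∩ Δ').erase v).card = 1 := by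
    by_cases ht : (Δ.image (σ h) ∩ Δ').card = 2
    · obtain ⟨v, hv⟩ := Finset.card_pos.1 hpos
      exact ⟨v, (Finset.mem_inter.1 hv).2, by rw [Finset.card_erase_of_mem hv, ht]⟩
    · have ht1 : (Δ.image (σ h) ∩ Δ').card = 1 := by omega
      have hpos' : 0 < (Δ' \ Δ.image (σ h)).card := by
        have h8 := Finset.card_sdiff_add_card_inter Δ' (Δ.image (σ h))
        rw [Finset.inter_comm] at h8
        omega
      obtain ⟨v, hv⟩ := Finset.card_pos.1 hpos'
      rw [Finset.mem_sdiff] at hv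
      refine ⟨v, hv.1, ?_⟩
      rw [Finset.erase_eq_of_notMem, ht1]
      intro hmem
      exact hv.2 (Finset.mem_inter.1 hmem).1
  obtain ⟨v, hv, hv1⟩ := key
  obtain ⟨k, hk⟩ := allsub g hcard2 Δ' hΔ' v hv
  apply kd h k
  rw [hk, Finset.inter_erase]
  exact hv1

section abs

variable {G : Type*} [Group G] [Finite G] {V : Type*} [AddCommGroup V] [Module (ZMod 3) V]
  [Finite V] {ρ : Representation (ZMod 3) G V} {R : Subgroup G} {b q₁ q₂ q₃ : G} {v₁ v₂ v₃ : V}

theorem m2 (c : Cfg ρ R b q₁ q₂ q₃ v₁ v₂ v₃)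
    (hf1 : ∀ N : Subgroup G, N.Normal → b ∈ N → N = ⊤)
    (hf3 : ∀ g h : G, g * h * g⁻¹ * h⁻¹ ∈ R)
    (n : ℕ) (e : Module.Basis (Fin n) (ZMod 3) V) (h : MonoN ρ b n e) : n ≤ 4 := by
  obtain ⟨hmono, htr, i₁, i₂, i₃, h12, h23, h13, hb1, hb2, hb3, hbo⟩ := h
  have huniq : ∀ (v : V) (j j' : Fin n), (v = e j ∨ v = -e j) → (v = e j' ∨ v = -e j') →
      j = j' := by
    intro v j j' h1 h2
    by_contra hne
    have a1 : e.repr v j ≠ 0 := by
      rcases h1 with h1 | h1 <;> rw [h1] <;> simp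
    have a2 : e.repr v j = 0 := by
      rcases h2 with h2 | h2 <;> rw [h2] <;> simp [Finsupp.single_apply, Ne.symm hne]
    exact a1 a2
  choose s hs using hmono
  have s_one : ∀ i, s 1 i = i := by
    intro i
    have h1 := hs 1 i
    rw [map_one, Module.End.one_apply] at h1
    exact huniq (e i) _ _ h1 (Or.inl rfl)
  have s_mul : ∀ g g' i, s (g * g') i = s g (s g' i) := by
    intro g g' i
    apply huniq (ρ (g * g') (e i)) _ _ (hs (g * g') i)
    rw [map_mul, Module.End.mul_apply]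
    rcases hs g' i with h1 | h1 <;> rcases hs g (s g' i) with h2 | h2 <;> rw [h1] <;>
      simp [h2]
  let σ : G →* Equiv.Perm (Fin n) :=
    { toFun := fun g => ⟨s g, s g⁻¹, fun i => by rw [← s_mul, inv_mul_cancel, s_one],
        fun i => by rw [← s_mul, mul_inv_cancel, s_one]⟩
      map_one' := by
        ext i
        simp [s_one]
      map_mul' := by
        intro g g'
        ext i
        simp [s_mul] }
  have hσ : ∀ g i, σ g i = s g i := fun g i => rfl
  have hR : ∀ r ∈ R, r ^ Nat.card R = 1 := by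
    intro r hr
    have h1 : (⟨r, hr⟩ : ↥R) ^ Nat.card ↥R = 1 := pow_card_eq_one'
    have h3 := congrArg Subtype.val h1
    simpa only [Subgroup.coe_pow, Subgroup.coe_one] using h3
  have hmain := m2_core σ b R (Nat.card R) c.R3 hR hf1 hf3 ?_ i₁ i₂ i₃ h12 h23 h13 ?_ ?_ ?_ ?_
  · simpa using hmain
  · intro i j
    obtain ⟨g, hg⟩ := htr i j
    exact ⟨g, huniq _ _ _ (hs g i) hg⟩
  · exact huniq _ _ _ (hs b i₁) (Or.inl hb1)
  · exact huniq _ _ _ (hs b i₂) (Or.inl hb2)
  · exact huniq _ _ _ (hs b i₃) (Or.inl hb3)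
  · intro i hi1 hi2 hi3
    exact huniq _ _ _ (hs b i) (Or.inl (hbo i hi1 hi2 hi3))

end abs

end Cfsg.Agent.Helper14.N15
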