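-- helper14: piece CE of CALL S1159 (helper6): in a group where `C(a) ≅ Z₂ × PSL₂(F)`
-- (`|F| ≡ 3 mod 4`), a four-group `E ∋ a` has `|C(E)| = 2(|F|+1)`.
import Mathlib
import Cfsg.Agent.Helper42.Ree1158PI
import Cfsg.Agent.Helper5.SLCard

set_option autoImplicit false

namespace Cfsg.Agent.Helper14

/-- the two non-identity elements of `Z₂` coincide -/
theorem ree1159_z2_eq : ∀ x y : Multiplicative (ZMod 2), x ≠ 1 → y ≠ 1 → x = y := by decide

/-- a four-group is `{1, a, b, ab}` -/
theorem ree1159_four_elems {G : Type*} [Group G] [Finite G] (E : Subgroup G)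
    (hE4 : Nat.card E = 4) (a b : G) (haE : a ∈ E) (hbE : b ∈ E) (ha1 : a ≠ 1) (hb1 : b ≠ 1)
    (hba : b ≠ a) (ha2 : a * a = 1) :
    ∀ y ∈ E, y = 1 ∨ y = a ∨ y = b ∨ y = a * b := by
  have h1 : (1 : G) ≠ a := Ne.symm ha1
  have h2 : (1 : G) ≠ b := Ne.symm hb1
  have h3 : (1 : G) ≠ a * b := by
    intro h
    apply hba
    have h' : a * b = a * a := by rw [← h, ha2]
    exact mul_left_cancel h'
  have h4 : a ≠ b := Ne.symm hba
  have h5 : a ≠ a * b := by
    intro h
    apply hb1
    have h' : a * b = a * 1 := by rw [mul_one]; exact h.symm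
    exact mul_left_cancel h'
  have h6 : b ≠ a * b := by
    intro h
    apply ha1
    have h' : a * b = 1 * b := by rw [one_mul]; exact h.symm
    exact mul_right_cancel h'
  have hn1 : (1 : G) ∉ ({a, b, a * b} : Set G) := by
    simp only [Set.mem_insert_iff, Set.mem_singleton_iff, not_or]
    exact ⟨h1, h2, h3⟩
  have hn2 : a ∉ ({b, a * b} : Set G) := by
    simp only [Set.mem_insert_iff, Set.mem_singleton_iff, not_or]
    exact ⟨h4, h5⟩
  have hS4 : ({1, a, b, a * b} : Set G).ncard = 4 := by
    rw [Set.ncard_insert_of_notMem hn1, Set.ncard_insert_of_notMem hn2, Set.ncard_pair h6]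
  have hEn : (E : Set G).ncard = 4 := by
    rw [← Nat.card_coe_set_eq]
    exact hE4
  have hsub : ({1, a, b, a * b} : Set G) ⊆ (E : Set G) := by
    intro y hy
    simp only [Set.mem_insert_iff, Set.mem_singleton_iff] at hy
    rcases hy with h | h | h | h
    · rw [h]; exact E.one_mem
    · rw [h]; exact haE
    · rw [h]; exact hbE
    · rw [h]; exact E.mul_mem haE hbE
  have hEq := Set.eq_of_subset_of_ncard_le hsub (by rw [hEn, hS4])
  intro y hy
  have hy' : y ∈ ({1, a, b, a * b} : Set G) := by
    rw [hEq]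
    exact hy
  simpa only [Set.mem_insert_iff, Set.mem_singleton_iff] using hy'

/-- PIECE CE -/
theorem card_centralizer_four_of_psl2 {G : Type*} [Group G] [Finite G] {F : Type*} [Field F]
    [Fintype F] (h2 : (2 : F) ≠ 0) (hq : Fintype.card F % 4 = 3) (hq7 : 7 ≤ Fintype.card F)
    (a : G) (ha1 : a ≠ 1) (ha2 : a * a = 1)
    (e : ↥(Subgroup.centralizer ({a} : Set G)) ≃*
      Multiplicative (ZMod 2) × Matrix.ProjectiveSpecialLinearGroup (Fin 2) F)
    (E : Subgroup G) (hE4 : Nat.card E = 4) (haE : a ∈ E)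
    (hEc : ∀ x ∈ E, ∀ y ∈ E, x * y = y * x) (hE2 : ∀ x ∈ E, x * x = 1) :
    Nat.card (Subgroup.centralizer (E : Set G)) = 2 * (Fintype.card F + 1) := by
  classical
  have haa : a ∈ Subgroup.centralizer ({a} : Set G) :=
    Subgroup.mem_centralizer_singleton_iff.mpr rfl
  obtain ⟨abar, habar⟩ : ∃ z : ↥(Subgroup.centralizer ({a} : Set G)), (z : G) = a :=
    ⟨⟨a, haa⟩, rfl⟩
  have hcen : ∀ z : ↥(Subgroup.centralizer ({a} : Set G)), z * abar = abar * z := by
    intro z
    apply Subtype.ext
    rw [Subgroup.coe_mul, Subgroup.coe_mul, habar]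
    exact Subgroup.mem_centralizer_singleton_iff.mp z.2
  have habar1 : abar ≠ 1 := by
    intro h
    apply ha1
    rw [← habar, h]
    rfl
  have habar2 : abar * abar = 1 := by
    apply Subtype.ext
    rw [Subgroup.coe_mul, habar, ha2]
    rfl
  have hecen : ∀ w : Multiplicative (ZMod 2) × Matrix.ProjectiveSpecialLinearGroup (Fin 2) F,
      w * e abar = e abar * w := by
    intro w
    obtain ⟨z, rfl⟩ := e.surjective w
    rw [← map_mul, ← map_mul, hcen]
  have he1 : e abar ≠ 1 := by
    intro h
    apply habar1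
    exact e.injective (by rw [h, map_one])
  have he2 : e abar * e abar = 1 := by rw [← map_mul, habar2, map_one]
  -- the second component of `e ā` is trivial
  have hc1 : (e abar).2 = 1 := by
    by_contra hc
    have hcc : (e abar).2 * (e abar).2 = 1 := congrArg Prod.snd he2
    have hPI := Cfsg.Agent.Helper42.psl2_centralizer_involution_card h2 hq (e abar).2 hc hcc
    have htop : Subgroup.centralizer
        ({(e abar).2} : Set (Matrix.ProjectiveSpecialLinearGroup (Fin 2) F)) = ⊤ := by
      ext p
      simp only [Subgroup.mem_top, iff_true]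
      rw [Subgroup.mem_centralizer_singleton_iff]
      exact congrArg Prod.snd (hecen (1, p))
    rw [htop, Subgroup.card_top] at hPI
    have h3 := Cfsg.Agent.Helper5.card_PSL2_mul (F := F)
    rw [Cfsg.Agent.Helper5.card_center_SL2 h2, hPI] at h3
    have hq2 : Fintype.card F + 1 ≤ Fintype.card F ^ 2 - 1 := by
      have : Fintype.card F + 2 ≤ Fintype.card F ^ 2 := by nlinarith
      omega
    have h4 : 7 * (Fintype.card F + 1) ≤ Fintype.card F * (Fintype.card F ^ 2 - 1) :=
      Nat.mul_le_mul hq7 hq2
    omega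
  have hε : (e abar).1 ≠ 1 := by
    intro h
    exact he1 (Prod.ext h hc1)
  have hEa : ∀ y ∈ E, y ∈ Subgroup.centralizer ({a} : Set G) := fun y hy =>
    Subgroup.mem_centralizer_singleton_iff.mpr (hEc y hy a haE)
  obtain ⟨b, hbE, hb1, hba⟩ : ∃ b ∈ E, b ≠ 1 ∧ b ≠ a := by
    by_contra hcon
    push_neg at hcon
    have hsub : (E : Set G) ⊆ {1, a} := by
      intro y hy
      by_cases hy1 : y = 1
      · left; exact hy1
      · right; exact hcon y hy hy1
    have hEn : (E : Set G).ncard = 4 := by
      rw [← Nat.card_coe_set_eq]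
      exact hE4
    have h5 := Set.ncard_le_ncard hsub
    rw [hEn, Set.ncard_pair (Ne.symm ha1)] at h5
    omega
  have hfour := ree1159_four_elems E hE4 a b haE hbE ha1 hb1 hba ha2
  obtain ⟨bbar, hbbar⟩ : ∃ z : ↥(Subgroup.centralizer ({a} : Set G)), (z : G) = b :=
    ⟨⟨b, hEa b hbE⟩, rfl⟩
  have hbbar2 : bbar * bbar = 1 := by
    apply Subtype.ext
    rw [Subgroup.coe_mul, hbbar, hE2 b hbE]
    rfl
  have hβ2 : (e bbar).2 * (e bbar).2 = 1 :=
    congrArg Prod.snd (show e bbar * e bbar = 1 by rw [← map_mul, hbbar2, map_one])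
  have hβ1 : (e bbar).2 ≠ 1 := by
    intro h
    by_cases hδ : (e bbar).1 = 1
    · apply hb1
      have h7 : bbar = 1 := e.injective (by rw [map_one]; exact Prod.ext hδ h)
      rw [← hbbar, h7]
      rfl
    · apply hba
      have h7 : bbar = abar :=
        e.injective (Prod.ext (ree1159_z2_eq _ _ hδ hε) (by rw [h, hc1]))
      rw [← hbbar, h7, habar]
  have hPI := Cfsg.Agent.Helper42.psl2_centralizer_involution_card h2 hq (e bbar).2 hβ1 hβ2
  have hkey : ∀ z : ↥(Subgroup.centralizer ({a} : Set G)),
      (z : G) ∈ Subgroup.centralizer (E : Set G) ↔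
        (e z).2 ∈ Subgroup.centralizer
          ({(e bbar).2} : Set (Matrix.ProjectiveSpecialLinearGroup (Fin 2) F)) := by
    intro z
    rw [Subgroup.mem_centralizer_singleton_iff]
    constructor
    · intro hz
      have h8 : z * bbar = bbar * z := by
        apply Subtype.ext
        rw [Subgroup.coe_mul, Subgroup.coe_mul, hbbar]
        exact (Subgroup.mem_centralizer_iff.mp hz b hbE).symm
      have h9 : e z * e bbar = e bbar * e z := by rw [← map_mul, ← map_mul, h8]
      exact congrArg Prod.snd h9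
    · intro hz
      have h9 : e z * e bbar = e bbar * e z := Prod.ext (mul_comm _ _) hz
      have h8 : z * bbar = bbar * z := e.injective (by rw [map_mul, map_mul, h9])
      have hzb : (z : G) * b = b * z := by
        have h10 := congrArg Subtype.val h8
        rw [Subgroup.coe_mul, Subgroup.coe_mul, hbbar] at h10
        exact h10
      have hza : (z : G) * a = a * z := Subgroup.mem_centralizer_singleton_iff.mp z.2
      rw [Subgroup.mem_centralizer_iff]
      intro y hy
      rcases hfour y hy with h | h | h | h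
      · rw [h, one_mul, mul_one]
      · rw [h]; exact hza.symm
      · rw [h]; exact hzb.symm
      · rw [h]
        calc a * b * (z : G) = a * (b * z) := mul_assoc _ _ _
          _ = a * (z * b) := by rw [hzb]
          _ = (a * z) * b := (mul_assoc _ _ _).symm
          _ = (z * a) * b := by rw [hza]
          _ = z * (a * b) := mul_assoc _ _ _
  have hle : ∀ {x : G}, x ∈ Subgroup.centralizer (E : Set G) →
      x ∈ Subgroup.centralizer ({a} : Set G) := by
    intro x hx
    rw [Subgroup.mem_centralizer_singleton_iff]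
    exact (Subgroup.mem_centralizer_iff.mp hx a haE).symm
  have hc1' : Nat.card (Subgroup.centralizer (E : Set G)) =
      Nat.card {z : ↥(Subgroup.centralizer ({a} : Set G)) //
        (z : G) ∈ Subgroup.centralizer (E : Set G)} :=
    Nat.card_congr (Equiv.subtypeSubtypeEquivSubtype (fun {x} hx => hle hx)).symm
  have hc2 : Nat.card {z : ↥(Subgroup.centralizer ({a} : Set G)) //
        (z : G) ∈ Subgroup.centralizer (E : Set G)} =
      Nat.card {w : Multiplicative (ZMod 2) × Matrix.ProjectiveSpecialLinearGroup (Fin 2) F //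
        w.2 ∈ Subgroup.centralizer
          ({(e bbar).2} : Set (Matrix.ProjectiveSpecialLinearGroup (Fin 2) F))} :=
    Nat.card_congr (e.toEquiv.subtypeEquiv hkey)
  have hc3 : Nat.card {w : Multiplicative (ZMod 2) ×
        Matrix.ProjectiveSpecialLinearGroup (Fin 2) F //
        w.2 ∈ Subgroup.centralizer
          ({(e bbar).2} : Set (Matrix.ProjectiveSpecialLinearGroup (Fin 2) F))} =
      Nat.card (Multiplicative (ZMod 2) × ↥(Subgroup.centralizer
        ({(e bbar).2} : Set (Matrix.ProjectiveSpecialLinearGroup (Fin 2) F)))) :=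
    Nat.card_congr
      { toFun := fun w => (w.1.1, ⟨w.1.2, w.2⟩)
        invFun := fun v => ⟨(v.1, v.2.1), v.2.2⟩
        left_inv := fun _ => rfl
        right_inv := fun _ => rfl }
  rw [hc1', hc2, hc3, Nat.card_prod, hPI]
  congr 1
  rw [Nat.card_eq_fintype_card, Fintype.card_multiplicative, ZMod.card]

end Cfsg.Agent.Helper14
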