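import Mathlib
import Cfsg.Agent.Helper94.S43Defs
import Cfsg.Agent.Helper11.SORT

/-!
# CALL S43 (helper94), piece B2b: conjugation of a `3 × 3` matrix by a root group is a polynomial
of degree four in the parameter, with explicit leading coefficient.
-/

set_option autoImplicit false

namespace Cfsg.Agent.Helper14.S43B2b

open Matrix Cfsg.Agent.Helper71.T4 Cfsg.Agent.Helper94.S43
open Cfsg.Agent.Helper71.SO (bl ruw Nuw)
open scoped Kronecker

variable {F : Type*} [Field F]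

theorem root_conj_poly (h2 : (2 : F) ≠ 0) (S : Matrix (Fin 3) (Fin 3) F) (hS : Sᵀ = S)
    (u w : Fin 3 → F) (huu : bl S u u = 0) (huw : bl S u w = 0) (C : Matrix (Fin 3) (Fin 3) F) :
    ∃ C₁ C₂ C₃ : Matrix (Fin 3) (Fin 3) F, ∀ t : F,
      ruw S u (t • w) * C * ruw S u (-(t • w)) = C + t • C₁ + t ^ 2 • C₂ + t ^ 3 • C₃
        + t ^ 4 • (((bl S w w) ^ 2 * bl S u (C *ᵥ u) / 4) • vecMulVec u (S *ᵥ u)) := by
  set N := Nuw S u w with hN
  set K := vecMulVec u (S *ᵥ u) with hK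
  have h4 : (4 : F) ≠ 0 := by
    have : (4 : F) = 2 * 2 := by norm_num
    rw [this]; exact mul_ne_zero h2 h2
  have hNt : ∀ t : F, Nuw S u (t • w) = t • N := by
    intro t
    simp only [hN, Nuw, Matrix.mulVec_smul, Matrix.vecMulVec_smul, Matrix.smul_vecMulVec, smul_sub]
  have hNt' : ∀ t : F, Nuw S u (-(t • w)) = -(t • N) := by
    intro t
    rw [← neg_smul, hNt, neg_smul]
  have hsym : ∀ x y : Fin 3 → F, (S *ᵥ x) ⬝ᵥ y = bl S x y := by
    intro x y
    unfold bl
    rw [Matrix.dotProduct_mulVec, ← Matrix.mulVec_transpose, hS]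
  have hwu : bl S w u = 0 := by rw [Cfsg.Agent.Helper11.SORT.bl_comm S hS, huw]
  have hNN : N * N = (-(bl S w w)) • K := by
    simp only [hN, hK, Nuw, sub_mul, mul_sub, Matrix.vecMulVec_mul_vecMulVec, hsym, huw, huu, hwu,
      zero_smul, Matrix.vecMulVec_zero, sub_zero, zero_sub, Matrix.vecMulVec_smul, neg_smul]
  have hKCK : K * (C * K) = (bl S u (C *ᵥ u)) • K := by
    rw [hK, Matrix.mul_vecMulVec, Matrix.vecMulVec_mul_vecMulVec, hsym, Matrix.vecMulVec_smul]
  have hlead : N * (N * (C * (N * N))) = ((bl S w w) ^ 2 * bl S u (C *ᵥ u)) • K := by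
    rw [← mul_assoc N N, hNN, Matrix.smul_mul, Matrix.mul_smul, Matrix.mul_smul, hKCK, smul_smul,
      smul_smul]
    congr 1
    ring
  refine ⟨N * C - C * N,
    (2⁻¹ : F) • (N * (N * C)) - N * (C * N) + (2⁻¹ : F) • (C * (N * N)),
    (2⁻¹ : F) • (N * (C * (N * N))) - (2⁻¹ : F) • (N * (N * (C * N))), ?_⟩
  intro t
  have hcoef : ((bl S w w) ^ 2 * bl S u (C *ᵥ u) / 4) • K
      = ((2⁻¹ : F) * 2⁻¹) • (N * (N * (C * (N * N)))) := by
    rw [hlead, smul_smul]
    congr 1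
    field_simp
    ring
  rw [hcoef]
  unfold ruw
  rw [hNt, hNt']
  simp only [add_mul, mul_add, smul_mul_assoc, mul_smul_comm, one_mul, mul_one,
    smul_add, smul_sub, smul_smul, mul_assoc, neg_mul, mul_neg, neg_neg, smul_neg]
  module

end Cfsg.Agent.Helper14.S43B2b
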