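import Mathlib
import Cfsg.Agent.Helper94.S43Defs
import Cfsg.Agent.Helper99.S43QRS
import Cfsg.Agent.Helper76.S43QALG

/-!
# CALL S43 (helper94), piece QC2: `X₂ Y₁ - X₁ Y₂` is scalar for the blocks of a
matrix `qmat X₁ X₂ Z Y₁ Y₂` of `M`.
-/

set_option autoImplicit false

namespace Cfsg.Agent.Helper14.S43QC2

open Matrix Cfsg.Agent.Helper71.T4 Cfsg.Agent.Helper94.S43
open Cfsg.Agent.Helper71.SO (bl ruw Nuw)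
open scoped Kronecker

variable {F : Type*} [Field F]

theorem q_c2 (h2 : (2 : F) ≠ 0) (S : Matrix (Fin 3) (Fin 3) F)
    (M : Subgroup (GL (Fin 4 × Fin 3) F)) (hH : HasH4 S M) (hNS : NSX4 M)
    (X₁ X₂ Z Y₁ Y₂ : Matrix (Fin 3) (Fin 3) F) (h : InM M (qmat X₁ X₂ Z Y₁ Y₂)) :
    ∃ β : F, X₂ * Y₁ - X₁ * Y₂ = β • (1 : Matrix (Fin 3) (Fin 3) F) := by
  have hrot := Cfsg.Agent.Helper99.S43QRS.q_rot S M hH X₁ X₂ Z Y₁ Y₂ h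
  obtain ⟨ρ, hρ, hρm⟩ := h
  obtain ⟨ρ', hρ', hρm'⟩ := hrot
  have hcomm := Cfsg.Agent.Helper76.S43QALG.qmat_comm ρ ρ' X₁ X₂ Z Y₁ Y₂ (-X₂) X₁ Z (-Y₂) Y₁
    hρm hρm'
  have hmem : ρ * ρ' * ρ⁻¹ * ρ'⁻¹ ∈ M :=
    M.mul_mem (M.mul_mem (M.mul_mem hρ hρ') (M.inv_mem hρ)) (M.inv_mem hρ')
  obtain ⟨c, hc⟩ := hNS _ ⟨_, hmem, hcomm⟩
  refine ⟨2⁻¹ * c, ?_⟩
  have h3 : (2 : F) • (X₂ * Y₁ - X₁ * Y₂) = c • (1 : Matrix (Fin 3) (Fin 3) F) := by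
    rw [← hc]
    simp only [Matrix.mul_neg, Matrix.neg_mul, two_smul]
    abel
  rw [mul_smul, ← h3, smul_smul, inv_mul_cancel₀ h2, one_smul]

end Cfsg.Agent.Helper14.S43QC2
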