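import Mathlib
import Cfsg.Agent.Helper94.S43Defs
import Cfsg.Agent.Helper99.S43QRS
import Cfsg.Agent.Helper14.S43QC2

/-!
# CALL S43 (helper94), piece QC3: the products `X₁ Y₂` and `X₂ Y₁` of the blocks of a
matrix `qmat X₁ X₂ Z Y₁ Y₂` of `M` are scalar.
-/

set_option autoImplicit false

namespace Cfsg.Agent.Helper14.S43QC3

open Matrix Cfsg.Agent.Helper71.T4 Cfsg.Agent.Helper94.S43
open Cfsg.Agent.Helper71.SO (bl ruw Nuw)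
open scoped Kronecker

variable {F : Type*} [Field F]

theorem q_c3 (h2 : (2 : F) ≠ 0) (S : Matrix (Fin 3) (Fin 3) F)
    (M : Subgroup (GL (Fin 4 × Fin 3) F)) (hH : HasH4 S M) (hNS : NSX4 M)
    (X₁ X₂ Z Y₁ Y₂ : Matrix (Fin 3) (Fin 3) F) (h : InM M (qmat X₁ X₂ Z Y₁ Y₂)) :
    (∃ β₁ : F, X₁ * Y₂ = β₁ • (1 : Matrix (Fin 3) (Fin 3) F)) ∧
      (∃ β₂ : F, X₂ * Y₁ = β₂ • (1 : Matrix (Fin 3) (Fin 3) F)) := by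
  obtain ⟨β₀, h0⟩ := Cfsg.Agent.Helper14.S43QC2.q_c2 h2 S M hH hNS X₁ X₂ Z Y₁ Y₂ h
  obtain ⟨βp, hp⟩ := Cfsg.Agent.Helper14.S43QC2.q_c2 h2 S M hH hNS _ _ _ _ _
    (Cfsg.Agent.Helper99.S43QRS.q_shear S M hH X₁ X₂ Z Y₁ Y₂ h 1)
  obtain ⟨βm, hm⟩ := Cfsg.Agent.Helper14.S43QC2.q_c2 h2 S M hH hNS _ _ _ _ _
    (Cfsg.Agent.Helper99.S43QRS.q_shear S M hH X₁ X₂ Z Y₁ Y₂ h (-1))
  have key : (2 : F) • (X₁ * Y₂) = (2 * β₀ - βp - βm) • (1 : Matrix (Fin 3) (Fin 3) F) := by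
    have e : (2 : F) • (X₁ * Y₂) = (2 : F) • (X₂ * Y₁ - X₁ * Y₂)
        - ((X₂ - (1 : F) • X₁) * (Y₁ + (1 : F) • Y₂) - X₁ * Y₂)
        - ((X₂ - (-1 : F) • X₁) * (Y₁ + (-1 : F) • Y₂) - X₁ * Y₂) := by
      simp only [one_smul, neg_smul, two_smul, Matrix.sub_mul, Matrix.mul_add,
        Matrix.mul_neg, sub_neg_eq_add, Matrix.add_mul]
      abel
    rw [e, h0, hp, hm, sub_smul, sub_smul, mul_smul]
  have h1 : X₁ * Y₂ = (2⁻¹ * (2 * β₀ - βp - βm)) • (1 : Matrix (Fin 3) (Fin 3) F) := by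
    rw [mul_smul, ← key, smul_smul, inv_mul_cancel₀ h2, one_smul]
  refine ⟨⟨_, h1⟩, ⟨β₀ + 2⁻¹ * (2 * β₀ - βp - βm), ?_⟩⟩
  rw [add_smul, ← h1, ← h0]
  abel

end Cfsg.Agent.Helper14.S43QC3
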