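import Mathlib
import Cfsg.Agent.Helper71.T4Defs
import Cfsg.Agent.Helper71.T4Main
import Cfsg.Agent.Helper94.S43Defs

/-!
# CALL S43 (helper94), piece SWAP: a matrix on `F^a ⊗ F^b` (`b < a`) that maps pure tensors to
pure tensors is a Kronecker product.
-/

set_option autoImplicit false

namespace Cfsg.Agent.Helper14.S43SWAP

open Matrix Cfsg.Agent.Helper71.T4 Cfsg.Agent.Helper94.S43
open scoped Kronecker

variable {F : Type*} [Field F]

theorem kron_of_pure_gt {a b : ℕ} (hab : b < a) (g : Matrix (Fin a × Fin b) (Fin a × Fin b) F)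
    (hg : g.det ≠ 0)
    (h : ∀ (u : Fin a → F) (w : Fin b → F), ∃ (u' : Fin a → F) (w' : Fin b → F),
      g *ᵥ pt u w = pt u' w') : IsKron g := by
  set e : Fin b × Fin a ≃ Fin a × Fin b := Equiv.prodComm _ _ with he
  set g' : Matrix (Fin b × Fin a) (Fin b × Fin a) F := g.submatrix e e with hg'
  have hdet : g'.det ≠ 0 := by rw [hg', Matrix.det_submatrix_equiv_self]; exact hg
  have hpure : ∀ (w : Fin b → F) (u : Fin a → F), ∃ (w' : Fin b → F) (u' : Fin a → F),
      g' *ᵥ pt w u = pt w' u' := by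
    intro w u
    obtain ⟨u', w', huw⟩ := h u w
    refine ⟨w', u', ?_⟩
    have h1 : g' *ᵥ pt w u = (g *ᵥ pt u w) ∘ e := by
      rw [hg', Matrix.submatrix_mulVec_equiv]
      congr 2
      ext ⟨i, k⟩
      simp [pt, he, mul_comm]
    rw [h1, huw]
    ext ⟨k, i⟩
    simp [pt, he, mul_comm]
  obtain ⟨A, B, hAB⟩ := Cfsg.Agent.Helper71.T4Main.kron_of_pure hab g' hdet hpure
  refine ⟨B, A, ?_⟩
  ext ⟨i, k⟩ ⟨j, l⟩
  have := congrFun (congrFun hAB (k, i)) (l, j)
  simp [hg', he, Matrix.kroneckerMap_apply] at this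
  simp [Matrix.kroneckerMap_apply, this, mul_comm]

end Cfsg.Agent.Helper14.S43SWAP
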