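import Mathlib
import Cfsg.Agent.Helper94.S43Defs

/-!
# CALL S43 (helper94), piece XS: the set of `C` with `X4 C ∈ M` is closed under addition, scalar
multiplication and orthogonal conjugation, and consists of self-adjoint matrices.
-/

set_option autoImplicit false

namespace Cfsg.Agent.Helper14.S43XS

open Matrix Cfsg.Agent.Helper71.T4 Cfsg.Agent.Helper94.S43
open Cfsg.Agent.Helper71.SO (bl ruw Nuw)
open scoped Kronecker

variable {F : Type*} [Field F]

theorem xset_add (M : Subgroup (GL (Fin 4 × Fin 3) F)) {C C' : Matrix (Fin 3) (Fin 3) F}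
    (h : InM M (X4 C)) (h' : InM M (X4 C')) : InM M (X4 (C + C')) := by
  obtain ⟨g, hg, hgC⟩ := h
  obtain ⟨g', hg', hgC'⟩ := h'
  exact ⟨g * g', M.mul_mem hg hg', by rw [Units.val_mul, hgC, hgC', X4_mul]⟩

/-- the torus element `diag(α, 1, 1, α⁻¹)` of `Sp_4`. -/
theorem xs_diag_sp (α : F) (hα : α ≠ 0) :
    (Matrix.diagonal ![α, 1, 1, α⁻¹] : Matrix (Fin 4) (Fin 4) F)ᵀ * J4 F *
      Matrix.diagonal ![α, 1, 1, α⁻¹] = (1 : F) • J4 F := by
  ext i j
  fin_cases i <;> fin_cases j <;>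
    simp [J4, Matrix.mul_apply, Matrix.diagonal_apply, hα]

theorem xs_diag_mul (α : F) (hα : α ≠ 0) :
    (Matrix.diagonal ![α, 1, 1, α⁻¹] : Matrix (Fin 4) (Fin 4) F) *
      Matrix.diagonal ![α⁻¹, 1, 1, α] = 1 := by
  ext i j
  fin_cases i <;> fin_cases j <;>
    simp [Matrix.mul_apply, Matrix.diagonal_apply, hα]

theorem xs_diag_single (α : F) :
    (Matrix.diagonal ![α, 1, 1, α⁻¹] : Matrix (Fin 4) (Fin 4) F) * Matrix.single 0 3 (1 : F) *
      Matrix.diagonal ![α⁻¹, 1, 1, α] = (α ^ 2) • Matrix.single 0 3 (1 : F) := by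
  ext i j
  fin_cases i <;> fin_cases j <;>
    simp [Matrix.mul_apply, Fin.sum_univ_four, Matrix.diagonal_apply, Matrix.single_apply, pow_two]

/-- conjugation of `X4 C` by the torus element multiplies `C` by a square. -/
theorem xset_sq (S : Matrix (Fin 3) (Fin 3) F)
    (M : Subgroup (GL (Fin 4 × Fin 3) F)) (hH : HasH4 S M) {C : Matrix (Fin 3) (Fin 3) F}
    (h : InM M (X4 C)) (α : F) : InM M (X4 ((α ^ 2) • C)) := by
  by_cases hα : α = 0
  · subst hα
    refine ⟨1, M.one_mem, ?_⟩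
    rw [Units.val_one]
    simp [X4_zero]
  · obtain ⟨g, hg, hgC⟩ := h
    have hα' : α⁻¹ ≠ 0 := inv_ne_zero hα
    obtain ⟨d, hd, hdm⟩ := hH (Matrix.diagonal ![α, 1, 1, α⁻¹]) 1 1 1 (xs_diag_sp α hα)
      (by simp) (by simp)
    obtain ⟨d', hd', hdm'⟩ := hH (Matrix.diagonal ![α⁻¹, 1, 1, α]) 1 1 1
      (by simpa using xs_diag_sp α⁻¹ hα') (by simp) (by simp)
    refine ⟨d * g * d', M.mul_mem (M.mul_mem hd hg) hd', ?_⟩
    rw [Units.val_mul, Units.val_mul, hdm, hdm', hgC]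
    unfold X4 EK
    rw [Matrix.mul_add, Matrix.add_mul, Matrix.mul_one, ← Matrix.mul_kronecker_mul,
      ← Matrix.mul_kronecker_mul, ← Matrix.mul_kronecker_mul, xs_diag_mul α hα, xs_diag_single]
    simp only [Matrix.one_mul, Matrix.mul_one, Matrix.one_kronecker_one, Matrix.smul_kronecker,
      Matrix.kronecker_smul]

theorem xs_two_squares [Fintype F] (c : F) : ∃ a b : F, a ^ 2 + b ^ 2 = c := by
  rcases Nat.mod_two_eq_zero_or_one (Fintype.card F) with h | h
  · have h2 : ringChar F = 2 := FiniteField.even_card_iff_char_two.2 h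
    obtain ⟨a, ha⟩ := FiniteField.isSquare_of_char_two h2 c
    exact ⟨a, 0, by rw [ha]; ring⟩
  · obtain ⟨a, b, hab⟩ := FiniteField.exists_root_sum_quadratic (f := Polynomial.X ^ 2)
      (g := Polynomial.X ^ 2 - Polynomial.C c) (Polynomial.degree_X_pow 2)
      (Polynomial.degree_X_pow_sub_C (by decide) _) h
    refine ⟨a, b, ?_⟩
    simp at hab
    linear_combination hab

theorem xset_smul [Fintype F] (S : Matrix (Fin 3) (Fin 3) F)
    (M : Subgroup (GL (Fin 4 × Fin 3) F)) (hH : HasH4 S M) {C : Matrix (Fin 3) (Fin 3) F}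
    (h : InM M (X4 C)) (c : F) : InM M (X4 (c • C)) := by
  obtain ⟨a, b, hab⟩ := xs_two_squares c
  have h1 := xset_add M (xset_sq S M hH h a) (xset_sq S M hH h b)
  rw [← add_smul, hab] at h1
  exact h1

theorem xset_conj (S : Matrix (Fin 3) (Fin 3) F) (M : Subgroup (GL (Fin 4 × Fin 3) F))
    (hH : HasH4 S M) {C : Matrix (Fin 3) (Fin 3) F} (h : InM M (X4 C))
    (r r' : Matrix (Fin 3) (Fin 3) F) (hr : rᵀ * S * r = S) (hrr : r * r' = 1) :
    InM M (X4 (r * C * r')) := by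
  obtain ⟨g, hg, hgC⟩ := h
  have hJ : (1 : Matrix (Fin 4) (Fin 4) F)ᵀ * J4 F * 1 = (1 : F) • J4 F := by simp
  have hr'r : r' * r = 1 := mul_eq_one_comm.1 hrr
  have hr' : r'ᵀ * S * r' = S := by
    have h1 : r'ᵀ * (rᵀ * S * r) * r' = S := by
      rw [Matrix.mul_assoc, Matrix.mul_assoc, Matrix.mul_assoc, hrr, Matrix.mul_one,
        ← Matrix.mul_assoc, ← Matrix.transpose_mul, hrr, Matrix.transpose_one, Matrix.one_mul]
    rw [hr] at h1
    exact h1
  obtain ⟨d, hd, hdm⟩ := hH 1 r 1 1 hJ (by rw [hr, one_smul]) (by simp)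
  obtain ⟨d', hd', hdm'⟩ := hH 1 r' 1 1 hJ (by rw [hr', one_smul]) (by simp)
  refine ⟨d * g * d', M.mul_mem (M.mul_mem hd hg) hd', ?_⟩
  rw [Units.val_mul, Units.val_mul, hdm, hdm', hgC]
  unfold X4 EK
  rw [Matrix.mul_add, Matrix.add_mul, Matrix.mul_one, ← Matrix.mul_kronecker_mul,
    ← Matrix.mul_kronecker_mul, ← Matrix.mul_kronecker_mul, Matrix.one_mul, Matrix.one_mul,
    Matrix.mul_one, hrr, Matrix.one_kronecker_one]

theorem xs_single_J :
    (Matrix.single 3 0 (1 : F) : Matrix (Fin 4) (Fin 4) F) * J4 F = Matrix.single 3 3 (1 : F) := by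
  ext i j
  fin_cases i <;> fin_cases j <;>
    simp [J4, Matrix.mul_apply, Matrix.single_apply]

theorem xs_J_single :
    J4 F * (Matrix.single 0 3 (1 : F) : Matrix (Fin 4) (Fin 4) F)
      = (-1 : F) • Matrix.single 3 3 (1 : F) := by
  ext i j
  fin_cases i <;> fin_cases j <;>
    simp [J4, Matrix.mul_apply, Matrix.single_apply]

theorem xs_single_single :
    (Matrix.single 3 3 (1 : F) : Matrix (Fin 4) (Fin 4) F) * Matrix.single 0 3 (1 : F) = 0 := by
  ext i j
  fin_cases i <;> fin_cases j <;>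
    simp [Matrix.mul_apply, Matrix.single_apply]

theorem xset_sa (S : Matrix (Fin 3) (Fin 3) F) (M : Subgroup (GL (Fin 4 × Fin 3) F))
    (hSp : SpLE4 S M) {C : Matrix (Fin 3) (Fin 3) F} (h : InM M (X4 C)) : Cᵀ * S = S * C := by
  obtain ⟨g, hg, hgC⟩ := h
  have h1 := hSp g hg
  rw [hgC] at h1
  have key : (X4 C)ᵀ * Om4 S * X4 C
      = Om4 S + ((Matrix.single 3 3 (1 : F) : Matrix (Fin 4) (Fin 4) F) ⊗ₖ (Cᵀ * S)
        + (-1 : F) • ((Matrix.single 3 3 (1 : F) : Matrix (Fin 4) (Fin 4) F) ⊗ₖ (S * C))) := by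
    unfold Om4 X4 EK
    rw [Matrix.transpose_add, Matrix.transpose_one, ← Matrix.kroneckerMap_transpose,
      Matrix.transpose_single]
    simp only [Matrix.add_mul, Matrix.mul_add, Matrix.one_mul, Matrix.mul_one,
      ← Matrix.mul_kronecker_mul, xs_single_J, xs_J_single, xs_single_single,
      Matrix.zero_kronecker, add_zero, Matrix.smul_kronecker]
    abel
  unfold IsSp4 at h1
  rw [key] at h1
  have h2 : (Matrix.single 3 3 (1 : F) : Matrix (Fin 4) (Fin 4) F) ⊗ₖ (Cᵀ * S)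
        + (-1 : F) • ((Matrix.single 3 3 (1 : F) : Matrix (Fin 4) (Fin 4) F) ⊗ₖ (S * C)) = 0 :=
    add_eq_left.1 h1
  have h3 : Cᵀ * S - S * C = 0 := by
    ext k l
    have h5 := congrFun (congrFun h2 (3, k)) (3, l)
    simp only [Matrix.add_apply, Matrix.smul_apply, Matrix.kroneckerMap_apply,
      Matrix.single_apply_same, one_mul, smul_eq_mul, neg_mul, Matrix.zero_apply] at h5
    rw [Matrix.sub_apply, Matrix.zero_apply, sub_eq_add_neg]
    exact h5
  exact sub_eq_zero.1 h3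

end Cfsg.Agent.Helper14.S43XS
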