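import Mathlib
import Cfsg.Agent.Helper11.SOTR
import Cfsg.Agent.Helper71.SGDefs

/-!
# CALL S5666 piece K3G (helper14, double): `skewN`

A matrix `C` whose `S`-adjoint products `C C†`, `(C+1)(C+1)†` and `(C + RCR)(C + RCR)†`
(`R` any reflection) are all scalar is itself scalar (`n ≥ 3`, characteristic `≠ 2`).
-/

set_option autoImplicit false
set_option linter.unusedVariables false

namespace Cfsg.Agent.Helper14.SGK3G

open Matrix Cfsg.Agent.Helper71.T4 Cfsg.Agent.Helper71.SO Cfsg.Agent.Helper71.SQ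
open Cfsg.Agent.Helper71.SG Cfsg.Agent.Helper11.SORT Cfsg.Agent.Helper11.SOTR
open scoped Kronecker

variable {F : Type*} [Field F] {m n : ℕ}

/-- two linear functionals on `F^n`, `n ≥ 3`, have a common nonzero kernel vector. -/
theorem k3g_ker (hn : 3 ≤ n) (f g : Fin n → F) :
    ∃ x : Fin n → F, x ≠ 0 ∧ x ⬝ᵥ f = 0 ∧ x ⬝ᵥ g = 0 := by
  let φ : (Fin n → F) →ₗ[F] (Fin 2 → F) :=
    { toFun := fun x => ![x ⬝ᵥ f, x ⬝ᵥ g]
      map_add' := by
        intro x y
        ext i
        fin_cases i <;> simp [add_dotProduct]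
      map_smul' := by
        intro c x
        ext i
        fin_cases i <;> simp [smul_dotProduct] }
  have hlt : Module.finrank F (Fin 2 → F) < Module.finrank F (Fin n → F) := by
    rw [Module.finrank_fin_fun, Module.finrank_fin_fun]
    omega
  have hker := LinearMap.ker_ne_bot_of_finrank_lt (f := φ) hlt
  obtain ⟨x, hx, hx0⟩ := (Submodule.ne_bot_iff _).mp hker
  refine ⟨x, hx0, ?_, ?_⟩
  · have := congrFun (LinearMap.mem_ker.mp hx) 0
    simpa [φ] using this
  · have := congrFun (LinearMap.mem_ker.mp hx) 1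
    simpa [φ] using this

/-- skewness at the level of `bl`. -/
theorem k3g_skew (S K : Matrix (Fin n) (Fin n) F) (hK : Kᵀ * S = -(S * K)) (x y : Fin n → F) :
    bl S (K *ᵥ x) y = - bl S x (K *ᵥ y) := by
  unfold bl
  rw [← Matrix.vecMul_transpose K x, ← Matrix.dotProduct_mulVec x Kᵀ (S *ᵥ y),
    Matrix.mulVec_mulVec y Kᵀ S, hK, Matrix.neg_mulVec, dotProduct_neg,
    ← Matrix.mulVec_mulVec y S K]

/-- the `S`-adjoint is anti-multiplicative. -/
theorem k3g_adj_mul (S : Matrix (Fin n) (Fin n) F) (hSSi : S * S⁻¹ = 1)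
    (X Y : Matrix (Fin n) (Fin n) F) :
    S⁻¹ * (X * Y)ᵀ * S = (S⁻¹ * Yᵀ * S) * (S⁻¹ * Xᵀ * S) := by
  rw [Matrix.transpose_mul]
  calc S⁻¹ * (Yᵀ * Xᵀ) * S = S⁻¹ * Yᵀ * (1 * (Xᵀ * S)) := by
        rw [Matrix.one_mul]
        simp only [Matrix.mul_assoc]
    _ = S⁻¹ * Yᵀ * ((S * S⁻¹) * (Xᵀ * S)) := by rw [hSSi]
    _ = (S⁻¹ * Yᵀ * S) * (S⁻¹ * Xᵀ * S) := by simp only [Matrix.mul_assoc]

/-- the vector core: `K` skew with `K² = κ`, `T = K + RKR` with `T²` scalar gives `K v = 0`. -/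
theorem k3g_core (hn : 3 ≤ n) (h2 : (2 : F) ≠ 0) (S : Matrix (Fin n) (Fin n) F) (hS : Sᵀ = S)
    (hdet : S.det ≠ 0) (K : Matrix (Fin n) (Fin n) F)
    (hsk : ∀ x y : Fin n → F, bl S (K *ᵥ x) y = - bl S x (K *ᵥ y))
    (κ : F) (hKK : K * K = κ • (1 : Matrix (Fin n) (Fin n) F))
    (v : Fin n → F) (hv : bl S v v ≠ 0) (τ : F)
    (hTT : (K + Rf S v * K * Rf S v) * (K + Rf S v * K * Rf S v)
      = τ • (1 : Matrix (Fin n) (Fin n) F)) :
    K *ᵥ v = 0 := by
  obtain ⟨Q, hQ⟩ : ∃ Q, Q = bl S v v := ⟨_, rfl⟩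
  obtain ⟨w, hw⟩ : ∃ w, w = K *ᵥ v := ⟨_, rfl⟩
  obtain ⟨T, hT⟩ : ∃ T, T = K + Rf S v * K * Rf S v := ⟨_, rfl⟩
  rw [← hT] at hTT
  rw [← hQ] at hv
  rw [← hw]
  have hv0 : v ≠ 0 := by
    intro h0
    apply hv
    rw [hQ, h0]
    exact bl_zero_left S 0
  have hKKv : ∀ x, K *ᵥ (K *ᵥ x) = κ • x := by
    intro x
    rw [Matrix.mulVec_mulVec, hKK, Matrix.smul_mulVec, Matrix.one_mulVec]
  have hwv : bl S w v = 0 := by
    have h1 := hsk v v
    rw [← hw] at h1
    have h3 : bl S v w = bl S w v := bl_comm S hS v w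
    have h4 : (2 : F) * bl S w v = 0 := by linear_combination h1 - h3
    exact (mul_eq_zero.mp h4).resolve_left h2
  have hvw : bl S v w = 0 := by rw [bl_comm S hS v w]; exact hwv
  have hR : ∀ x, Rf S v *ᵥ x = x - ((2 / Q) * bl S x v) • v := by
    intro x
    rw [hQ]
    unfold Rf
    exact refl_mulVec S (2 / bl S v v) v x
  have hTx : ∀ x, T *ᵥ x = (2 : F) • K *ᵥ x - ((2 / Q) * bl S x v) • w
      + ((2 / Q) * bl S x w) • v := by
    intro x
    have e1 : T *ᵥ x = K *ᵥ x + Rf S v *ᵥ (K *ᵥ (Rf S v *ᵥ x)) := by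
      rw [hT, Matrix.add_mulVec, ← Matrix.mulVec_mulVec, ← Matrix.mulVec_mulVec]
    rw [e1, hR x, Matrix.mulVec_sub, Matrix.mulVec_smul, ← hw, hR, bl_sub_left, bl_smul_left,
      hsk x v, ← hw, hwv]
    module
  have hTv : T *ᵥ v = 0 := by
    rw [hTx v, ← hw, ← hQ, hvw, div_mul_cancel₀ _ hv]
    module
  have hτ : τ = 0 := by
    have h5 : (T * T) *ᵥ v = τ • v := by
      rw [hTT, Matrix.smul_mulVec, Matrix.one_mulVec]
    rw [← Matrix.mulVec_mulVec, hTv, Matrix.mulVec_zero] at h5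
    exact (smul_eq_zero.mp h5.symm).resolve_right hv0
  have hTT0 : ∀ x, T *ᵥ (T *ᵥ x) = 0 := by
    intro x
    rw [Matrix.mulVec_mulVec, hTT, hτ, zero_smul, Matrix.zero_mulVec]
  have hκ : κ = 0 := by
    obtain ⟨x, hx0, hxv, hxw⟩ := k3g_ker hn (S *ᵥ v) (S *ᵥ w)
    have hxv' : bl S x v = 0 := hxv
    have hxw' : bl S x w = 0 := hxw
    have e1 : T *ᵥ x = (2 : F) • K *ᵥ x := by
      rw [hTx, hxv', hxw']
      module
    have hKw' : K *ᵥ w = κ • v := by rw [hw, hKKv]
    have hb1 : bl S (K *ᵥ x) v = 0 := by rw [hsk x v, ← hw, hxw', neg_zero]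
    have hb2 : bl S (K *ᵥ x) w = 0 := by
      rw [hsk x w, hKw', bl_smul_right, hxv', mul_zero, neg_zero]
    have e2 : T *ᵥ (K *ᵥ x) = (2 * κ) • x := by
      rw [hTx, hb1, hb2, hKKv x]
      module
    have e3 := hTT0 x
    rw [e1, Matrix.mulVec_smul, e2, smul_smul] at e3
    rcases smul_eq_zero.mp e3 with h | h
    · rcases mul_eq_zero.mp h with h' | h'
      · exact absurd h' h2
      · rcases mul_eq_zero.mp h' with h'' | h''
        · exact absurd h'' h2
        · exact h''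
    · exact absurd h hx0
  have hKw : K *ᵥ w = 0 := by rw [hw, hKKv, hκ, zero_smul]
  have hww : bl S w w = 0 := by
    have h1 := hsk v w
    rw [← hw, hKw, bl_zero_right, neg_zero] at h1
    exact h1
  by_contra hw0
  obtain ⟨x, hx⟩ := exists_bl_ne S hdet w hw0
  rw [bl_comm S hS w x] at hx
  have hTw : T *ᵥ w = 0 := by
    rw [hTx, hKw, hwv, hww]
    module
  have hTKx : T *ᵥ (K *ᵥ x) = ((2 / Q) * bl S x w) • w := by
    rw [hTx, hKKv, hκ, hsk x v, ← hw, hsk x w, hKw, bl_zero_right]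
    module
  have e := hTT0 x
  rw [hTx x, Matrix.mulVec_add, Matrix.mulVec_sub, Matrix.mulVec_smul, Matrix.mulVec_smul,
    Matrix.mulVec_smul, hTKx, hTw, hTv, smul_zero, smul_zero, sub_zero, add_zero, smul_smul] at e
  rcases smul_eq_zero.mp e with h | h
  · rcases mul_eq_zero.mp h with h' | h'
    · exact absurd h' h2
    · rcases mul_eq_zero.mp h' with h'' | h''
      · exact absurd h'' (div_ne_zero h2 hv)
      · exact absurd h'' hx
  · exact absurd h hw0

/-- Piece K3G. -/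
theorem skewN (hn : 3 ≤ n) (h2 : (2 : F) ≠ 0) (S : Matrix (Fin n) (Fin n) F) (hS : Sᵀ = S)
    (hdet : S.det ≠ 0) (C : Matrix (Fin n) (Fin n) F) (l l' : F)
    (h0 : C * S⁻¹ * Cᵀ * S = l • (1 : Matrix (Fin n) (Fin n) F))
    (h1 : (C + 1) * S⁻¹ * (C + 1)ᵀ * S = l' • (1 : Matrix (Fin n) (Fin n) F))
    (hr : ∀ v : Fin n → F, bl S v v ≠ 0 → ∃ l₂ : F,
      (C + Rf S v * C * Rf S v) * S⁻¹ * (C + Rf S v * C * Rf S v)ᵀ * S
        = l₂ • (1 : Matrix (Fin n) (Fin n) F)) :
    ∃ γ : F, C = γ • (1 : Matrix (Fin n) (Fin n) F) := by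
  have hSiS : S⁻¹ * S = 1 := Matrix.nonsing_inv_mul S (isUnit_iff_ne_zero.mpr hdet)
  have hSSi : S * S⁻¹ = 1 := Matrix.mul_nonsing_inv S (isUnit_iff_ne_zero.mpr hdet)
  obtain ⟨Cd, hCd⟩ : ∃ Cd, Cd = S⁻¹ * Cᵀ * S := ⟨_, rfl⟩
  have h0' : C * Cd = l • (1 : Matrix (Fin n) (Fin n) F) := by
    rw [hCd, ← h0]
    simp only [Matrix.mul_assoc]
  have h1' : (C + 1) * (Cd + 1) = l' • (1 : Matrix (Fin n) (Fin n) F) := by
    rw [← h1, hCd, Matrix.transpose_add, Matrix.transpose_one]
    have e : S⁻¹ * Cᵀ * S + 1 = S⁻¹ * (Cᵀ + 1) * S := by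
      rw [Matrix.mul_add, Matrix.add_mul, Matrix.mul_one, hSiS]
    rw [e]
    simp only [Matrix.mul_assoc]
  obtain ⟨s, hs⟩ : ∃ s, s = l' - l - 1 := ⟨_, rfl⟩
  have hsum : C + Cd = s • (1 : Matrix (Fin n) (Fin n) F) := by
    have e : (C + 1) * (Cd + 1) = C * Cd + C + Cd + 1 := by
      rw [add_mul, mul_add, mul_add, Matrix.mul_one, Matrix.one_mul, Matrix.one_mul]
      abel
    rw [e, h0'] at h1'
    rw [hs, sub_smul, sub_smul, one_smul, ← h1']
    abel
  obtain ⟨γ, hγ⟩ : ∃ γ, γ = s / 2 := ⟨_, rfl⟩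
  have hγ2 : γ + γ = s := by
    rw [hγ]
    field_simp
    ring
  obtain ⟨K, hK⟩ : ∃ K, K = C - γ • (1 : Matrix (Fin n) (Fin n) F) := ⟨_, rfl⟩
  have hCK : C = K + γ • (1 : Matrix (Fin n) (Fin n) F) := by
    rw [hK]
    abel
  have hCd' : Cd = s • (1 : Matrix (Fin n) (Fin n) F) - C := by
    rw [← hsum]
    abel
  have hCdK : Cd = γ • (1 : Matrix (Fin n) (Fin n) F) - K := by
    rw [hCd', hK, ← hγ2, add_smul]
    abel
  have hKd : S⁻¹ * Kᵀ * S = -K := by
    have e : S⁻¹ * Kᵀ * S = Cd - γ • (1 : Matrix (Fin n) (Fin n) F) := by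
      rw [hK, Matrix.transpose_sub, Matrix.transpose_smul, Matrix.transpose_one, Matrix.mul_sub,
        Matrix.sub_mul, Matrix.mul_smul, Matrix.mul_one, Matrix.smul_mul, hSiS, hCd]
    rw [e, hCdK]
    abel
  have hKS : Kᵀ * S = -(S * K) := by
    have e : S * (S⁻¹ * Kᵀ * S) = S * (-K) := by rw [hKd]
    rw [← Matrix.mul_assoc, ← Matrix.mul_assoc, hSSi, Matrix.one_mul, Matrix.mul_neg] at e
    exact e
  have hKK : K * K = (γ * γ - l) • (1 : Matrix (Fin n) (Fin n) F) := by
    have e : C * Cd = (γ * γ) • (1 : Matrix (Fin n) (Fin n) F) - K * K := by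
      rw [hCK, hCdK]
      simp only [add_mul, mul_sub, Matrix.mul_smul, Matrix.smul_mul, Matrix.mul_one,
        Matrix.one_mul, smul_smul]
      abel
    rw [h0'] at e
    rw [sub_smul, e]
    abel
  have hKv : ∀ v : Fin n → F, bl S v v ≠ 0 → K *ᵥ v = 0 := by
    intro v hv
    obtain ⟨l₂, hl₂⟩ := hr v hv
    obtain ⟨R, hR⟩ : ∃ R, R = Rf S v := ⟨_, rfl⟩
    rw [← hR] at hl₂
    have hRR : R * R = 1 := by
      apply mv_ext
      intro x
      rw [← Matrix.mulVec_mulVec, hR]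
      unfold Rf
      rw [refl_mulVec, refl_mulVec, bl_sub_left, bl_smul_left, Matrix.one_mulVec]
      have e : (2 / bl S v v) * (bl S x v - 2 / bl S v v * bl S x v * bl S v v)
          = -(2 / bl S v v * bl S x v) := by
        field_simp
        ring
      rw [e]
      module
    have hRd : S⁻¹ * Rᵀ * S = R := by
      have hiso : Rᵀ * S * R = S := by
        rw [hR]
        exact refl_isom S hS v hv
      have e : Rᵀ * S = S * R := by
        calc Rᵀ * S = Rᵀ * S * (R * R) := by rw [hRR, Matrix.mul_one]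
          _ = (Rᵀ * S * R) * R := by simp only [Matrix.mul_assoc]
          _ = S * R := by rw [hiso]
      rw [Matrix.mul_assoc, e, ← Matrix.mul_assoc, hSiS, Matrix.one_mul]
    obtain ⟨M, hM⟩ : ∃ M, M = C + R * C * R := ⟨_, rfl⟩
    rw [← hM] at hl₂
    have hMd : S⁻¹ * Mᵀ * S = (s + s) • (1 : Matrix (Fin n) (Fin n) F) - M := by
      have e1 : S⁻¹ * (R * C * R)ᵀ * S = R * Cd * R := by
        rw [k3g_adj_mul S hSSi (R * C) R, k3g_adj_mul S hSSi R C, hRd, ← hCd, Matrix.mul_assoc]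
      rw [hM, Matrix.transpose_add, Matrix.mul_add, Matrix.add_mul, e1, ← hCd, hCd']
      rw [Matrix.mul_sub, Matrix.sub_mul, Matrix.mul_smul, Matrix.mul_one, Matrix.smul_mul, hRR,
        add_smul]
      abel
    have hMM : M * ((s + s) • (1 : Matrix (Fin n) (Fin n) F) - M) = l₂ • 1 := by
      rw [← hMd, ← hl₂]
      simp only [Matrix.mul_assoc]
    have hMT : M = (K + R * K * R) + s • (1 : Matrix (Fin n) (Fin n) F) := by
      rw [hM, hCK]
      rw [Matrix.mul_add, Matrix.add_mul, Matrix.mul_smul, Matrix.mul_one, Matrix.smul_mul, hRR,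
        ← hγ2, add_smul]
      abel
    have hTT : (K + R * K * R) * (K + R * K * R)
        = (s * s - l₂) • (1 : Matrix (Fin n) (Fin n) F) := by
      rw [hMT] at hMM
      obtain ⟨T, hT⟩ : ∃ T, T = K + R * K * R := ⟨_, rfl⟩
      rw [← hT] at hMM ⊢
      have e : (T + s • (1 : Matrix (Fin n) (Fin n) F))
          * ((s + s) • (1 : Matrix (Fin n) (Fin n) F) - (T + s • 1))
          = (s * s) • (1 : Matrix (Fin n) (Fin n) F) - T * T := by
        simp only [add_mul, mul_sub, mul_add, Matrix.mul_smul, Matrix.smul_mul, Matrix.mul_one,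
          Matrix.one_mul, smul_smul, add_smul]
        abel
      rw [e] at hMM
      rw [sub_smul, ← hMM]
      abel
    rw [hR] at hTT
    exact k3g_core hn h2 S hS hdet K (k3g_skew S K hKS) _ hKK v hv _ hTT
  have hKx : ∀ x : Fin n → F, K *ᵥ x = 0 := by
    intro x
    by_cases hxx : bl S x x = 0
    · by_cases hx0 : x = 0
      · rw [hx0, Matrix.mulVec_zero]
      · obtain ⟨y, hy⟩ := exists_bl_ne S hdet x hx0
        have hyx : bl S y x = bl S x y := bl_comm S hS y x
        have hp : bl S (x + y) (x + y) = 2 * bl S x y + bl S y y := by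
          rw [bl_add_left, bl_add_right, bl_add_right, hxx, hyx]
          ring
        have hm : bl S (x - y) (x - y) = -(2 * bl S x y) + bl S y y := by
          rw [bl_sub_left, bl_sub_right, bl_sub_right, hxx, hyx]
          ring
        have h4 : (2 : F) * bl S x y ≠ 0 := mul_ne_zero h2 hy
        by_cases hP : bl S (x + y) (x + y) = 0
        · have hq : bl S y y ≠ 0 := by
            intro h
            apply h4
            rw [h, add_zero] at hp
            rw [← hp]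
            exact hP
          have hr' : bl S (x - y) (x - y) ≠ 0 := by
            intro h
            apply h4
            have e : (2 : F) * (2 * bl S x y) = 0 := by linear_combination hP - h - hp + hm
            exact (mul_eq_zero.mp e).resolve_left h2
          have e1 := hKv y hq
          have e2 := hKv (x - y) hr'
          rw [Matrix.mulVec_sub, e1, sub_zero] at e2
          exact e2
        · by_cases hMn : bl S (x - y) (x - y) = 0
          · have hq : bl S y y ≠ 0 := by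
              intro h
              apply h4
              rw [h, add_zero] at hm
              rw [hm] at hMn
              exact neg_eq_zero.mp hMn
            have e1 := hKv y hq
            have e2 := hKv (x + y) hP
            rw [Matrix.mulVec_add, e1, add_zero] at e2
            exact e2
          · have e1 := hKv (x + y) hP
            have e2 := hKv (x - y) hMn
            rw [Matrix.mulVec_add] at e1
            rw [Matrix.mulVec_sub] at e2
            have e3 : (2 : F) • K *ᵥ x = 0 := by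
              have e4 : (2 : F) • K *ᵥ x = (K *ᵥ x + K *ᵥ y) + (K *ᵥ x - K *ᵥ y) := by module
              rw [e4, e1, e2, add_zero]
            exact (smul_eq_zero.mp e3).resolve_left h2
    · exact hKv x hxx
  refine ⟨γ, ?_⟩
  have hK0 : K = 0 := mv_ext K 0 (fun x => by rw [hKx x, Matrix.zero_mulVec])
  rw [hCK, hK0, zero_add]

end Cfsg.Agent.Helper14.SGK3G
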