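import Mathlib
import Cfsg.Agent.Helper14.Coherence
import Cfsg.Agent.Helper75.InnerLin

/-!
# Integer spans of irreducible characters and linear isometries (helper14)

Toolkit for coherence arguments (`Cfsg.zspan`, `Cfsg.zspanOn`, `Cfsg.IsLinearIsometryOn`):

* `classInner_zsmul_right`, `classInner_self_eq_zero` (definiteness).
* `zspan_orth`, `iso_orth`, `iso_orth_left`: orthogonality extends from generators to spans.
* `iso_zero`, `iso_sub`, `iso_neg`: a linear isometry on a span respects `0`, `-`.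
* `zspan_apply_one_int`: values at `1` of members of a span of irreducible characters.
* `zspanOn_add`, `zspanOn_zsmul`, `zspanOn_mono`.
* `genChar_add`, `genChar_neg`, `genChar_sub`, `genChar_zsmul`, `genChar_inner_genChar_int`.
* `genChar_pair`: two generalized characters of norm one that are not orthogonal differ by a sign.
* `genChar_norm_one_apply_one_ne_zero`.
-/

set_option autoImplicit false

namespace Cfsg.Agent.Helper14.ZS

open Cfsg
open scoped ComplexConjugate

section inner

variable {L : Type*} [Group L] [Fintype L]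

theorem classInner_zsmul_right (n : ℤ) (a c : L → ℂ) :
    classInner a (n • c) = (n : ℂ) * classInner a c := by
  rw [← Int.cast_smul_eq_zsmul ℂ n c, Helper15.classInner_smul_right]
  simp

theorem classInner_self_eq_zero {f : L → ℂ} (h : classInner f f = 0) : f = 0 := by
  unfold classInner at h
  have hne : (Nat.card L : ℂ)⁻¹ ≠ 0 := inv_ne_zero (by exact_mod_cast Nat.card_pos.ne')
  have h1 : ∑ g : L, f g * conj (f g) = 0 := (mul_eq_zero.mp h).resolve_left hne
  have h2 : ∑ g : L, (Complex.normSq (f g) : ℂ) = 0 := by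
    rw [← h1]
    apply Finset.sum_congr rfl
    intro g _
    rw [Complex.mul_conj]
  have h3 : ∑ g : L, Complex.normSq (f g) = 0 := by exact_mod_cast h2
  funext g
  have := (Finset.sum_eq_zero_iff_of_nonneg
    (fun g _ => Complex.normSq_nonneg (f g))).mp h3 g (Finset.mem_univ g)
  exact Complex.normSq_eq_zero.mp this

theorem classInner_self_nonneg (f : L → ℂ) : ∃ r : ℝ, 0 ≤ r ∧ classInner f f = r := by
  refine ⟨(Nat.card L : ℝ)⁻¹ * ∑ g : L, Complex.normSq (f g), ?_, ?_⟩
  · apply mul_nonneg
    · positivity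
    · exact Finset.sum_nonneg (fun g _ => Complex.normSq_nonneg (f g))
  · unfold classInner
    push_cast
    congr 1
    apply Finset.sum_congr rfl
    intro g _
    rw [Complex.mul_conj]

theorem zspan_orth {X Y : Set (L → ℂ)} (h : ∀ x ∈ X, ∀ y ∈ Y, classInner x y = 0) :
    ∀ a ∈ zspan X, ∀ b ∈ zspan Y, classInner a b = 0 := by
  intro a ha b hb
  unfold zspan at ha hb
  induction ha using Submodule.span_induction with
  | mem x hx =>
    induction hb using Submodule.span_induction with
    | mem y hy => exact h x hx y hy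
    | zero => exact Helper15.classInner_zero_right _
    | add y z _ _ hy hz => rw [Helper15.classInner_add_right, hy, hz, add_zero]
    | smul n y _ hy => rw [classInner_zsmul_right, hy, mul_zero]
  | zero => exact Helper15.classInner_zero_left _
  | add x z _ _ hx hz => rw [Helper15.classInner_add_left, hx, hz, add_zero]
  | smul n x _ hx => rw [Coh.classInner_zsmul_left, hx, mul_zero]

theorem zspan_apply_one_int {X : Set (L → ℂ)} (hX : ∀ x ∈ X, IsIrrCharacter L x) :
    ∀ a ∈ zspan X, ∃ m : ℤ, a 1 = m := by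
  intro a ha
  unfold zspan at ha
  induction ha using Submodule.span_induction with
  | mem x hx =>
    exact ⟨charDegree x, by
      rw [Helper80.isCharacter_one_eq (Helper79.isCharacter_of_irr (hX x hx))]
      simp⟩
  | zero => exact ⟨0, by simp⟩
  | add x z _ _ hx hz =>
    obtain ⟨m, hm⟩ := hx
    obtain ⟨k, hk⟩ := hz
    exact ⟨m + k, by rw [Pi.add_apply, hm, hk]; push_cast; ring⟩
  | smul n x _ hx =>
    obtain ⟨m, hm⟩ := hx
    exact ⟨n * m, by rw [Pi.smul_apply, hm, zsmul_eq_mul]; push_cast; ring⟩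

end inner

section zspanOn

variable {X : Type*}

theorem zspanOn_add {S : Set (X → ℂ)} {A : Set X} {a b : X → ℂ} (ha : a ∈ zspanOn S A)
    (hb : b ∈ zspanOn S A) : a + b ∈ zspanOn S A :=
  ⟨Submodule.add_mem _ ha.1 hb.1, fun x hx => by rw [Pi.add_apply, ha.2 x hx, hb.2 x hx, add_zero]⟩

theorem zspanOn_zsmul {S : Set (X → ℂ)} {A : Set X} {a : X → ℂ} (ha : a ∈ zspanOn S A) (n : ℤ) :
    n • a ∈ zspanOn S A :=
  ⟨Submodule.smul_mem _ n ha.1, fun x hx => by rw [Pi.smul_apply, ha.2 x hx, smul_zero]⟩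

theorem zspanOn_mono {S T : Set (X → ℂ)} (hST : S ⊆ T) {A : Set X} {a : X → ℂ}
    (ha : a ∈ zspanOn S A) : a ∈ zspanOn T A :=
  ⟨Submodule.span_mono hST ha.1, ha.2⟩

theorem zspan_mono {S T : Set (X → ℂ)} (hST : S ⊆ T) {a : X → ℂ} (ha : a ∈ zspan S) :
    a ∈ zspan T :=
  Submodule.span_mono hST ha

end zspanOn

section iso

variable {L : Type*} [Group L] [Fintype L] {G : Type*} [Group G] [Fintype G]

theorem iso_zero {X : Set (L → ℂ)} {σ : (L → ℂ) → (G → ℂ)}
    (hσ : IsLinearIsometryOn (zspan X) σ) : σ 0 = 0 := by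
  have h := hσ.2.1 0 (Submodule.zero_mem _) 0
  simpa using h

theorem iso_neg {X : Set (L → ℂ)} {σ : (L → ℂ) → (G → ℂ)}
    (hσ : IsLinearIsometryOn (zspan X) σ) {a : L → ℂ} (ha : a ∈ zspan X) : σ (-a) = -σ a := by
  have h := hσ.2.1 a ha (-1)
  simpa using h

theorem iso_sub {X : Set (L → ℂ)} {σ : (L → ℂ) → (G → ℂ)}
    (hσ : IsLinearIsometryOn (zspan X) σ) {a b : L → ℂ} (ha : a ∈ zspan X) (hb : b ∈ zspan X) :
    σ (a - b) = σ a - σ b := by
  rw [sub_eq_add_neg, hσ.1 a ha (-b) (Submodule.neg_mem _ hb), iso_neg hσ hb, sub_eq_add_neg]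

theorem iso_orth {X Y : Set (L → ℂ)} {σ τ : (L → ℂ) → (G → ℂ)}
    (hσ : IsLinearIsometryOn (zspan X) σ) (hτ : IsLinearIsometryOn (zspan Y) τ)
    (h : ∀ x ∈ X, ∀ y ∈ Y, classInner (σ x) (τ y) = 0) :
    ∀ a ∈ zspan X, ∀ b ∈ zspan Y, classInner (σ a) (τ b) = 0 := by
  intro a ha b hb
  unfold zspan at ha hb
  induction ha using Submodule.span_induction with
  | mem x hx =>
    induction hb using Submodule.span_induction with
    | mem y hy => exact h x hx y hy
    | zero => rw [iso_zero hτ]; exact Helper15.classInner_zero_right _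
    | add y z hy' hz' hy hz =>
      rw [hτ.1 y hy' z hz', Helper15.classInner_add_right, hy, hz, add_zero]
    | smul n y hy' hy => rw [hτ.2.1 y hy' n, classInner_zsmul_right, hy, mul_zero]
  | zero => rw [iso_zero hσ]; exact Helper15.classInner_zero_left _
  | add x z hx' hz' hx hz =>
    rw [hσ.1 x hx' z hz', Helper15.classInner_add_left, hx, hz, add_zero]
  | smul n x hx' hx => rw [hσ.2.1 x hx' n, Coh.classInner_zsmul_left, hx, mul_zero]

theorem iso_orth_left {X : Set (L → ℂ)} {σ : (L → ℂ) → (G → ℂ)}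
    (hσ : IsLinearIsometryOn (zspan X) σ) (Δ : G → ℂ)
    (h : ∀ x ∈ X, classInner Δ (σ x) = 0) :
    ∀ a ∈ zspan X, classInner Δ (σ a) = 0 := by
  intro a ha
  unfold zspan at ha
  induction ha using Submodule.span_induction with
  | mem x hx => exact h x hx
  | zero => rw [iso_zero hσ]; exact Helper15.classInner_zero_right _
  | add x z hx' hz' hx hz =>
    rw [hσ.1 x hx' z hz', Helper15.classInner_add_right, hx, hz, add_zero]
  | smul n x hx' hx => rw [hσ.2.1 x hx' n, classInner_zsmul_right, hx, mul_zero]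

end iso

section genChar

variable {G : Type*} [Group G]

theorem genChar_add {A B : G → ℂ} (hA : IsGeneralizedCharacter G A)
    (hB : IsGeneralizedCharacter G B) : IsGeneralizedCharacter G (A + B) := by
  obtain ⟨a, b, ha, hb, rfl⟩ := hA
  obtain ⟨c, d, hc, hd, rfl⟩ := hB
  exact ⟨a + c, b + d, Helper79.isCharacter_add ha hc, Helper79.isCharacter_add hb hd, by abel⟩

theorem genChar_neg {A : G → ℂ} (hA : IsGeneralizedCharacter G A) :
    IsGeneralizedCharacter G (-A) := by
  obtain ⟨a, b, ha, hb, rfl⟩ := hA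
  exact ⟨b, a, hb, ha, by abel⟩

theorem genChar_sub {A B : G → ℂ} (hA : IsGeneralizedCharacter G A)
    (hB : IsGeneralizedCharacter G B) : IsGeneralizedCharacter G (A - B) := by
  rw [sub_eq_add_neg]
  exact genChar_add hA (genChar_neg hB)

theorem genChar_zero : IsGeneralizedCharacter G (0 : G → ℂ) :=
  ⟨0, 0, Helper79.isCharacter_zero, Helper79.isCharacter_zero, by simp⟩

theorem genChar_nsmul {A : G → ℂ} (hA : IsGeneralizedCharacter G A) (n : ℕ) :
    IsGeneralizedCharacter G (n • A) := by
  induction n with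
  | zero => rw [zero_smul]; exact genChar_zero
  | succ k ih => rw [succ_nsmul]; exact genChar_add ih hA

theorem genChar_zsmul {A : G → ℂ} (hA : IsGeneralizedCharacter G A) (n : ℤ) :
    IsGeneralizedCharacter G (n • A) := by
  obtain ⟨k, rfl | rfl⟩ := Int.eq_nat_or_neg n
  · rw [natCast_zsmul]; exact genChar_nsmul hA k
  · rw [neg_smul, natCast_zsmul]; exact genChar_neg (genChar_nsmul hA k)

theorem genChar_sum {ι : Type*} (s : Finset ι) (f : ι → G → ℂ)
    (h : ∀ i ∈ s, IsGeneralizedCharacter G (f i)) :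
    IsGeneralizedCharacter G (∑ i ∈ s, f i) := by
  classical
  induction s using Finset.induction_on with
  | empty => rw [Finset.sum_empty]; exact genChar_zero
  | insert a s ha ih =>
    rw [Finset.sum_insert ha]
    exact genChar_add (h a (Finset.mem_insert_self a s))
      (ih (fun i hi => h i (Finset.mem_insert_of_mem hi)))

variable [Fintype G]

theorem genChar_inner_genChar_int {A B : G → ℂ} (hA : IsGeneralizedCharacter G A)
    (hB : IsGeneralizedCharacter G B) : ∃ z : ℤ, classInner A B = z := by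
  obtain ⟨c, d, hc, hd, rfl⟩ := hB
  obtain ⟨z₁, h₁⟩ := Coh.genChar_inner_int hA hc
  obtain ⟨z₂, h₂⟩ := Coh.genChar_inner_int hA hd
  refine ⟨z₁ - z₂, ?_⟩
  rw [Helper75.classInner_sub_right, h₁, h₂]
  push_cast
  rfl

/-- Two generalized characters of norm one that are not orthogonal differ by a sign. -/
theorem genChar_pair {A B : G → ℂ} (hA : IsGeneralizedCharacter G A)
    (hB : IsGeneralizedCharacter G B) (hA1 : classInner A A = 1) (hB1 : classInner B B = 1)
    (hne : classInner A B ≠ 0) :
    ∃ ε : ℂ, (ε = 1 ∨ ε = -1) ∧ A = ε • B ∧ classInner A B = ε := by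
  classical
  obtain ⟨ξ, hξ⟩ := Helper4.genChar_norm_one hA hA1
  obtain ⟨ζ, hζ⟩ := Helper4.genChar_norm_one hB hB1
  have key : ξ = ζ := by
    by_contra hcon
    apply hne
    have h0 : classInner (ξ : G → ℂ) (ζ : G → ℂ) = 0 := by
      rw [Helper15.irr_inner, if_neg hcon]
    rcases hξ with h | h <;> rcases hζ with h' | h' <;> rw [h, h'] <;>
      simp [Helper75.classInner_neg_left, Helper75.classInner_neg_right, h0]
  subst key
  have h1 : classInner (ξ : G → ℂ) (ξ : G → ℂ) = 1 := by
    rw [Helper15.irr_inner, if_pos rfl]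
  rcases hξ with h | h <;> rcases hζ with h' | h'
  · exact ⟨1, Or.inl rfl, by rw [h, h', one_smul], by rw [h, h', h1]⟩
  · exact ⟨-1, Or.inr rfl, by rw [h, h']; simp,
      by rw [h, h', Helper75.classInner_neg_right, h1]⟩
  · exact ⟨-1, Or.inr rfl, by rw [h, h']; simp,
      by rw [h, h', Helper75.classInner_neg_left, h1]⟩
  · exact ⟨1, Or.inl rfl, by rw [h, h', one_smul],
      by rw [h, h', Helper75.classInner_neg_left, Helper75.classInner_neg_right, h1, neg_neg]⟩

theorem genChar_norm_one_apply_one_ne_zero {A : G → ℂ} (hA : IsGeneralizedCharacter G A)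
    (hA1 : classInner A A = 1) : A 1 ≠ 0 := by
  obtain ⟨ξ, hξ | hξ⟩ := Helper4.genChar_norm_one hA hA1
  · rw [hξ, Helper80.irr_one_eq ξ]
    exact_mod_cast (Helper80.irr_degree_pos ξ).ne'
  · rw [hξ, Pi.neg_apply, Helper80.irr_one_eq ξ, neg_ne_zero]
    exact_mod_cast (Helper80.irr_degree_pos ξ).ne'

end genChar

end Cfsg.Agent.Helper14.ZS
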